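import Groth.Agent.PP38.PullId
import Groth.Agent.Synt29.ConormalSeq
import Mathlib

/-! The exact sequence of conormal sheaves of two immersions. -/

set_option autoImplicit false
set_option linter.style.haveILetI false

universe u

open CategoryTheory CategoryTheory.Limits AlgebraicGeometry TopologicalSpace Opposite
open scoped TensorProduct

namespace Groth.Agent.PP38.ConTrans

open Groth.Agent.Synt29 Groth.Agent.Synt29.OmegaStalk Groth.Agent.Synt29.ConormalStalk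
  Groth.Agent.KFlatLib

section Class

variable {Z X : Scheme.{u}} (i : Z ⟶ X) [IsImmersion i] [QuasiCompact i] (x : Z)

/-- the class of a germ of the ideal in the stalk of the conormal sheaf -/
noncomputable def cl (m : St (I i) (i x)) : St (Omega.conormal i) x :=
  ((stalkPullbackIso i x).app (I i)).inv (unit1 i x m)

omit [IsImmersion i] [QuasiCompact i] in
lemma cl_gm {U : X.Opens} (hU : i x ∈ U) (k : Γ(I i, U)) :
    cl i x (gm (I i) hU k) =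
      gm (Omega.conormal i) (show x ∈ i ⁻¹ᵁ U from hU) (OmegaSh.conormalSect i U k) := by
  refine (ConcreteCategory.bijective_of_isIso ((stalkPullbackIso i x).app (I i)).hom).1 ?_
  exact (Iso.inv_hom_id_apply _ _).trans (stalkPullbackIso_gm i (I i) x (show x ∈ i ⁻¹ᵁ U from hU) k).symm

omit [IsImmersion i] [QuasiCompact i] in
lemma cl_add (m m' : St (I i) (i x)) : cl i x (m + m') = cl i x m + cl i x m' :=
  (congrArg ((stalkPullbackIso i x).app (I i)).inv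
    (show unit1 i x (m + m') = unit1 i x m + unit1 i x m' from map_add _ m m')).trans
    (map_add ((stalkPullbackIso i x).app (I i)).inv.hom _ _)

lemma cl_surjective (z : St (Omega.conormal i) x) : ∃ m, cl i x m = z := by
  obtain ⟨U, hx, k, rfl⟩ := exists_conormalSect i x z
  exact ⟨gm (I i) hx k, cl_gm i x hx k⟩

lemma cl_zero_of_mem_sq {m : St (I i) (i x)} {a : X.presheaf.stalk (i x)} (h : Rep i (i x) m a)
    (ha : a ∈ RingHom.ker (i.stalkMap x).hom ^ 2) : cl i x m = 0 :=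
  (congrArg _ (unit1_eq_zero_of_mem_sq i h ha)).trans (map_zero _)

omit [IsImmersion i] in
lemma mem_sq_of_cl_zero (hs : Function.Surjective (i.stalkMap x)) {m : St (I i) (i x)}
    {a : X.presheaf.stalk (i x)} (h : Rep i (i x) m a) (h0 : cl i x m = 0) :
    a ∈ RingHom.ker (i.stalkMap x).hom ^ 2 :=
  ConormalSeq.mem_sq_of_unit1_eq_zero i hs h
    ((ConcreteCategory.bijective_of_isIso ((stalkPullbackIso i x).app (I i)).inv).1
      (h0.trans (map_zero _).symm))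

end Class

theorem map_le_rfl {Z : Scheme.{u}} (M : Z.Modules) (U : Z.Opens) (h : U ≤ U) (t : Γ(M, U)) :
    M.presheaf.map (homOfLE h).op t = t := by
  rw [show (homOfLE h).op = 𝟙 (op U) from rfl, M.presheaf.map_id]
  rfl

variable {Y' Y X : Scheme.{u}} (f : Y ⟶ X) [IsImmersion f] [QuasiCompact f]
  (j : Y' ⟶ Y) [IsImmersion j] [QuasiCompact j]
  (φ₁ : (Scheme.Modules.pullback j).obj (Omega.conormal f) ⟶ Omega.conormal (j ≫ f))
  (hφ₁ : OmegaSh.IsConormalMap (j ≫ f) f (𝟙 X) j φ₁)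
  (φ₂ : (Scheme.Modules.pullback (𝟙 Y')).obj (Omega.conormal (j ≫ f)) ⟶ Omega.conormal j)
  (hφ₂ : OmegaSh.IsConormalMap j (j ≫ f) f (𝟙 Y') φ₂)

/-- the second map, out of the conormal sheaf itself -/
noncomputable abbrev π₂ : Omega.conormal (j ≫ f) ⟶ Omega.conormal j :=
  (Scheme.Modules.pullbackId Y').inv.app (Omega.conormal (j ≫ f)) ≫ φ₂

include hφ₂ in
lemma exists_π₂_app (U : X.Opens) (k : Γ(I (j ≫ f), U)) :
    ∃ s : Γ(I j, f ⁻¹ᵁ U),
      OmegaSh.idealSect j.ker (f ⁻¹ᵁ U) s = f.app U (OmegaSh.idealSect (j ≫ f).ker U k) ∧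
      (π₂ f j φ₂).app ((j ≫ f) ⁻¹ᵁ U) (OmegaSh.conormalSect (j ≫ f) U k) =
        OmegaSh.conormalSect j (f ⁻¹ᵁ U) s := by
  have h0 : j.app (f ⁻¹ᵁ U) (f.app U (OmegaSh.idealSect (j ≫ f).ker U k)) = 0 :=
    OmegaUniv.app_idealSect (j ≫ f) U k
  obtain ⟨s, hs⟩ := OmegaUniv.exists_idealSect_of_app_eq_zero j _ _ h0
  refine ⟨s, hs, ?_⟩
  rw [π₂, Scheme.Modules.Hom.comp_app, ConcreteCategory.comp_apply]
  refine (congrArg (φ₂.app ((j ≫ f) ⁻¹ᵁ U)) (pullbackId_inv_app (Omega.conormal (j ≫ f))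
    ((j ≫ f) ⁻¹ᵁ U) (OmegaSh.conormalSect (j ≫ f) U k))).trans ?_
  have h := hφ₂.2 U k s hs ((j ≫ f) ⁻¹ᵁ U) le_rfl le_rfl
  exact ((map_le_rfl _ _ _ _).symm.trans h).trans (map_le_rfl _ _ _ _)

include hφ₁ in
lemma exists_φ₁_app (U : X.Opens) (k : Γ(I f, U)) :
    ∃ s : Γ(I (j ≫ f), U),
      OmegaSh.idealSect (j ≫ f).ker U s = OmegaSh.idealSect f.ker U k ∧
      φ₁.app (j ⁻¹ᵁ (f ⁻¹ᵁ U))
          (OmegaSh.pullSect j (Omega.conormal f) (f ⁻¹ᵁ U) (OmegaSh.conormalSect f U k)) =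
        OmegaSh.conormalSect (j ≫ f) U s := by
  have h0 : (j ≫ f).app U (OmegaSh.idealSect f.ker U k) = 0 := by
    show j.app _ (f.app U _) = 0
    rw [OmegaUniv.app_idealSect, map_zero]
  obtain ⟨s, hs⟩ := OmegaUniv.exists_idealSect_of_app_eq_zero (j ≫ f) _ _ h0
  refine ⟨s, hs, ?_⟩
  have h := hφ₁.2 U k s hs ((j ≫ f) ⁻¹ᵁ U) le_rfl le_rfl
  exact ((map_le_rfl _ _ _ _).symm.trans h).trans (map_le_rfl _ _ _ _)

include hφ₁ hφ₂ in
theorem comp_zero : φ₁ ≫ π₂ f j φ₂ = 0 := by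
  apply ((Scheme.Modules.pullbackPushforwardAdjunction j).homEquiv _ _).injective
  apply ((Scheme.Modules.pullbackPushforwardAdjunction f).homEquiv _ _).injective
  refine Scheme.Modules.hom_ext _ _ fun U => ?_
  ext k
  simp only [Adjunction.homEquiv_unit]
  obtain ⟨s, hs, h1⟩ := exists_φ₁_app f j φ₁ hφ₁ U k
  obtain ⟨t, ht, h2⟩ := exists_π₂_app f j φ₂ hφ₂ U s
  show (π₂ f j φ₂).app ((j ≫ f) ⁻¹ᵁ U) (φ₁.app (j ⁻¹ᵁ (f ⁻¹ᵁ U))
    (OmegaSh.pullSect j (Omega.conormal f) (f ⁻¹ᵁ U) (OmegaSh.conormalSect f U k))) = 0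
  rw [h1]
  refine h2.trans ?_
  have ht0 : t = 0 := by
    apply OmegaLib.idealSect_injective j.ker (f ⁻¹ᵁ U)
    rw [ht, hs, OmegaUniv.app_idealSect, map_zero]
  rw [ht0, map_zero]
  rfl

include hφ₂ in
lemma map_cl (x : Y') (m : St (I (j ≫ f)) ((j ≫ f) x)) (a : X.presheaf.stalk ((j ≫ f) x))
    (h : Rep (j ≫ f) ((j ≫ f) x) m a) :
    ∃ n, Rep j (j x) n (f.stalkMap (j x) a) ∧
      (DerSch.stalkFunctor Y' x).map (π₂ f j φ₂) (cl (j ≫ f) x m) = cl j x n := by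
  obtain ⟨U, hU, k, rfl, rfl⟩ := h
  obtain ⟨s, hs, he⟩ := exists_π₂_app f j φ₂ hφ₂ U k
  have hU' : j x ∈ f ⁻¹ᵁ U := hU
  refine ⟨gm (I j) hU' s, ⟨f ⁻¹ᵁ U, hU', s, rfl, ?_⟩, ?_⟩
  · rw [hs]
    exact (Scheme.Hom.germ_stalkMap_apply f U (j x) hU' _).symm
  · rw [cl_gm, cl_gm]
    exact (DerSch.stalkFunctor_map_germ x (π₂ f j φ₂) _ hU _).trans (congrArg (gm (Omega.conormal j) (show x ∈ j ⁻¹ᵁ (f ⁻¹ᵁ U) from hU)) he)

include hφ₂ in
theorem epi : Epi (π₂ f j φ₂) := by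
  rw [epi_iff_stalk]
  intro x z
  obtain ⟨n, rfl⟩ := cl_surjective j x z
  obtain ⟨b, hb⟩ := rep_exists j (j x) n
  obtain ⟨a, ha⟩ := f.stalkMap_surjective (j x) b
  have ha0 : (j ≫ f).stalkMap x a = 0 := by
    rw [Scheme.Hom.stalkMap_comp]
    show j.stalkMap x (f.stalkMap (j x) a) = 0
    rw [ha]
    exact rep_mem j hb
  obtain ⟨m, hm⟩ := exists_rep (j ≫ f) ha0
  obtain ⟨n', hn', he⟩ := map_cl f j φ₂ hφ₂ x m a hm
  refine ⟨cl (j ≫ f) x m, he.trans ?_⟩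
  rw [rep_inj j hn' (show Rep j (j x) n _ from ha ▸ hb)]

include hφ₁ hφ₂ in
theorem exact (w : φ₁ ≫ π₂ f j φ₂ = 0) : (ShortComplex.mk φ₁ (π₂ f j φ₂) w).Exact := by
  rw [exact_iff_stalk]
  intro x
  rw [ShortComplex.moduleCat_exact_iff]
  intro z hz
  obtain ⟨m, rfl⟩ := cl_surjective (j ≫ f) x z
  obtain ⟨a, ha⟩ := rep_exists (j ≫ f) _ m
  obtain ⟨n, hn, he⟩ := map_cl f j φ₂ hφ₂ x m a ha
  have hsq := mem_sq_of_cl_zero j x (j.stalkMap_surjective x) hn (he.symm.trans hz)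
  let fs : X.presheaf.stalk ((j ≫ f) x) →+* Y.presheaf.stalk (j x) := (f.stalkMap (j x)).hom
  let K2 : Ideal (X.presheaf.stalk ((j ≫ f) x)) := RingHom.ker ((j ≫ f).stalkMap x).hom
  have hK : RingHom.ker (j.stalkMap x).hom ≤ K2.map fs := fun b hb => by
    obtain ⟨a', ha'⟩ := f.stalkMap_surjective (j x) b
    rw [← ha']
    refine Ideal.mem_map_of_mem fs ?_
    show (j ≫ f).stalkMap x a' = 0
    rw [Scheme.Hom.stalkMap_comp]
    show j.stalkMap x (f.stalkMap (j x) a') = 0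
    rw [ha']
    exact hb
  have hsq' : fs a ∈ (K2 ^ 2).map fs := by
    rw [Ideal.map_pow]
    exact Ideal.pow_right_mono hK 2 hsq
  obtain ⟨b', hb', hba'⟩ := (Ideal.mem_map_iff_of_surjective fs (f.stalkMap_surjective (j x))).1 hsq'
  let b : X.presheaf.stalk ((j ≫ f) x) := b'
  have hb : b ∈ K2 ^ 2 := hb'
  have hba : fs b = fs a := hba'
  have hc : f.stalkMap (j x) (a - b) = 0 := by
    show fs (a - b) = 0
    rw [map_sub, hba, sub_self]
  obtain ⟨m₀, hm₀⟩ := exists_rep f hc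
  obtain ⟨U, hU, k, rfl, hk⟩ := hm₀
  obtain ⟨s, hs, he₁⟩ := exists_φ₁_app f j φ₁ hφ₁ U k
  have hU' : (j ≫ f) x ∈ U := hU
  refine ⟨gm ((Scheme.Modules.pullback j).obj (Omega.conormal f))
    (show x ∈ j ⁻¹ᵁ (f ⁻¹ᵁ U) from hU)
    (OmegaSh.pullSect j (Omega.conormal f) (f ⁻¹ᵁ U) (OmegaSh.conormalSect f U k)), ?_⟩
  refine ((DerSch.stalkFunctor_map_germ x φ₁ _ (show x ∈ j ⁻¹ᵁ (f ⁻¹ᵁ U) from hU) _).trans
    (congrArg (gm _ (show x ∈ j ⁻¹ᵁ (f ⁻¹ᵁ U) from hU)) he₁)).trans ?_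
  refine (cl_gm (j ≫ f) x hU' s).symm.trans ?_
  have hs' : Rep (j ≫ f) ((j ≫ f) x) (gm (I (j ≫ f)) hU' s) (a - b) := ⟨U, hU', s, rfl, by
    rw [hs]
    exact hk⟩
  obtain ⟨mb, hmb⟩ := exists_rep (j ≫ f) (x := x) (a := b)
    (RingHom.mem_ker.1 (Ideal.pow_le_self two_ne_zero hb))
  have h3 := rep_add (j ≫ f) hs' hmb
  rw [sub_add_cancel] at h3
  show cl (j ≫ f) x (gm (I (j ≫ f)) hU' s) = cl (j ≫ f) x m
  rw [← rep_inj (j ≫ f) h3 ha, cl_add, cl_zero_of_mem_sq (j ≫ f) x hmb hb, add_zero]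

end Groth.Agent.PP38.ConTrans
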