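import Groth.Prelude.Def_OmegaPn
import Groth.Agent.FComplLib.IdealComap
import Mathlib.AlgebraicGeometry.Morphisms.Finite
import Mathlib.AlgebraicGeometry.Morphisms.Proper
import Mathlib.AlgebraicGeometry.Morphisms.Affine

/-!
# Infinitesimal neighbourhoods: functoriality, base change, finiteness
-/

set_option autoImplicit false
set_option linter.style.haveILetI false

noncomputable section

universe u

open CategoryTheory CategoryTheory.Limits AlgebraicGeometry TopologicalSpace Opposite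

namespace Groth.Agent.PP38

variable {X Y : Scheme.{u}}

theorem pow_mono {I J : X.IdealSheafData} (h : I ≤ J) (n : ℕ) : I ^ n ≤ J ^ n := fun U => by
  rw [Scheme.IdealSheafData.ideal_pow, Scheme.IdealSheafData.ideal_pow, Pi.pow_apply, Pi.pow_apply]
  exact Ideal.pow_right_mono (h U) n

theorem pow_le_map {X' Y' : Scheme.{u}} (i : Y ⟶ X) (i' : Y' ⟶ X') (g : X' ⟶ X) (gZ : Y' ⟶ Y)
    (w : i' ≫ g = gZ ≫ i) (n : ℕ) : i.ker ^ n ≤ (i'.ker ^ n).map g := by
  refine Scheme.IdealSheafData.le_map_iff_comap_le.2 ?_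
  rw [FComplLib.comap_pow]
  refine pow_mono (Scheme.IdealSheafData.le_map_iff_comap_le.1 ?_) n
  rw [← Scheme.Hom.ker_comp, w]
  exact Scheme.Hom.le_ker_comp _ _

/-- Functoriality of infinitesimal neighbourhoods. -/
def infNbhdFun {X' Y' : Scheme.{u}} (i : Y ⟶ X) (i' : Y' ⟶ X') (g : X' ⟶ X) (gZ : Y' ⟶ Y)
    (w : i' ≫ g = gZ ≫ i) (n : ℕ) : PrinPart.infNbhd i' n ⟶ PrinPart.infNbhd i n :=
  Scheme.IdealSheafData.subschemeMap _ _ g (pow_le_map i i' g gZ w (n + 1))

@[reassoc]
theorem infNbhdFun_ι {X' Y' : Scheme.{u}} (i : Y ⟶ X) (i' : Y' ⟶ X') (g : X' ⟶ X) (gZ : Y' ⟶ Y)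
    (w : i' ≫ g = gZ ≫ i) (n : ℕ) :
    infNbhdFun i i' g gZ w n ≫ PrinPart.infNbhdι i n = PrinPart.infNbhdι i' n ≫ g :=
  Scheme.IdealSheafData.subschemeMap_subschemeι _ _ _ _

theorem isPullback_infNbhd {Y' X' : Scheme.{u}} (f : Y ⟶ X) [IsClosedImmersion f]
    (v : X' ⟶ X) (u : Y' ⟶ Y) (f' : Y' ⟶ X') (hsq : IsPullback u f' f v) (n : ℕ)
    (w : PrinPart.infNbhd f' n ⟶ PrinPart.infNbhd f n)
    (hw : w ≫ PrinPart.infNbhdι f n = PrinPart.infNbhdι f' n ≫ v) :
    IsPullback w (PrinPart.infNbhdι f' n) (PrinPart.infNbhdι f n) v := by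
  haveI : IsClosedImmersion (PrinPart.infNbhdι f n) :=
    inferInstanceAs (IsClosedImmersion (f.ker ^ (n + 1)).subschemeι)
  haveI : IsClosedImmersion (PrinPart.infNbhdι f' n) :=
    inferInstanceAs (IsClosedImmersion (f'.ker ^ (n + 1)).subschemeι)
  refine (isPullback_of_isClosedImmersion _ _ w v hw.symm ?_).flip
  simp only [PrinPart.infNbhdι, Scheme.IdealSheafData.ker_subschemeι]
  rw [FComplLib.comap_pow, ← FComplLib.ker_of_isPullback hsq.flip]

theorem surjective_toInfNbhd (f : Y ⟶ X) [IsClosedImmersion f] (n : ℕ) :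
    Surjective (PrinPart.toInfNbhd f n) := ⟨PrinPart.toInfNbhd_surjective f n⟩

/-- The infinitesimal neighbourhoods of a section are finite over the base. -/
theorem isFinite_infNbhd_section (g : X ⟶ Y) [LocallyOfFiniteType g] (f : Y ⟶ X) [IsClosedImmersion f]
    (hf : f ≫ g = 𝟙 Y) (n : ℕ) : IsFinite (PrinPart.infNbhdι f n ≫ g) := by
  set h := PrinPart.infNbhdι f n ≫ g with hh
  haveI : IsClosedImmersion (PrinPart.infNbhdι f n) :=
    inferInstanceAs (IsClosedImmersion (f.ker ^ (n + 1)).subschemeι)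
  haveI := surjective_toInfNbhd f n
  have h0 : PrinPart.toInfNbhd f n ≫ h = 𝟙 Y := by
    rw [hh, PrinPart.toInfNbhd_ι_assoc, hf]
  have hl : ∀ z, PrinPart.toInfNbhd f n (h z) = z := fun z => by
    obtain ⟨y, rfl⟩ := PrinPart.toInfNbhd_surjective f n z
    rw [← Scheme.Hom.comp_apply, ← Scheme.Hom.comp_apply, ← Category.assoc, h0, Category.id_comp]
  have hr : ∀ y, h (PrinPart.toInfNbhd f n y) = y := fun y => by
    rw [← Scheme.Hom.comp_apply, h0]; rfl
  let e : PrinPart.infNbhd f n ≃ₜ Y :=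
    { toFun := h, invFun := PrinPart.toInfNbhd f n, left_inv := hl, right_inv := hr
      continuous_toFun := h.continuous
      continuous_invFun := (PrinPart.toInfNbhd f n).continuous }
  haveI : IsAffineHom h := isAffineHom_of_isInducing h e.isInducing (by
    rw [show Set.range h = Set.univ from e.surjective.range_eq]; exact isClosed_univ)
  haveI : UniversallyClosed (PrinPart.toInfNbhd f n ≫ h) := by rw [h0]; infer_instance
  haveI : UniversallyClosed h := UniversallyClosed.of_comp_surjective (PrinPart.toInfNbhd f n) h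
  haveI : LocallyOfFiniteType h := by rw [hh]; infer_instance
  exact IsFinite.iff_isProper_and_isAffineHom.2 ⟨{}, inferInstance⟩

end Groth.Agent.PP38
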