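import Groth.Prelude.Def_OmegaPn
import Groth.Agent.OmegaLib.IdealMod
import Groth.Agent.Synt29.OmegaStalk
import Groth.Agent.Synt29.StalkFormal
import Groth.Agent.Synt29.ConormalStalk
import Groth.Agent.PP38.InfNbhd

/-! Stalks of the graded pieces of a closed immersion. -/

set_option autoImplicit false
set_option linter.style.haveILetI false

universe u

open CategoryTheory CategoryTheory.Limits AlgebraicGeometry TopologicalSpace Opposite
open scoped TensorProduct

namespace Groth.Agent.PP38.GrStalk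

open Groth.Agent.Synt29.OmegaStalk Groth.Agent.KFlatLib

variable {X : Scheme.{u}} (K : X.IdealSheafData)

/-- a germ of the ideal module and its function -/
def Rep (y : X) (m : St (ClSub.idealMod K) y) (a : X.presheaf.stalk y) : Prop :=
  ∃ (U : X.Opens) (hy : y ∈ U) (k : Γ(ClSub.idealMod K, U)),
    gm (ClSub.idealMod K) hy k = m ∧ X.presheaf.germ U y hy (OmegaSh.idealSect K U k) = a

lemma rep_inj {y : X} {m m' : St (ClSub.idealMod K) y} {a : X.presheaf.stalk y} (h : Rep K y m a)
    (h' : Rep K y m' a) : m = m' := by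
  obtain ⟨U, hy, k, rfl, hk⟩ := h
  obtain ⟨U', hy', k', rfl, hk'⟩ := h'
  obtain ⟨W, hyW, j, j', e⟩ := X.presheaf.germ_eq y hy hy' _ _ (hk.trans hk'.symm)
  rw [show j = homOfLE (leOfHom j) from rfl, show j' = homOfLE (leOfHom j') from rfl] at e
  erw [← OmegaLib.idealSect_map, ← OmegaLib.idealSect_map] at e
  have := OmegaLib.idealSect_injective K W e
  rw [← gm_res _ j hyW, ← gm_res _ j' hyW]
  exact congrArg (gm _ hyW) this

lemma rep_unique {y : X} {m : St (ClSub.idealMod K) y} {a a' : X.presheaf.stalk y} (h : Rep K y m a)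
    (h' : Rep K y m a') : a = a' := by
  obtain ⟨U, hy, k, hk, rfl⟩ := h
  obtain ⟨U', hy', k', hk', rfl⟩ := h'
  obtain ⟨W, hyW, j, j', e⟩ := TopCat.Presheaf.germ_eq (C := AddCommGrpCat.{u})
    (ClSub.idealMod K).presheaf y hy hy' k k' (hk.trans hk'.symm)
  have e' : (ClSub.idealMod K).presheaf.map (homOfLE (leOfHom j)).op k =
      (ClSub.idealMod K).presheaf.map (homOfLE (leOfHom j')).op k' := e
  have := congrArg (OmegaSh.idealSect K W) e'
  rw [OmegaLib.idealSect_map, OmegaLib.idealSect_map] at this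
  rw [← X.presheaf.germ_res_apply (homOfLE (leOfHom j)) y hyW,
    ← X.presheaf.germ_res_apply (homOfLE (leOfHom j')) y hyW, this]

lemma rep_zero (y : X) : Rep K y 0 0 := ⟨⊤, trivial, 0, map_zero _, by rw [map_zero, map_zero]⟩

lemma rep_add {y : X} {m m' : St (ClSub.idealMod K) y} {a a' : X.presheaf.stalk y} (h : Rep K y m a)
    (h' : Rep K y m' a') : Rep K y (m + m') (a + a') := by
  obtain ⟨U, hy, k, rfl, rfl⟩ := h
  obtain ⟨U', hy', k', rfl, rfl⟩ := h'
  have hyy : y ∈ U ⊓ U' := ⟨hy, hy'⟩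
  refine ⟨U ⊓ U', hyy, (ClSub.idealMod K).presheaf.map (homOfLE inf_le_left).op k +
    (ClSub.idealMod K).presheaf.map (homOfLE inf_le_right).op k', ?_, ?_⟩
  · rw [map_add, gm_res, gm_res]
  · rw [map_add, OmegaLib.idealSect_map, OmegaLib.idealSect_map, map_add,
      X.presheaf.germ_res_apply, X.presheaf.germ_res_apply]

lemma rep_smul {y : X} {m : St (ClSub.idealMod K) y} {a : X.presheaf.stalk y} (h : Rep K y m a)
    (c : X.presheaf.stalk y) : Rep K y (c • m) (c * a) := by
  obtain ⟨U, hy, k, rfl, rfl⟩ := h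
  obtain ⟨U', hy', r, rfl⟩ := X.presheaf.exists_germ_eq (x := y) c
  have hyy : y ∈ U ⊓ U' := ⟨hy, hy'⟩
  refine ⟨U ⊓ U', hyy, X.presheaf.map (homOfLE (inf_le_right : U ⊓ U' ≤ U')).op r •
    (ClSub.idealMod K).presheaf.map (homOfLE (inf_le_left : U ⊓ U' ≤ U)).op k, ?_, ?_⟩
  · rw [gm_smul, gm_res, X.presheaf.germ_res_apply]
  · rw [OmegaLib.idealSect_smul, OmegaLib.idealSect_map, map_mul,
      X.presheaf.germ_res_apply, X.presheaf.germ_res_apply]

lemma rep_exists (y : X) (m : St (ClSub.idealMod K) y) : ∃ a, Rep K y m a := by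
  obtain ⟨U, hy, k, rfl⟩ := gm_surjective (ClSub.idealMod K) m
  exact ⟨_, U, hy, k, rfl, rfl⟩

/-- the function of a germ of the ideal module -/
noncomputable def fn (y : X) : St (ClSub.idealMod K) y →ₗ[X.presheaf.stalk y] X.presheaf.stalk y where
  toFun m := (rep_exists K y m).choose
  map_add' m m' := rep_unique K (rep_exists K y (m + m')).choose_spec
    (rep_add K (rep_exists K y m).choose_spec (rep_exists K y m').choose_spec)
  map_smul' r m := rep_unique K (rep_exists K y (r • m)).choose_spec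
    (rep_smul K (rep_exists K y m).choose_spec r)

lemma rep_fn {y : X} (m : St (ClSub.idealMod K) y) : Rep K y m (fn K y m) :=
  (rep_exists K y m).choose_spec

lemma fn_eq {y : X} {m : St (ClSub.idealMod K) y} {a : X.presheaf.stalk y} (h : Rep K y m a) :
    fn K y m = a := rep_unique K (rep_fn K m) h

lemma fn_injective (y : X) : Function.Injective (fn K y) := fun m m' e =>
  rep_inj K (rep_fn K m) (by rw [e]; exact rep_fn K m')

lemma fn_gm {y : X} (U : X.Opens) (hy : y ∈ U) (k : Γ(ClSub.idealMod K, U)) :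
    fn K y (gm _ hy k) = X.presheaf.germ U y hy (OmegaSh.idealSect K U k) :=
  fn_eq K ⟨U, hy, k, rfl, rfl⟩

variable {Y : Scheme.{u}} (i : Y ⟶ X) [IsClosedImmersion i] (n : ℕ) (x : Y)

/-- the kernel of the map of local rings -/
noncomputable abbrev kx : Ideal (X.presheaf.stalk (i x)) := RingHom.ker (i.stalkMap x).hom

lemma germ_mem (U : X.affineOpens) (hx : i x ∈ U.1) {b : Γ(X, U.1)} (hb : b ∈ i.ker.ideal U) :
    X.presheaf.germ U.1 (i x) hx b ∈ kx i x := by
  rw [Scheme.Hom.ker_apply, RingHom.mem_ker] at hb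
  rw [RingHom.mem_ker, Scheme.Hom.germ_stalkMap_apply, hb, map_zero]

lemma germ_mem_pow (m : ℕ) (U : X.affineOpens) (hx : i x ∈ U.1) {b : Γ(X, U.1)}
    (hb : b ∈ (i.ker ^ m).ideal U) : X.presheaf.germ U.1 (i x) hx b ∈ kx i x ^ m := by
  rw [Scheme.IdealSheafData.ideal_pow] at hb
  refine Ideal.pow_right_mono ?_ m (((Ideal.map_pow (X.presheaf.germ U.1 (i x) hx).hom _ m).le)
    (Ideal.mem_map_of_mem _ hb))
  exact Ideal.map_le_iff_le_comap.2 fun b hb => germ_mem i x U hx hb

theorem fn_mem (m : St (ClSub.idealMod (i.ker ^ n)) (i x)) :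
    fn (i.ker ^ n) (i x) m ∈ kx i x ^ n := by
  obtain ⟨U, hy, k, rfl⟩ := gm_surjective _ m
  obtain ⟨W, hW, hxW, hWU⟩ := exists_isAffineOpen_mem_and_subset (x := i x) (U := U) hy
  rw [fn_gm, ← X.presheaf.germ_res_apply (homOfLE hWU) (i x) hxW]
  erw [← OmegaLib.idealSect_map]
  exact germ_mem_pow i x n ⟨W, hW⟩ hxW (OmegaLib.idealSect_mem (i.ker ^ n) ⟨W, hW⟩ _)

theorem exists_fn {a : X.presheaf.stalk (i x)} (ha : a ∈ kx i x ^ n) :
    ∃ m, fn (i.ker ^ n) (i x) m = a := by
  obtain ⟨U, hU, hxU, -⟩ := exists_isAffineOpen_mem_and_subset (x := i x) (U := ⊤) trivial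
  let A := X.presheaf.stalk (i x)
  letI : Algebra Γ(X, U) A := (X.presheaf.germ U (i x) hxU).hom.toAlgebra
  have hle : kx i x ≤ (i.ker.ideal ⟨U, hU⟩).map (algebraMap Γ(X, U) A) := by
    intro b hb
    haveI : IsLocalization.AtPrime A (hU.primeIdealOf ⟨i x, hxU⟩).asIdeal :=
      hU.isLocalization_stalk ⟨i x, hxU⟩
    obtain ⟨W, hW, hWU, e, he, rfl⟩ := Synt29.ConormalStalk.exists_killed i b hb U hxU
    obtain ⟨r, hrW, hxr⟩ := hU.exists_basicOpen_le ⟨i x, hW⟩ hxU
    haveI := hU.isLocalization_basicOpen r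
    obtain ⟨⟨e₀, _, k, rfl⟩, hk⟩ := IsLocalization.surj (Submonoid.powers r)
      (X.presheaf.map (homOfLE hrW).op e)
    have hker : X.presheaf.map (homOfLE (X.basicOpen_le r)).op e₀ ∈
        i.ker.ideal (X.affineBasicOpen (U := ⟨U, hU⟩) r) := by
      rw [show X.presheaf.map (homOfLE (X.basicOpen_le r)).op e₀ = _ from hk.symm,
        Scheme.Hom.ker_apply]
      show i.app (X.basicOpen r) (_ * _) = 0
      rw [map_mul]
      refine mul_eq_zero_of_left ?_ _
      show i.app (X.basicOpen r) (X.presheaf.map (homOfLE hrW).op e) = 0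
      rw [← ConcreteCategory.comp_apply, i.naturality, ConcreteCategory.comp_apply, he, map_zero]
    rw [← i.ker.map_ideal_basicOpen ⟨U, hU⟩ r] at hker
    have h1 := Ideal.mem_map_of_mem (X.presheaf.germ (X.basicOpen r) (i x) hxr).hom hker
    rw [Ideal.map_map, ← CommRingCat.hom_comp, TopCat.Presheaf.germ_res] at h1
    have h2 : X.presheaf.germ (X.basicOpen r) (i x) hxr
        (X.presheaf.map (homOfLE (X.basicOpen_le r)).op e₀) = X.presheaf.germ U (i x) hxU e₀ :=
      X.presheaf.germ_res_apply _ _ _ _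
    rw [h2] at h1
    have h3 : X.presheaf.germ U (i x) hxU e₀ =
        X.presheaf.germ W (i x) hW e * X.presheaf.germ U (i x) hxU (r ^ k) := by
      have := congrArg (X.presheaf.germ (X.basicOpen r) (i x) hxr).hom hk
      rw [map_mul] at this
      rw [← h2]
      refine (this.symm.trans ?_)
      congr 1
      · exact X.presheaf.germ_res_apply _ _ _ _
      · exact X.presheaf.germ_res_apply _ _ _ _
    have hu : IsUnit (X.presheaf.germ U (i x) hxU (r ^ k)) := by
      rw [map_pow]
      exact ((X.mem_basicOpen r (i x) hxU).1 hxr).pow k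
    rw [h3] at h1
    exact (Ideal.mul_unit_mem_iff_mem _ hu).1 h1
  have h := Ideal.pow_right_mono hle n ha
  rw [← Ideal.map_pow] at h
  clear ha
  induction h using Submodule.span_induction with
  | mem a ha =>
      obtain ⟨b, hb, rfl⟩ := ha
      have hb' : b ∈ (i.ker ^ n).ideal ⟨U, hU⟩ := by rwa [Scheme.IdealSheafData.ideal_pow]
      obtain ⟨k, hk⟩ := OmegaLib.exists_of_mem (i.ker ^ n) ⟨U, hU⟩ b hb'
      exact ⟨gm _ hxU k, by rw [fn_gm, hk]; rfl⟩
  | zero => exact ⟨0, map_zero _⟩
  | add b b' _ _ e e' =>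
      obtain ⟨m, rfl⟩ := e
      obtain ⟨m', rfl⟩ := e'
      exact ⟨m + m', map_add _ _ _⟩
  | smul c b _ e =>
      obtain ⟨m, rfl⟩ := e
      exact ⟨c • m, map_smul _ _ _⟩

/-- `1 ⊗ m` in the stalk of the graded piece -/
noncomputable def un (m : St (ClSub.idealMod (i.ker ^ n)) (i x)) :
    (ModuleCat.extendScalars (i.stalkMap x).hom).obj (St (ClSub.idealMod (i.ker ^ n)) (i x)) :=
  ((ModuleCat.extendRestrictScalarsAdj (i.stalkMap x).hom).unit.app _).hom m

omit [IsClosedImmersion i] in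
lemma un_smul (a : X.presheaf.stalk (i x)) (m : St (ClSub.idealMod (i.ker ^ n)) (i x)) :
    un i n x (a • m) = i.stalkMap x a • un i n x m :=
  map_smul ((ModuleCat.extendRestrictScalarsAdj (i.stalkMap x).hom).unit.app _).hom a m

omit [IsClosedImmersion i] in
lemma un_add (m m' : St (ClSub.idealMod (i.ker ^ n)) (i x)) :
    un i n x (m + m') = un i n x m + un i n x m' := map_add _ m m'

omit [IsClosedImmersion i] in
lemma un_zero : un i n x 0 = 0 := map_zero _

theorem un_surjective : Function.Surjective (un i n x) := by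
  intro z
  let _ := (i.stalkMap x).hom.toAlgebra
  change (Y.presheaf.stalk x) ⊗[X.presheaf.stalk (i x)] (St (ClSub.idealMod (i.ker ^ n)) (i x)) at z
  induction z using TensorProduct.induction_on with
  | zero => exact ⟨0, map_zero _⟩
  | tmul b m =>
      obtain ⟨a, ha⟩ := i.stalkMap_surjective x b
      refine ⟨a • m, (un_smul i n x a m).trans ?_⟩
      rw [ha]
      show (b * 1) ⊗ₜ[X.presheaf.stalk (i x)] m = b ⊗ₜ[X.presheaf.stalk (i x)] m
      rw [mul_one]
  | add z w ihz ihw =>
      obtain ⟨m, hm⟩ := ihz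
      obtain ⟨m', hm'⟩ := ihw
      exact ⟨m + m', (map_add _ m m').trans (congrArg₂ (· + ·) hm hm')⟩

/-- the class of a germ is zero exactly on the next power of the ideal -/
theorem un_eq_zero_iff (m : St (ClSub.idealMod (i.ker ^ n)) (i x)) :
    un i n x m = 0 ↔ fn (i.ker ^ n) (i x) m ∈ kx i x ^ (n + 1) := by
  let A := X.presheaf.stalk (i x)
  let M := St (ClSub.idealMod (i.ker ^ n)) (i x)
  constructor
  · intro h0
    let _ := (i.stalkMap x).hom.toAlgebra
    let s : Y.presheaf.stalk x → A := Function.surjInv (i.stalkMap_surjective x)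
    have hs : ∀ b, i.stalkMap x (s b) = b := Function.surjInv_eq (i.stalkMap_surjective x)
    let π : A →+* A ⧸ kx i x ^ (n + 1) := Ideal.Quotient.mk _
    have hmul : ∀ (u v : A) (k : M), i.stalkMap x u = i.stalkMap x v →
        π (u * fn _ _ k) = π (v * fn _ _ k) := fun u v k e => by
      refine Ideal.Quotient.eq.mpr ?_
      rw [← sub_mul, pow_succ']
      exact Ideal.mul_mem_mul (RingHom.mem_ker.mpr (by rw [map_sub]; exact sub_eq_zero.mpr e))
        (fn_mem i n x k)
    let Φ : (Y.presheaf.stalk x) ⊗[A] M →ₗ[A] A ⧸ kx i x ^ (n + 1) :=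
      TensorProduct.lift (LinearMap.mk₂ A (fun b k => π (s b * fn _ _ k))
        (fun b b' k => by
          rw [← map_add, ← add_mul]
          exact hmul _ _ k (by rw [map_add, hs, hs, hs]))
        (fun c b k => by
          show π _ = π (c * (s b * fn _ _ k))
          rw [← mul_assoc]
          exact hmul _ _ k (by rw [map_mul, hs, hs]; rfl))
        (fun b k k' => by rw [← map_add, ← mul_add, map_add])
        (fun c b k => by
          show π _ = π (c * (s b * fn _ _ k))
          rw [map_smul, smul_eq_mul, mul_left_comm]))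
    have h1 : π (s 1 * fn _ _ m) = 0 := (congrArg Φ h0).trans (map_zero Φ)
    rw [hmul (s 1) 1 m (by rw [hs, map_one]), one_mul] at h1
    exact Ideal.Quotient.eq_zero_iff_mem.mp h1
  · intro ha
    suffices ∀ a ∈ kx i x ^ (n + 1), ∃ m', fn _ _ m' = a ∧ un i n x m' = 0 by
      obtain ⟨m', hm', h0⟩ := this _ ha
      rwa [fn_injective _ _ hm'] at h0
    intro a ha
    rw [pow_succ'] at ha
    induction ha using Submodule.mul_induction_on' with
    | mem_mul_mem b hb c hc =>
        obtain ⟨m', rfl⟩ := exists_fn i n x hc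
        refine ⟨b • m', map_smul _ _ _, ?_⟩
        rw [un_smul, RingHom.mem_ker.mp hb, zero_smul]
    | add b _ c _ ihb ihc =>
        obtain ⟨m₁, rfl, e₁⟩ := ihb
        obtain ⟨m₂, rfl, e₂⟩ := ihc
        exact ⟨m₁ + m₂, map_add _ _ _, by rw [un_add, e₁, e₂, add_zero]⟩

/-- the stalk of the graded piece -/
noncomputable abbrev P : St (PrinPart.grMod i n) x ≅
    (ModuleCat.extendScalars (i.stalkMap x).hom).obj (St (ClSub.idealMod (i.ker ^ n)) (i x)) :=
  (stalkPullbackIso i x).app (ClSub.idealMod (i.ker ^ n))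

/-- the class of a germ of the power of the ideal -/
noncomputable def cls (m : St (ClSub.idealMod (i.ker ^ n)) (i x)) : St (PrinPart.grMod i n) x :=
  (P i n x).inv (un i n x m)

lemma cls_surjective : Function.Surjective (cls i n x) := fun z => by
  obtain ⟨m, hm⟩ := un_surjective i n x ((P i n x).hom z)
  exact ⟨m, (congrArg (P i n x).inv hm).trans (Iso.hom_inv_id_apply _ _)⟩

omit [IsClosedImmersion i] in
lemma cls_smul (a : X.presheaf.stalk (i x)) (m : St (ClSub.idealMod (i.ker ^ n)) (i x)) :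
    cls i n x (a • m) = i.stalkMap x a • cls i n x m :=
  (congrArg (P i n x).inv (un_smul i n x a m)).trans (map_smul (P i n x).inv.hom _ _)

omit [IsClosedImmersion i] in
lemma cls_add (m m' : St (ClSub.idealMod (i.ker ^ n)) (i x)) :
    cls i n x (m + m') = cls i n x m + cls i n x m' :=
  (congrArg (P i n x).inv (un_add i n x m m')).trans (map_add (P i n x).inv.hom _ _)

theorem cls_eq_zero_iff (m : St (ClSub.idealMod (i.ker ^ n)) (i x)) :
    cls i n x m = 0 ↔ fn (i.ker ^ n) (i x) m ∈ kx i x ^ (n + 1) := by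
  rw [← un_eq_zero_iff]
  refine ⟨fun h => ?_, fun h => (congrArg (P i n x).inv h).trans (map_zero (P i n x).inv.hom)⟩
  exact ((Iso.inv_hom_id_apply (P i n x) _).symm.trans (congrArg (P i n x).hom h)).trans
    (map_zero (P i n x).hom.hom)

omit [IsClosedImmersion i] in
lemma cls_gm {U : X.Opens} (hU : i x ∈ U) (k : Γ(ClSub.idealMod (i.ker ^ n), U)) :
    cls i n x (gm _ hU k) = gm (PrinPart.grMod i n) (show x ∈ i ⁻¹ᵁ U from hU) (PrinPart.grSect i n U k) := by
  refine (ConcreteCategory.bijective_of_isIso (P i n x).hom).1 ?_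
  exact (Iso.inv_hom_id_apply _ _).trans (stalkPullbackIso_gm i _ x (show x ∈ i ⁻¹ᵁ U from hU) k).symm

end Groth.Agent.PP38.GrStalk
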