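import Groth.Agent.PP38.KerFG
import Groth.Agent.PP38.GrStalk
import Groth.Agent.Synt29.ConormalSeq
import Mathlib

/-! A finitely presented immersion is open near the points where the conormal sheaf vanishes. -/

set_option autoImplicit false
set_option linter.style.haveILetI false

universe u

open CategoryTheory CategoryTheory.Limits AlgebraicGeometry TopologicalSpace Opposite

namespace Groth.Agent.PP38

open Groth.Agent.Synt29 Groth.Agent.KFlatLib

variable {X Y : Scheme.{u}}

/-- the kernel on local rings of an immersion is generated by its ideal on an affine open -/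
theorem ker_stalk_le (i : Y ⟶ X) [IsImmersion i] [QuasiCompact i] (x : Y) (U : X.Opens)
    (hU : IsAffineOpen U) (hxU : i x ∈ U) :
    RingHom.ker (i.stalkMap x).hom ≤ (i.ker.ideal ⟨U, hU⟩).map (X.presheaf.germ U (i x) hxU).hom := by
  let A := X.presheaf.stalk (i x)
  letI : Algebra Γ(X, U) A := (X.presheaf.germ U (i x) hxU).hom.toAlgebra
  intro b hb
  obtain ⟨W, hW, hWU, e, he, rfl⟩ := ConormalStalk.exists_killed i b hb U hxU
  obtain ⟨r, hrW, hxr⟩ := hU.exists_basicOpen_le ⟨i x, hW⟩ hxU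
  haveI := hU.isLocalization_basicOpen r
  obtain ⟨⟨e₀, _, k, rfl⟩, hk⟩ := IsLocalization.surj (Submonoid.powers r)
    (X.presheaf.map (homOfLE hrW).op e)
  have hker : X.presheaf.map (homOfLE (X.basicOpen_le r)).op e₀ ∈
      i.ker.ideal (X.affineBasicOpen (U := ⟨U, hU⟩) r) := by
    rw [show X.presheaf.map (homOfLE (X.basicOpen_le r)).op e₀ = _ from hk.symm, Scheme.Hom.ker_apply]
    show i.app (X.basicOpen r) (_ * _) = 0
    rw [map_mul]
    refine mul_eq_zero_of_left ?_ _
    show i.app (X.basicOpen r) (X.presheaf.map (homOfLE hrW).op e) = 0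
    rw [← ConcreteCategory.comp_apply, i.naturality, ConcreteCategory.comp_apply, he, map_zero]
  rw [← i.ker.map_ideal_basicOpen ⟨U, hU⟩ r] at hker
  have h1 := Ideal.mem_map_of_mem (X.presheaf.germ (X.basicOpen r) (i x) hxr).hom hker
  rw [Ideal.map_map, ← CommRingCat.hom_comp, TopCat.Presheaf.germ_res] at h1
  have h2 : X.presheaf.germ (X.basicOpen r) (i x) hxr
      (X.presheaf.map (homOfLE (X.basicOpen_le r)).op e₀) = X.presheaf.germ U (i x) hxU e₀ :=
    X.presheaf.germ_res_apply _ _ _ _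
  rw [h2] at h1
  have h3 : X.presheaf.germ U (i x) hxU e₀ =
      X.presheaf.germ W (i x) hW e * X.presheaf.germ U (i x) hxU (r ^ k) := by
    have := congrArg (X.presheaf.germ (X.basicOpen r) (i x) hxr).hom hk
    rw [map_mul] at this
    rw [← h2]
    refine this.symm.trans ?_
    congr 1
    · exact X.presheaf.germ_res_apply _ _ _ _
    · exact X.presheaf.germ_res_apply _ _ _ _
  have hu : IsUnit (X.presheaf.germ U (i x) hxU (r ^ k)) := by
    rw [map_pow]
    exact ((X.mem_basicOpen r (i x) hxU).1 hxr).pow k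
  rw [h3] at h1
  exact (Ideal.mul_unit_mem_iff_mem _ hu).1 h1

/-- near a point where the map of local rings is injective a finitely presented closed immersion is open -/
theorem exists_isOpenImmersion_of_ker (i : Y ⟶ X) [IsClosedImmersion i] [LocallyOfFinitePresentation i]
    (y : Y) (h : RingHom.ker (i.stalkMap y).hom = ⊥) :
    ∃ U : Y.Opens, y ∈ U ∧ IsOpenImmersion (U.ι ≫ i) := by
  obtain ⟨U, hU, hyU, -⟩ := exists_isAffineOpen_mem_and_subset (x := i y) (U := ⊤) trivial
  letI : Algebra Γ(X, U) (X.presheaf.stalk (i y)) := (X.presheaf.germ U (i y) hyU).hom.toAlgebra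
  haveI : IsLocalization.AtPrime (X.presheaf.stalk (i y)) (hU.primeIdealOf ⟨i y, hyU⟩).asIdeal :=
    hU.isLocalization_stalk ⟨i y, hyU⟩
  obtain ⟨s, hs⟩ := ker_ideal_fg i ⟨U, hU⟩
  have hkill : ∀ a ∈ s, ∃ r : Γ(X, U), r ∉ (hU.primeIdealOf ⟨i y, hyU⟩).asIdeal ∧ r * a = 0 := by
    intro a ha
    have hzero : X.presheaf.germ U (i y) hyU a = 0 := by
      rw [← Ideal.mem_bot, ← h]
      have ha' : a ∈ i.ker.ideal ⟨U, hU⟩ := hs ▸ Ideal.subset_span ha
      exact GrStalk.germ_mem i y ⟨U, hU⟩ hyU ha'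
    obtain ⟨⟨r, hr⟩, hra⟩ := (IsLocalization.map_eq_zero_iff
      (hU.primeIdealOf ⟨i y, hyU⟩).asIdeal.primeCompl (X.presheaf.stalk (i y)) a).1 hzero
    exact ⟨r, hr, hra⟩
  choose r hr hra using hkill
  let r₀ : Γ(X, U) := ∏ a ∈ s.attach, r a.1 a.2
  have hr₀ : r₀ ∉ (hU.primeIdealOf ⟨i y, hyU⟩).asIdeal :=
    Submonoid.prod_mem (hU.primeIdealOf ⟨i y, hyU⟩).asIdeal.primeCompl fun a _ => hr a.1 a.2
  have hyr : i y ∈ X.basicOpen r₀ := by
    rw [X.mem_basicOpen _ _ hyU]
    exact IsLocalization.map_units (X.presheaf.stalk (i y))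
      (⟨r₀, hr₀⟩ : (hU.primeIdealOf ⟨i y, hyU⟩).asIdeal.primeCompl)
  let W : X.affineOpens := X.affineBasicOpen (U := ⟨U, hU⟩) r₀
  haveI := hU.isLocalization_basicOpen r₀
  have hW : i.ker.ideal W = ⊥ := by
    rw [← i.ker.map_ideal_basicOpen ⟨U, hU⟩ r₀]
    refine (Ideal.map_eq_bot_iff_le_ker _).2 ?_
    rw [← hs, Ideal.span_le]
    intro a ha
    refine (IsLocalization.map_eq_zero_iff (Submonoid.powers r₀) Γ(X, X.basicOpen r₀) a).2
      ⟨⟨r₀, Submonoid.mem_powers _⟩, ?_⟩
    show r₀ * a = 0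
    obtain ⟨c, hc⟩ := Finset.dvd_prod_of_mem (fun a : s => r a.1 a.2) (Finset.mem_attach s ⟨a, ha⟩)
    rw [show r₀ = _ from hc, mul_right_comm, hra, zero_mul]
  rw [Scheme.Hom.ker_apply] at hW
  haveI : IsIso (i.app W.1) := (ConcreteCategory.isIso_iff_bijective _).2
    ⟨(RingHom.injective_iff_ker_eq_bot _).2 hW, i.app_surjective W.1 W.2⟩
  haveI : IsIso (i ∣_ W.1) := (isIso_morphismRestrict_iff_isIso_app i W.2).2 inferInstance
  refine ⟨i ⁻¹ᵁ W.1, hyr, ?_⟩
  rw [← morphismRestrict_ι]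
  infer_instance

theorem ker_stalk_fg (i : Y ⟶ X) [IsClosedImmersion i] [LocallyOfFinitePresentation i] (y : Y)
    (U : X.Opens) (hU : IsAffineOpen U) (hyU : i y ∈ U) : (RingHom.ker (i.stalkMap y).hom).FG := by
  rw [le_antisymm (ker_stalk_le i y U hU hyU)
    (Ideal.map_le_iff_le_comap.2 fun b hb => GrStalk.germ_mem i y ⟨U, hU⟩ hyU hb)]
  exact (ker_ideal_fg i ⟨U, hU⟩).map _

theorem ker_stalk_comp {W : Scheme.{u}} (i : Y ⟶ W) (e : W ⟶ X) [IsOpenImmersion e] (j : Y ⟶ X)
    (w : i ≫ e = j) (y : Y) :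
    ((RingHom.ker (i.stalkMap y).hom).FG → (RingHom.ker (j.stalkMap y).hom).FG) ∧
      (RingHom.ker (j.stalkMap y).hom = ⊥ → RingHom.ker (i.stalkMap y).hom = ⊥) := by
  subst w
  let E := (asIso (e.stalkMap (i y))).commRingCatIsoToRingEquiv
  have h : RingHom.ker ((i ≫ e).stalkMap y).hom =
      (RingHom.ker (i.stalkMap y).hom).comap (E : X.presheaf.stalk (e (i y)) →+* W.presheaf.stalk (i y)) := by
    rw [Scheme.Hom.stalkMap_comp]
    erw [CommRingCat.hom_comp, ← RingHom.comap_ker]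
    rfl
  refine ⟨fun hfg => ?_, fun hb => ?_⟩
  · rw [h]
    erw [← Ideal.map_symm]
    exact hfg.map _
  · rw [h] at hb
    apply Ideal.comap_injective_of_surjective
      (E : X.presheaf.stalk (e (i y)) →+* W.presheaf.stalk (i y)) E.surjective
    rw [hb, ← RingHom.ker_eq_comap_bot]
    exact ((RingHom.injective_iff_ker_eq_bot _).1 E.injective).symm

theorem conormal_stalk_iff (j : Y ⟶ X) [IsImmersion j] [QuasiCompact j] [LocallyOfFinitePresentation j]
    (y : Y) :
    (∃ U : Y.Opens, y ∈ U ∧ IsOpenImmersion (U.ι ≫ j)) ↔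
      Subsingleton ((Omega.conormal j).presheaf.stalk y) := by
  constructor
  · rintro ⟨U, hyU, hU⟩
    have hinj : Function.Injective (j.stalkMap y) := by
      haveI := hU
      let y' : (U : Scheme.{u}) := ⟨y, hyU⟩
      have h1 : Function.Bijective ((U.ι ≫ j).stalkMap y') := ConcreteCategory.bijective_of_isIso _
      have e := Scheme.Hom.stalkMap_comp U.ι j y'
      have h2 : ⇑((U.ι ≫ j).stalkMap y') = ⇑(U.ι.stalkMap y') ∘ ⇑(j.stalkMap (U.ι y')) := by
        rw [e]; rfl
      rw [h2] at h1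
      exact h1.1.of_comp
    refine ⟨fun a b => ?_⟩
    suffices ∀ z : OmegaStalk.St (Omega.conormal j) y, z = 0 from (this a).trans (this b).symm
    intro z
    obtain ⟨U', hx, k, rfl⟩ := ConormalStalk.exists_conormalSect j y z
    refine ConormalStalk.conormalSect_eq_zero j hx k ?_
    rw [hinj ((ConormalStalk.rep_mem j ⟨U', hx, k, rfl, rfl⟩).trans (map_zero _).symm)]
    exact zero_mem _
  · intro h
    let A := X.presheaf.stalk (j y)
    let K := RingHom.ker (j.stalkMap y).hom
    have hK2 : K ≤ K ^ 2 := fun a ha => by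
      obtain ⟨m, hm⟩ := ConormalStalk.exists_rep j (RingHom.mem_ker.1 ha)
      refine ConormalSeq.mem_sq_of_unit1_eq_zero j (j.stalkMap_surjective y) hm ?_
      apply (ConcreteCategory.bijective_of_isIso ((stalkPullbackIso j y).app (ConormalStalk.I j)).inv).1
      exact h.elim _ _
    haveI : IsPullback (𝟙 Y) j.liftCoborder j j.coborderRange.ι :=
      ⟨⟨by simp⟩, ⟨PullbackCone.IsLimit.mk _ (fun s => s.fst) (fun s => Category.comp_id _)
        (fun s => by
          rw [← cancel_mono j.coborderRange.ι, Category.assoc, j.liftCoborder_ι]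
          exact s.condition)
        fun s m h1 _ => (Category.comp_id m).symm.trans h1⟩⟩
    haveI : LocallyOfFinitePresentation j.liftCoborder :=
      MorphismProperty.of_isPullback (P := @LocallyOfFinitePresentation) ‹IsPullback _ _ _ _› ‹_›
    obtain ⟨U, hU, hyU, -⟩ :=
      exists_isAffineOpen_mem_and_subset (x := j.liftCoborder y) (U := ⊤) trivial
    obtain ⟨hfg', hbot'⟩ := ker_stalk_comp j.liftCoborder j.coborderRange.ι j j.liftCoborder_ι y
    have hfg : K.FG := hfg' (ker_stalk_fg j.liftCoborder y U hU hyU)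
    have hbot : K = ⊥ :=
      Submodule.eq_bot_of_le_smul_of_le_jacobson_bot K K hfg
        (by rw [smul_eq_mul, ← sq]; exact hK2)
        ((IsLocalRing.le_maximalIdeal (RingHom.ker_ne_top _)).trans
          (IsLocalRing.jacobson_eq_maximalIdeal ⊥ bot_ne_top).ge)
    obtain ⟨V, hyV, hV⟩ := exists_isOpenImmersion_of_ker j.liftCoborder y (hbot' hbot)
    haveI := hV
    have e : V.ι ≫ j = (V.ι ≫ j.liftCoborder) ≫ j.coborderRange.ι := by
      rw [Category.assoc, j.liftCoborder_ι]
    exact ⟨V, hyV, e ▸ inferInstance⟩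

end Groth.Agent.PP38
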