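import Groth.Agent.PP38.PullId
import Groth.Prelude.Def_Omega3
import Mathlib

/-! The exact sequence of differentials of a composite, formally from the universal properties. -/

set_option autoImplicit false

universe u

open CategoryTheory CategoryTheory.Limits AlgebraicGeometry TopologicalSpace Opposite

namespace Groth.Agent.PP38

variable {X Y Z : Scheme.{u}}

/-- maps out of a universal derivation are determined on differentials -/
theorem der_hom_ext {f : X ⟶ Y} {Ω : X.Modules} {d : OmegaSh.Der f Ω} (hd : OmegaSh.IsUniversal d)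
    {F : X.Modules} {a b : Ω ⟶ F}
    (h : ∀ (U : X.Opens) (s : Γ(X, U)), a.app U (d.app U s) = b.app U (d.app U s)) : a = b := by
  refine (hd F (d.postcomp a.val)).unique rfl (PresheafOfModules.Derivation.ext ?_)
  funext U
  exact AddMonoidHom.ext fun s => (h U.unop s).symm

theorem exact_of_comp (f : X ⟶ Y) (g : Y ⟶ Z)
    (ΩY : Y.Modules) (dY : OmegaSh.Der g ΩY) (hY : OmegaSh.IsUniversal dY)
    (ΩX : X.Modules) (dX : OmegaSh.Der (f ≫ g) ΩX) (hX : OmegaSh.IsUniversal dX)
    (ΩXY : X.Modules) (dXY : OmegaSh.Der f ΩXY) (hXY : OmegaSh.IsUniversal dXY)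
    (c₁ : (Scheme.Modules.pullback f).obj ΩY ⟶ ΩX) (hc₁ : OmegaSh.IsDiffCompat f dY dX c₁)
    (π : ΩX ⟶ ΩXY) (hπ : ∀ (U : X.Opens) (s : Γ(X, U)), π.app U (dX.app U s) = dXY.app U s) :
    Epi π ∧ ∃ w : c₁ ≫ π = 0, (ShortComplex.mk c₁ π w).Exact := by
  have hepi : Epi π := ⟨fun a b h => der_hom_ext hXY fun U s => by
    rw [← hπ U s]; exact congr(($h).app U (dX.app U s))⟩
  have w : c₁ ≫ π = 0 := by
    apply ((Scheme.Modules.pullbackPushforwardAdjunction f).homEquiv _ _).injective
    refine der_hom_ext hY fun U b => ?_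
    rw [Adjunction.homEquiv_unit, Adjunction.homEquiv_unit]
    show π.app _ (c₁.app _ (OmegaSh.pullSect f ΩY U (dY.app U b))) = _
    rw [hc₁ U b, hπ]
    exact dXY.d_app (X := op U) b
  let q : ΩX ⟶ cokernel c₁ := cokernel.π c₁
  let D : OmegaSh.Der f (cokernel c₁) :=
    { d := fun {U} => (dX.postcomp q.val).d (X := U)
      d_mul := fun {U} a b => (dX.postcomp q.val).d_mul a b
      d_map := fun {U V} i a => (dX.postcomp q.val).d_map i a
      d_app := fun {V} b => by
        show q.app (f ⁻¹ᵁ V.unop) (dX.app (f ⁻¹ᵁ V.unop) (f.app V.unop b)) = 0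
        rw [← hc₁ V.unop b]
        exact congr((Scheme.Modules.Hom.app $(cokernel.condition c₁) (f ⁻¹ᵁ V.unop)) _) }
  obtain ⟨ψ, hψ, -⟩ := hXY _ D
  have hψ' : ∀ (U : X.Opens) (s : Γ(X, U)), ψ.app U (dXY.app U s) = q.app U (dX.app U s) :=
    fun U s => PresheafOfModules.Derivation.congr_d hψ s
  have hq : π ≫ ψ = q := der_hom_ext hX fun U s => by
    show ψ.app U (π.app U (dX.app U s)) = _
    rw [hπ, hψ']
  refine ⟨hepi, w, ShortComplex.exact_of_g_is_cokernel _ ?_⟩
  refine CokernelCofork.IsColimit.ofπ _ _ (fun k hk => ψ ≫ cokernel.desc c₁ k hk) (fun k hk => ?_)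
    fun k hk m hm => ?_
  · show π ≫ ψ ≫ cokernel.desc c₁ k hk = k
    rw [← Category.assoc, hq]
    exact cokernel.π_desc _ _ _
  · rw [← cancel_epi π]
    show π ≫ m = π ≫ ψ ≫ cokernel.desc c₁ k hk
    rw [← Category.assoc, hq]
    exact hm.trans (cokernel.π_desc _ _ _).symm

end Groth.Agent.PP38
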