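import Groth.Agent.Synt29.OmegaExtend
import Groth.Agent.Synt29.OmegaRestrict
import Mathlib

/-! Linear maps out of the differentials over an affine open from derivations of the ring. -/

set_option autoImplicit false

noncomputable section

universe u

open CategoryTheory CategoryTheory.Limits AlgebraicGeometry TopologicalSpace Opposite

namespace Groth.Agent.PP38

open Groth.Agent.Synt29.OmegaStalk

variable {X S : Scheme.{u}} {p : X ⟶ S} {Ω M : X.Modules}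

theorem exists_lift_of_image {T : Scheme.{u}} [IsAffine T] (j : T ⟶ X) [IsOpenImmersion j]
    {T' : Scheme.{u}} [IsAffine T'] (f₁ : T ⟶ T') (k : T' ⟶ S) [IsOpenImmersion k] (e : j ≫ p = f₁ ≫ k)
    (d : OmegaSh.Der p Ω) (hd : OmegaSh.IsUniversal d)
    {D₀ : X.Opens} (hj : j ''ᵁ ⊤ = D₀) (δ : Γ(X, D₀) →+ Γ(M, D₀))
    (hmul : ∀ a b, δ (a * b) = a • δ b + b • δ a)
    (hbase : ∀ c : Γ(T', ⊤),
      δ (X.presheaf.map (eqToHom hj.symm).op ((j.appIso ⊤).inv (f₁.appTop c))) = 0) :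
    ∃ L : Γ(Ω, D₀) →+ Γ(M, D₀), (∀ (r : Γ(X, D₀)) ω, L (r • ω) = r • L ω) ∧
      (∀ a, L (d.app _ a) = δ a) ∧
      ∀ φ : M ⟶ Ω, (∀ a, φ.app _ (δ a) = d.app _ a) → ∀ ω, φ.app _ (L ω) = ω := by
  subst hj
  simp only [eqToHom_refl, op_id, CategoryTheory.Functor.map_id, ConcreteCategory.id_apply] at hbase
  let δ' : Γ(T, ⊤) →+ Γ(M.restrict j, ⊤) := δ.comp (j.appIso ⊤).inv.hom.toAddMonoidHom
  obtain ⟨D, hD⟩ := exists_der_of_top f₁ (M.restrict j) δ' (fun a b => by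
      show δ ((j.appIso ⊤).inv (a * b)) =
        (j.appIso ⊤).inv a • δ ((j.appIso ⊤).inv b) + (j.appIso ⊤).inv b • δ ((j.appIso ⊤).inv a)
      rw [map_mul, hmul]) hbase
  have hu := isUniversal_derToOpen (isUniversal_restrictDer j hd) f₁ k e
  obtain ⟨α, hα, -⟩ := hu _ D
  let L : Γ(Ω, j ''ᵁ ⊤) →+ Γ(M, j ''ᵁ ⊤) := (α.app ⊤).hom
  have hL : ∀ s : Γ(T, ⊤), L (d.app _ ((j.appIso ⊤).inv s)) = δ ((j.appIso ⊤).inv s) := fun s =>
    (PresheafOfModules.Derivation.congr_d hα s).trans (congr($hD s))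
  refine ⟨L, fun r ω => ?_, fun a => ?_, fun φ hφ ω => ?_⟩
  · obtain ⟨r, rfl⟩ := (ConcreteCategory.bijective_of_isIso (j.appIso ⊤).inv).2 r
    exact α.app_smul r (show Γ(Ω.restrict j, ⊤) from ω)
  · obtain ⟨s, rfl⟩ := (ConcreteCategory.bijective_of_isIso (j.appIso ⊤).inv).2 a
    exact hL s
  · have he : α ≫ (Scheme.Modules.restrictFunctor j).map φ = 𝟙 _ := by
      refine (hu (Ω.restrict j) (derToOpen _ f₁ k e (restrictDer j d))).unique (der_ext_top fun s => ?_) ?_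
      · show φ.app _ (L (d.app _ ((j.appIso ⊤).inv s))) = d.app _ ((j.appIso ⊤).inv s)
        rw [hL, hφ]
      · exact der_ext_top fun s => rfl
    exact congr((Scheme.Modules.Hom.app $he ⊤) ω)

/-- derivations of the ring of an affine open extend to linear maps out of the differentials -/
theorem exists_lift (d : OmegaSh.Der p Ω) (hd : OmegaSh.IsUniversal d)
    {D : X.Opens} (hD : IsAffineOpen D) {U : S.Opens} (hU : IsAffineOpen U) (e : D ≤ p ⁻¹ᵁ U)
    (δ : Γ(X, D) →+ Γ(M, D)) (hmul : ∀ a b, δ (a * b) = a • δ b + b • δ a)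
    (hbase : ∀ c : Γ(S, U), δ (p.appLE U D e c) = 0) :
    ∃ L : Γ(Ω, D) →+ Γ(M, D), (∀ (r : Γ(X, D)) ω, L (r • ω) = r • L ω) ∧ (∀ a, L (d.app _ a) = δ a) ∧
      ∀ φ : M ⟶ Ω, (∀ a, φ.app _ (δ a) = d.app _ a) → ∀ ω, φ.app _ (L ω) = ω := by
  haveI : IsAffine (D : Scheme.{u}) := hD
  haveI : IsAffine (U : Scheme.{u}) := hU
  refine exists_lift_of_image D.ι (p.resLE U D e) U.ι (Scheme.Hom.resLE_comp_ι p e).symm d hd
    (D₀ := D) (by simp) δ hmul fun c => ?_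
  obtain ⟨c, rfl⟩ := (ConcreteCategory.bijective_of_isIso U.topIso.inv).2 c
  refine (congrArg δ ?_).trans (hbase c)
  have h1 : (p.resLE U D e).appTop (U.topIso.inv c) = D.topIso.inv (p.appLE U D e c) := by
    rw [Scheme.Hom.appTop, Scheme.Hom.resLE_app_top, ConcreteCategory.comp_apply,
      ConcreteCategory.comp_apply, Iso.inv_hom_id_apply]
  rw [h1, Scheme.Opens.ι_appIso]
  exact Iso.inv_hom_id_apply D.topIso _

end Groth.Agent.PP38
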