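import Groth.Agent.PP38.DerExact
import Groth.Agent.S9386

/-! Differentials of a fibre product. -/

set_option autoImplicit false

universe u

open CategoryTheory CategoryTheory.Limits AlgebraicGeometry TopologicalSpace Opposite

namespace Groth.Agent.PP38

variable {X Y S Z : Scheme.{u}}

/-- the cokernel of `q^* Ω_{Y/S} ⟶ Ω_{Z/S}` carries a universal `Y`-derivation -/
theorem exists_der_coker (q : Z ⟶ Y) (b : Y ⟶ S) (h : Z ⟶ S) (wq : q ≫ b = h)
    (ΩY : Y.Modules) (dY : OmegaSh.Der b ΩY) (hY : OmegaSh.IsUniversal dY)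
    (ΩZ : Z.Modules) (dZ : OmegaSh.Der h ΩZ) (hZ : OmegaSh.IsUniversal dZ)
    (c : (Scheme.Modules.pullback q).obj ΩY ⟶ ΩZ) (hc : OmegaSh.IsDiffCompat q dY dZ c) :
    ∃ D : OmegaSh.Der q (cokernel c), OmegaSh.IsUniversal D ∧
      ∀ (U : Z.Opens) (s : Γ(Z, U)), D.app U s = (cokernel.π c).app U (dZ.app U s) := by
  subst wq
  let π : ΩZ ⟶ cokernel c := cokernel.π c
  let D : OmegaSh.Der q (cokernel c) :=
    { d := fun {U} => (dZ.postcomp π.val).d (X := U)
      d_mul := fun {U} a b => (dZ.postcomp π.val).d_mul a b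
      d_map := fun {U V} i a => (dZ.postcomp π.val).d_map i a
      d_app := fun {V} t => by
        show π.app (q ⁻¹ᵁ V.unop) (dZ.app (q ⁻¹ᵁ V.unop) (q.app V.unop t)) = 0
        rw [← hc V.unop t]
        exact congr((Scheme.Modules.Hom.app $(cokernel.condition c) (q ⁻¹ᵁ V.unop)) _) }
  refine ⟨D, fun F E => ?_, fun U s => rfl⟩
  let E' : OmegaSh.Der (q ≫ b) F :=
    { d := fun {U} => E.d (X := U)
      d_mul := fun {U} x y => E.d_mul x y
      d_map := fun {U V} i a => E.d_map i a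
      d_app := fun {V} t => by
        show E.app (q ⁻¹ᵁ (b ⁻¹ᵁ V.unop)) (q.app (b ⁻¹ᵁ V.unop) (b.app V.unop t)) = 0
        exact E.d_app (X := op (b ⁻¹ᵁ V.unop)) _ }
  obtain ⟨α, hα, huniq⟩ := hZ F E'
  have hα' : ∀ (U : Z.Opens) (s : Γ(Z, U)), α.app U (dZ.app U s) = E.app U s :=
    fun U s => PresheafOfModules.Derivation.congr_d hα s
  have w : c ≫ α = 0 := by
    apply ((Scheme.Modules.pullbackPushforwardAdjunction q).homEquiv _ _).injective
    refine der_hom_ext hY fun U t => ?_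
    rw [Adjunction.homEquiv_unit, Adjunction.homEquiv_unit]
    show α.app _ (c.app _ (OmegaSh.pullSect q ΩY U (dY.app U t))) = _
    rw [hc U t, hα']
    exact E.d_app (X := op U) t
  refine ⟨cokernel.desc c α w, PresheafOfModules.Derivation.ext ?_, fun β hβ => ?_⟩
  · funext U
    refine AddMonoidHom.ext fun s => ?_
    show (π ≫ cokernel.desc c α w).app U.unop (dZ.app U.unop s) = _
    rw [cokernel.π_desc]
    exact hα' _ _
  · have : π ≫ β = α := der_hom_ext hZ fun U s => by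
      rw [hα']
      exact PresheafOfModules.Derivation.congr_d hβ s
    rw [← cancel_epi (cokernel.π c), cokernel.π_desc]
    exact this

theorem isIso_comp_π (a : X ⟶ S) (b : Y ⟶ S) (p : Z ⟶ X) (q : Z ⟶ Y) (h : Z ⟶ S) (wq : q ≫ b = h)
    (hsq : IsPullback p q a b)
    (ΩX : X.Modules) (dX : OmegaSh.Der a ΩX) (hX : OmegaSh.IsUniversal dX)
    (ΩY : Y.Modules) (dY : OmegaSh.Der b ΩY) (hY : OmegaSh.IsUniversal dY)
    (ΩZ : Z.Modules) (dZ : OmegaSh.Der h ΩZ) (hZ : OmegaSh.IsUniversal dZ)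
    (c₁ : (Scheme.Modules.pullback p).obj ΩX ⟶ ΩZ) (hc₁ : OmegaSh.IsDiffCompat p dX dZ c₁)
    (c₂ : (Scheme.Modules.pullback q).obj ΩY ⟶ ΩZ) (hc₂ : OmegaSh.IsDiffCompat q dY dZ c₂) :
    IsIso (c₁ ≫ cokernel.π c₂) := by
  obtain ⟨D, hD, hDs⟩ := exists_der_coker q b h wq ΩY dY hY ΩZ dZ hZ c₂ hc₂
  refine Groth.Agent.S9386.result a b p q hsq ΩX dX hX (cokernel c₂) D hD _ fun U s => ?_
  show (cokernel.π c₂).app _ (c₁.app _ _) = _
  rw [hc₁ U s, hDs]

theorem isIso_coprodDesc {C : Type*} [Category C] [Abelian C] {A B Q : C} (f : A ⟶ Q) (g : B ⟶ Q)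
    [IsIso (f ≫ cokernel.π g)] [IsIso (g ≫ cokernel.π f)] : IsIso (coprod.desc f g) := by
  let r₁ := cokernel.π g ≫ inv (f ≫ cokernel.π g)
  let r₂ := cokernel.π f ≫ inv (g ≫ cokernel.π f)
  have h11 : f ≫ r₁ = 𝟙 A := by rw [← Category.assoc, IsIso.hom_inv_id]
  have h21 : g ≫ r₁ = 0 := by rw [← Category.assoc, cokernel.condition, zero_comp]
  have h12 : f ≫ r₂ = 0 := by rw [← Category.assoc, cokernel.condition, zero_comp]
  have h22 : g ≫ r₂ = 𝟙 B := by rw [← Category.assoc, IsIso.hom_inv_id]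
  clear_value r₁ r₂
  have : Epi (coprod.desc f g) := Preadditive.epi_of_cancel_zero _ fun {P} k hk => by
    have hf : f ≫ k = 0 := by rw [← coprod.inl_desc f g, Category.assoc, hk, comp_zero]
    have hg : g ≫ k = 0 := by rw [← coprod.inr_desc f g, Category.assoc, hk, comp_zero]
    have h0 : (f ≫ cokernel.π g) ≫ cokernel.desc g k hg = 0 := by
      rw [Category.assoc, cokernel.π_desc, hf]
    rw [← cokernel.π_desc g k hg, (Preadditive.IsIso.comp_left_eq_zero _ _).1 h0, comp_zero]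
  refine ⟨r₁ ≫ coprod.inl + r₂ ≫ coprod.inr, ?_, ?_⟩
  · apply coprod.hom_ext
    · rw [Category.comp_id, coprod.inl_desc_assoc, Preadditive.comp_add, reassoc_of% h11,
        reassoc_of% h12, zero_comp, add_zero]
    · rw [Category.comp_id, coprod.inr_desc_assoc, Preadditive.comp_add, reassoc_of% h21,
        reassoc_of% h22, zero_comp, zero_add]
  · rw [← cancel_epi (coprod.desc f g)]
    apply coprod.hom_ext
    · rw [Category.comp_id, coprod.inl_desc, coprod.inl_desc_assoc, Preadditive.add_comp,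
        Category.assoc, Category.assoc, coprod.inl_desc, coprod.inr_desc, Preadditive.comp_add,
        reassoc_of% h11, reassoc_of% h12, zero_comp, add_zero]
    · rw [Category.comp_id, coprod.inr_desc, coprod.inr_desc_assoc, Preadditive.add_comp,
        Category.assoc, Category.assoc, coprod.inl_desc, coprod.inr_desc, Preadditive.comp_add,
        reassoc_of% h21, reassoc_of% h22, zero_comp, zero_add]

end Groth.Agent.PP38
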