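import Groth.Agent.PP38.Stalk
import Groth.Agent.Synt29.OmegaStalk
import Mathlib.Topology.Sheaves.SheafCondition.UniqueGluing

/-!
# The universal property of principal parts for arbitrary modules
-/

set_option autoImplicit false
set_option linter.style.haveILetI false

noncomputable section

universe u

open CategoryTheory CategoryTheory.Limits AlgebraicGeometry TopologicalSpace Opposite
open scoped TensorProduct

namespace Groth.Agent.PP38

open Groth.Agent.Synt29.OmegaStalk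

variable {X S : Scheme.{u}} (f : X ⟶ S)

/-- Linearity for the functions pulled back from the base. -/
def SLin {F G : X.Modules} (D : F.presheaf ⟶ G.presheaf) : Prop :=
  ∀ (V : S.Opens) (s : Γ(S, V)) (U : X.Opens) (hU : U ≤ f ⁻¹ᵁ V) (t : Γ(F, U)),
    D.app (op U) (X.presheaf.map (homOfLE hU).op (f.app V s) • t) =
      X.presheaf.map (homOfLE hU).op (f.app V s) • D.app (op U) t

/-- The algebraic description of operators of order at most `n`. -/
def IsDO {F G : X.Modules} (n : ℕ) (D : F.presheaf ⟶ G.presheaf) : Prop :=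
  SLin f D ∧ ∀ U : X.Opens,
    Kills Γ(X, U) (n + 1) ((D.app (op U)).hom : Γ(F, U) →+ Γ(G, U))

variable {f}
variable {F G : X.Modules}

/-- The map of stalks. -/
def stD (D : F.presheaf ⟶ G.presheaf) (x : X) : St F x →+ St G x :=
  ((TopCat.Presheaf.stalkFunctor AddCommGrpCat.{u} x).map D).hom

theorem stD_gm (D : F.presheaf ⟶ G.presheaf) {x : X} {U : X.Opens} (hx : x ∈ U) (t : Γ(F, U)) :
    stD D x (gm F hx t) = gm G hx (D.app (op U) t) :=
  congr($(TopCat.Presheaf.stalkFunctor_map_germ U x hx D) t)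

theorem exists_common (x : X) (k : ℕ) (a : Fin k → X.presheaf.stalk x) (U₀ : X.Opens) (hx : x ∈ U₀) :
    ∃ (U : X.Opens) (hxU : x ∈ U) (_ : U ≤ U₀) (a' : Fin k → Γ(X, U)),
      ∀ i, X.presheaf.germ U x hxU (a' i) = a i := by
  induction k with
  | zero => exact ⟨U₀, hx, le_rfl, Fin.elim0, fun i => i.elim0⟩
  | succ k ih =>
    obtain ⟨U, hxU, hle, a', ha⟩ := ih (a ∘ Fin.succ)
    obtain ⟨W, hxW, b, hb⟩ := X.presheaf.exists_germ_eq (a 0)
    refine ⟨U ⊓ W, ⟨hxU, hxW⟩, inf_le_left.trans hle,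
      Fin.cons (X.presheaf.map (homOfLE inf_le_right).op b)
        (fun i => X.presheaf.map (homOfLE inf_le_left).op (a' i)), fun i => ?_⟩
    induction i using Fin.cases with
    | zero => rw [Fin.cons_zero]; exact (X.presheaf.germ_res_apply _ x _ b).trans hb
    | succ i => rw [Fin.cons_succ]; exact (X.presheaf.germ_res_apply _ x _ (a' i)).trans (ha i)

theorem kills_stD {n : ℕ} {D : F.presheaf ⟶ G.presheaf}
    (h : ∀ U : X.Opens, Kills Γ(X, U) n ((D.app (op U)).hom : Γ(F, U) →+ Γ(G, U))) (x : X) :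
    Kills (X.presheaf.stalk x) n (stD D x) := by
  refine (kills_iff_psi n _ (isLin_int _)).2 fun a => AddMonoidHom.ext fun m => ?_
  obtain ⟨W, hxW, t, rfl⟩ := gm_surjective F m
  obtain ⟨U, hxU, hle, a', ha⟩ := exists_common x n a W hxW
  rw [show gm F hxW t = gm F hxU (F.presheaf.map (homOfLE hle).op t) from (gm_res F _ hxU t).symm]
  have key := psi_natural (X.presheaf.germ U x hxU).hom (gm F hxU) (gm G hxU)
    (gm_smul F hxU) (gm_smul G hxU) ((D.app (op U)).hom : Γ(F, U) →+ Γ(G, U)) (stD D x)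
    (fun s => stD_gm D hxU s) (∏ i, (1 ⊗ₜ a' i - a' i ⊗ₜ 1)) (F.presheaf.map (homOfLE hle).op t)
  rw [(kills_iff_psi n _ (isLin_int _)).1 (h U) a', AddMonoidHom.zero_apply, map_zero, map_prod] at key
  simp only [map_sub, Algebra.TensorProduct.map_tmul, map_one] at key
  rw [AddMonoidHom.zero_apply, ← key]
  congr 3 with i
  exact (congrArg₂ (fun p q => ((1 : X.presheaf.stalk x) ⊗ₜ[ℤ] p - q ⊗ₜ[ℤ] (1 : X.presheaf.stalk x)))
    (ha i) (ha i)).symm

theorem isLin_stD {D : F.presheaf ⟶ G.presheaf} (hD : SLin f D) {x : X} {V : S.Opens} {U : X.Opens}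
    (e : U ≤ f ⁻¹ᵁ V) (hx : x ∈ U) :
    letI := ((X.presheaf.germ U x hx).hom.comp (f.appLE V U e).hom).toAlgebra
    IsLin (R := X.presheaf.stalk x) Γ(S, V) (stD D x) := by
  intro s m
  obtain ⟨W, hxW, t, rfl⟩ := gm_surjective F m
  let h : W ⊓ U ≤ f ⁻¹ᵁ V := inf_le_right.trans e
  have hg : (X.presheaf.germ U x hx).hom ((f.appLE V U e).hom s) =
      X.presheaf.germ (W ⊓ U) x ⟨hxW, hx⟩ (X.presheaf.map (homOfLE h).op (f.app V s)) := by
    show X.presheaf.germ U x hx (f.appLE V U e s) = _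
    rw [Scheme.Hom.appLE, CommRingCat.comp_apply]
    exact (X.presheaf.germ_res_apply _ x _ _).trans (X.presheaf.germ_res_apply (homOfLE h) x _ _).symm
  show stD D x ((X.presheaf.germ U x hx).hom ((f.appLE V U e).hom s) • gm F hxW t) =
    (X.presheaf.germ U x hx).hom ((f.appLE V U e).hom s) • stD D x (gm F hxW t)
  have ht : gm F hxW t = gm F (show x ∈ W ⊓ U from ⟨hxW, hx⟩)
      (F.presheaf.map (homOfLE inf_le_left).op t) := (gm_res F _ _ t).symm
  rw [hg, ht]
  refine Eq.trans (congrArg (stD D x) (gm_smul F _ _ _).symm) ?_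
  refine (stD_gm D _ _).trans ((congrArg (gm G _) (hD V s _ h _)).trans ((gm_smul G _ _ _).trans ?_))
  exact congrArg (_ • ·) (stD_gm D _ _).symm

theorem exists_transport (M : X.Modules) {x y : X} (e : y = x) :
    ∃ τ : St M y →+ St M x,
      (∀ (U : X.Opens) (hy : y ∈ U) (hx : x ∈ U) (t : Γ(M, U)), τ (gm M hy t) = gm M hx t) ∧
      ∀ (U : X.Opens) (hy : y ∈ U) (hx : x ∈ U) (b : Γ(X, U)) (m : St M y),
        τ (X.presheaf.germ U y hy b • m) = X.presheaf.germ U x hx b • τ m := by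
  subst e
  exact ⟨AddMonoidHom.id _, fun _ _ _ _ => rfl, fun _ _ _ _ _ => rfl⟩

open scoped ChangeOfRings in
set_option backward.isDefEq.respectTransparency false in
theorem exists_extendLift {R T : Type u} [CommRing R] [CommRing T] (φ : R →+* T) (M : ModuleCat.{u} R)
    {N : Type u} [AddCommGroup N] (β : T →+ (M →+ N))
    (hβ : ∀ (r : R) (ν : T) (t : M), β (φ r * ν) t = β ν (r • t)) :
    ∃ L : ((ModuleCat.extendScalars φ).obj M) →+ N,
      (∀ (ν : T) (t : M), L (ν ⊗ₜ[R,φ] t) = β ν t) ∧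
      ∀ (c : T) (g : N →+ N), (∀ ν t, β (c * ν) t = g (β ν t)) →
        ∀ m : (ModuleCat.extendScalars φ).obj M, L (c • m) = g (L m) := by
  letI := Module.compHom T φ
  let L : T ⊗[R] M →+ N := TensorProduct.liftAddHom β fun r ν t => hβ r ν t
  refine ⟨L, fun ν t => rfl, fun c g hg m => ?_⟩
  induction m using TensorProduct.induction_on with
  | zero => rw [smul_zero, map_zero, map_zero]
  | add p q hp hq => rw [smul_add, map_add, map_add, hp, hq, map_add]
  | tmul ν t =>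
    rw [ModuleCat.ExtendScalars.smul_tmul]
    exact hg ν t

variable {n : ℕ}

variable (f n) in
/-- The pullback used in `P^n`. -/
abbrev PB (F : X.Modules) : (PrinPart.nbhd f n).Modules :=
  (Scheme.Modules.pullback (PrinPart.pr2 f n)).obj F

theorem exists_u {D : F.presheaf ⟶ G.presheaf} (hD : IsDO f n D) (z : PrinPart.nbhd f n) :
    ∃ u : St (PB f n F) z →+ St G (PrinPart.pr1 f n z),
      (∀ (a : X.presheaf.stalk (PrinPart.pr1 f n z)) m, u (r1 f n z a • m) = a • u m) ∧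
      ∀ (W : X.Opens) (hx : PrinPart.pr1 f n z ∈ W) (hy : z ∈ PrinPart.pr2 f n ⁻¹ᵁ W) (t : Γ(F, W)),
        u (gm (PB f n F) hy (OmegaSh.pullSect (PrinPart.pr2 f n) F W t)) = gm G hx (D.app (op W) t) := by
  obtain ⟨V, U, e, hxU, θ, hsurj, hker, θ1, θ2⟩ := exists_theta f n z
  letI := ((X.presheaf.germ U.1 _ hxU).hom.comp (f.appLE V.1 U.1 e).hom).toAlgebra
  obtain ⟨β, β1, βl, βr⟩ := exists_factor θ hsurj hker (stD D (PrinPart.pr1 f n z))
    (isLin_stD hD.1 e hxU) (kills_stD hD.2 _)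
  obtain ⟨τ, τgm, τsmul⟩ := exists_transport F (PrinPart.pr1_apply f n z).symm
  let y := PrinPart.pr2 f n z
  let φ := ((PrinPart.pr2 f n).stalkMap z).hom
  let β' : (PrinPart.nbhd f n).presheaf.stalk z →+ (St F y →+ St G (PrinPart.pr1 f n z)) :=
    AddMonoidHom.mk' (fun ν => (β ν).comp τ) fun ν ν' => by rw [map_add, AddMonoidHom.add_comp]
  obtain ⟨L, L1, L2⟩ := exists_extendLift φ (St F y) β' (fun r ν t => by
    obtain ⟨W, hy, b, rfl⟩ := X.presheaf.exists_germ_eq r
    have hx : PrinPart.pr1 f n z ∈ W := PrinPart.pr1_apply f n z ▸ hy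
    show β (φ _ * ν) (τ t) = β ν (τ (_ • t))
    rw [τsmul W hy hx b t, ← βr, θ2, mul_comm]
    refine congrArg (fun q => β (ν * q) (τ t)) ?_
    show φ _ = φ (sc f n z _)
    rw [sc_germ])
  let E := ((KFlatLib.stalkPullbackIso (PrinPart.pr2 f n) z).app F).toLinearEquiv
  refine ⟨L.comp E.toLinearMap.toAddMonoidHom, fun a m => ?_, fun W hx hy t => ?_⟩
  · show L (E (r1 f n z a • m)) = a • L (E m)
    rw [map_smul]
    refine L2 (r1 f n z a) (DistribSMul.toAddMonoidHom _ a) (fun ν t => ?_) (E m)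
    show β (r1 f n z a * ν) (τ t) = a • β ν (τ t)
    rw [← θ1, βl]
  · show L (E (gm (PB f n F) hy (OmegaSh.pullSect (PrinPart.pr2 f n) F W t))) = _
    refine (congrArg L (stalkPullbackIso_gm (PrinPart.pr2 f n) F z (U := W) hy t)).trans ?_
    refine (L1 _ _).trans ?_
    show β 1 (τ (gm F hy t)) = _
    rw [τgm W hy hx, β1, stD_gm]

/-- The chosen map on stalks. -/
def uz {D : F.presheaf ⟶ G.presheaf} (hD : IsDO f n D) (z : PrinPart.nbhd f n) :
    St (PB f n F) z →+ St G (PrinPart.pr1 f n z) :=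
  (exists_u hD z).choose

/-- Germs of sections of `P^n(F)` on the neighbourhood. -/
def g1 (F : X.Modules) (z : PrinPart.nbhd f n) {U : X.Opens} (hz : PrinPart.pr1 f n z ∈ U) :
    Γ(PrinPart.PMod f n F, U) →+ St (PB f n F) z :=
  gm (PB f n F) (U := PrinPart.pr1 f n ⁻¹ᵁ U) hz

theorem g1_smul (F : X.Modules) (z : PrinPart.nbhd f n) {U : X.Opens} (hz : PrinPart.pr1 f n z ∈ U)
    (a : Γ(X, U)) (σ : Γ(PrinPart.PMod f n F, U)) :
    g1 F z hz (a • σ) = r1 f n z (X.presheaf.germ U _ hz a) • g1 F z hz σ :=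
  (gm_smul (PB f n F) (U := PrinPart.pr1 f n ⁻¹ᵁ U) hz _ _).trans
    (congrArg (· • _) (Scheme.Hom.germ_stalkMap_apply (PrinPart.pr1 f n) U z hz a).symm)

theorem g1_res (F : X.Modules) (z : PrinPart.nbhd f n) {U V : X.Opens} (h : V ≤ U)
    (hz : PrinPart.pr1 f n z ∈ V) (σ : Γ(PrinPart.PMod f n F, U)) :
    g1 F z hz ((PrinPart.PMod f n F).presheaf.map (homOfLE h).op σ) = g1 F z (h hz) σ :=
  PPSheaf.gm_res' f n F h hz σ

theorem g1_dP (F : X.Modules) (z : PrinPart.nbhd f n) {U : X.Opens} (hz : PrinPart.pr1 f n z ∈ U)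
    (t : Γ(F, U)) :
    g1 F z hz (PrinPart.dP f n F U t) = gm (PB f n F) (U := PrinPart.pr2 f n ⁻¹ᵁ U)
      ((PrinPart.preimage_pr1 f n U).le hz) (OmegaSh.pullSect (PrinPart.pr2 f n) F U t) :=
  gm_res (PB f n F) _ _ _

/-- The value of the descended map. -/
def Rel {D : F.presheaf ⟶ G.presheaf} (hD : IsDO f n D) (U : X.Opens) (σ : Γ(PrinPart.PMod f n F, U))
    (τ : Γ(G, U)) : Prop :=
  ∀ (z : PrinPart.nbhd f n) (hz : PrinPart.pr1 f n z ∈ U), gm G hz τ = uz hD z (g1 F z hz σ)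

variable {D : F.presheaf ⟶ G.presheaf} (hD : IsDO f n D)

theorem rel_unique {U : X.Opens} {σ : Γ(PrinPart.PMod f n F, U)} {τ τ' : Γ(G, U)} (h : Rel hD U σ τ)
    (h' : Rel hD U σ τ') : τ = τ' := by
  refine TopCat.Presheaf.section_ext ⟨G.presheaf, G.isSheaf⟩ U _ _ fun x hx => ?_
  have key : ∀ y : X, y = x → ∀ hy : y ∈ U,
      gm G hy τ = gm G hy τ' → gm G hx τ = gm G hx τ' := by rintro _ rfl _ h; exact h
  have hp : PrinPart.pr1 f n (PrinPart.toNbhd f n x) = x := by
    rw [← Scheme.Hom.comp_apply, PrinPart.toNbhd_pr1]; rfl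
  have hx' : PrinPart.pr1 f n (PrinPart.toNbhd f n x) ∈ U := by rw [hp]; exact hx
  exact key _ hp hx' ((h _ hx').trans (h' _ hx').symm)

theorem rel_add {U : X.Opens} {σ σ' : Γ(PrinPart.PMod f n F, U)} {τ τ' : Γ(G, U)} (h : Rel hD U σ τ)
    (h' : Rel hD U σ' τ') : Rel hD U (σ + σ') (τ + τ') := fun z hz => by
  rw [map_add, h z hz, h' z hz, ← map_add, ← map_add]

theorem rel_zero (U : X.Opens) : Rel hD U 0 0 := fun z hz => by
  rw [map_zero, map_zero, map_zero]

theorem rel_smul {U : X.Opens} (a : Γ(X, U)) {σ : Γ(PrinPart.PMod f n F, U)} {τ : Γ(G, U)}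
    (h : Rel hD U σ τ) : Rel hD U (a • σ) (a • τ) := fun z hz => by
  rw [gm_smul, h z hz]
  rw [g1_smul]
  exact ((exists_u hD z).choose_spec.1 _ _).symm

theorem rel_res {U V : X.Opens} (h : V ≤ U) {σ : Γ(PrinPart.PMod f n F, U)} {τ : Γ(G, U)}
    (hr : Rel hD U σ τ) :
    Rel hD V ((PrinPart.PMod f n F).presheaf.map (homOfLE h).op σ) (G.presheaf.map (homOfLE h).op τ) :=
  fun z hz => by
    rw [gm_res, g1_res]
    exact hr z (h hz)

theorem rel_dP (U : X.Opens) (t : Γ(F, U)) : Rel hD U (PrinPart.dP f n F U t) (D.app (op U) t) :=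
  fun z hz => by
    rw [g1_dP]
    exact ((exists_u hD z).choose_spec.2 U hz _ t).symm

theorem exists_rel (U : X.Opens) (σ : Γ(PrinPart.PMod f n F, U)) : ∃ τ, Rel hD U σ τ := by
  let ι := {V : X.Opens // ∃ h : V ≤ U, (PrinPart.PMod f n F).presheaf.map (homOfLE h).op σ ∈
      Submodule.span Γ(X, V) (Set.range (PrinPart.dP f n F V))}
  have hloc : ∀ i : ι, ∃ τ, Rel hD i.1 ((PrinPart.PMod f n F).presheaf.map (homOfLE i.2.choose).op σ) τ := by
    intro i
    have hmem := i.2.choose_spec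
    generalize (PrinPart.PMod f n F).presheaf.map (homOfLE i.2.choose).op σ = w at hmem ⊢
    induction hmem using Submodule.span_induction with
    | mem x hx => obtain ⟨t, rfl⟩ := hx; exact ⟨_, rel_dP hD _ t⟩
    | zero => exact ⟨0, rel_zero hD _⟩
    | add x y _ _ hx hy =>
      obtain ⟨a, ha⟩ := hx
      obtain ⟨b, hb⟩ := hy
      exact ⟨a + b, rel_add hD ha hb⟩
    | smul a x _ hx =>
      obtain ⟨b, hb⟩ := hx
      exact ⟨a • b, rel_smul hD a hb⟩
  choose t ht using hloc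
  obtain ⟨T, hT, -⟩ := TopCat.Sheaf.existsUnique_gluing' ⟨G.presheaf, G.isSheaf⟩
    (fun i : ι => i.1) U (fun i => homOfLE i.2.choose)
    (fun x hx => by
      obtain ⟨V, h, hxV, hm⟩ := PPSheaf.exists_mem_span f n F U σ x hx
      exact Opens.mem_iSup.2 ⟨⟨V, h, hm⟩, hxV⟩) t (fun i j => by
      have h1 := rel_res hD (inf_le_left : i.1 ⊓ j.1 ≤ i.1) (ht i)
      have h2 := rel_res hD (inf_le_right : i.1 ⊓ j.1 ≤ j.1) (ht j)
      erw [OmegaSh.resM_resM] at h1 h2
      exact rel_unique hD h1 h2)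
  refine ⟨T, fun z hz => ?_⟩
  obtain ⟨V, h, hxV, hm⟩ := PPSheaf.exists_mem_span f n F U σ (PrinPart.pr1 f n z) hz
  have e1 := ht ⟨V, h, hm⟩ z hxV
  rw [← hT ⟨V, h, hm⟩] at e1
  refine ((gm_res G (homOfLE h) hxV T).symm.trans e1).trans (congrArg _ ?_)
  exact g1_res F z h hxV σ

/-- The linear map out of `P^n(F)` attached to an operator. -/
def desc : PrinPart.PMod f n F ⟶ G where
  val := PresheafOfModules.homMk
    { app := fun U => AddCommGrpCat.ofHom (AddMonoidHom.mk' (fun σ => (exists_rel hD U.unop σ).choose)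
        fun σ σ' => rel_unique hD (exists_rel hD U.unop (σ + σ')).choose_spec
          (rel_add hD (exists_rel hD U.unop σ).choose_spec (exists_rel hD U.unop σ').choose_spec))
      naturality := fun U V i => by
        ext σ
        exact rel_unique hD (exists_rel hD V.unop _).choose_spec
          (rel_res hD i.unop.le (exists_rel hD U.unop σ).choose_spec) }
    fun U a σ => rel_unique hD (exists_rel hD U.unop _).choose_spec
      (rel_smul hD a (exists_rel hD U.unop σ).choose_spec)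

theorem desc_dP (U : X.Opens) (t : Γ(F, U)) :
    (desc hD).app U (PrinPart.dP f n F U t) = D.app (op U) t :=
  rel_unique hD (exists_rel hD U _).choose_spec (rel_dP hD U t)

include hD in
theorem isDiffOpLE_of_isDO : PrinPart.IsDiffOpLE f F G n D :=
  ⟨desc hD, fun U t => (desc_dP hD U t).symm⟩

end Groth.Agent.PP38
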