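import Mathlib.RingTheory.Kaehler.Basic
import Mathlib.RingTheory.TensorProduct.Basic
import Mathlib.Algebra.BigOperators.Ring.Finset

/-!
# Differential operators between modules: brackets, composition, alternating sums
-/

set_option autoImplicit false

noncomputable section

universe u v w

open scoped TensorProduct

namespace Groth.Agent.PP38

section

variable {R : Type u} [CommRing R] {M : Type v} [AddCommGroup M] [Module R M]
  {N : Type w} [AddCommGroup N] [Module R N]

/-- The bracket `t ↦ D(a t) - a D t`. -/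
def br (D : M →+ N) (a : R) : M →+ N where
  toFun t := D (a • t) - a • D t
  map_zero' := by simp
  map_add' s t := by simp only [smul_add, map_add]; abel

theorem br_apply (D : M →+ N) (a : R) (t : M) : br D a t = D (a • t) - a • D t := rfl

variable (R) in
/-- All `n`-fold brackets vanish. -/
def Kills : ℕ → (M →+ N) → Prop
  | 0, D => D = 0
  | n + 1, D => ∀ a : R, Kills n (br D a)

theorem kills_zero (n : ℕ) : Kills R n (0 : M →+ N) := by
  induction n with
  | zero => rfl
  | succ n ih =>
    intro a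
    have : br (0 : M →+ N) a = 0 := AddMonoidHom.ext fun t => by simp [br_apply]
    rw [this]; exact ih

theorem kills_add (n : ℕ) : ∀ {D E : M →+ N}, Kills R n D → Kills R n E → Kills R n (D + E) := by
  induction n with
  | zero => intro D E hD hE; show D + E = 0; rw [show D = 0 from hD, show E = 0 from hE, add_zero]
  | succ n ih =>
    intro D E hD hE a
    have : br (D + E) a = br D a + br E a := AddMonoidHom.ext fun t => by
      simp only [br_apply, AddMonoidHom.add_apply, smul_add]; abel
    rw [this]; exact ih (hD a) (hE a)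

theorem kills_succ (n : ℕ) : ∀ {D : M →+ N}, Kills R n D → Kills R (n + 1) D := by
  induction n with
  | zero =>
    intro D hD a
    show br D a = 0
    rw [show D = 0 from hD]
    exact AddMonoidHom.ext fun t => by simp [br_apply]
  | succ n ih => intro D hD a; exact ih (hD a)

theorem kills_mono {n m : ℕ} (h : n ≤ m) {D : M →+ N} (hD : Kills R n D) : Kills R m D := by
  induction h with
  | refl => exact hD
  | step _ ih => exact kills_succ _ ih

end

section

variable {R : Type u} [CommRing R] {M : Type v} [AddCommGroup M] [Module R M]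
  {N : Type w} [AddCommGroup N] [Module R N] {P : Type*} [AddCommGroup P] [Module R P]

theorem kills_comp (m : ℕ) : ∀ (n : ℕ) {D : M →+ N} {E : N →+ P},
    Kills R n D → Kills R (m + 1) E → Kills R (n + m) (E.comp D) := by
  induction m with
  | zero =>
    intro n
    induction n with
    | zero =>
      intro D E hD _
      show E.comp D = 0
      rw [show D = 0 from hD]
      exact AddMonoidHom.ext fun t => by simp
    | succ n ih =>
      intro D E hD hE a
      have : br (E.comp D) a = E.comp (br D a) := AddMonoidHom.ext fun t => by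
        have h0 := DFunLike.congr_fun (show br E a = 0 from hE a) (D t)
        simp only [br_apply, AddMonoidHom.zero_apply, sub_eq_zero] at h0
        simp [br_apply, h0]
      rw [this]
      exact ih (hD a) hE
  | succ m ihm =>
    intro n
    induction n with
    | zero =>
      intro D E hD _
      have : E.comp D = 0 := by
        rw [show D = 0 from hD]; exact AddMonoidHom.ext fun t => by simp
      rw [this]; exact kills_zero _
    | succ n ih =>
      intro D E hD hE
      rw [show n + 1 + (m + 1) = (n + (m + 1)) + 1 by omega]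
      intro a
      have : br (E.comp D) a = E.comp (br D a) + (br E a).comp D := AddMonoidHom.ext fun t => by
        simp only [br_apply, AddMonoidHom.add_apply, AddMonoidHom.comp_apply, map_sub]; abel
      rw [this]
      refine kills_add _ (ih (hD a) hE) ?_
      rw [show n + (m + 1) = n + 1 + m by omega]
      exact ihm _ hD (hE a)

end

section Psi

variable {A : Type*} [CommRing A] {R : Type u} [CommRing R] [Algebra A R]
  {M : Type v} [AddCommGroup M] [Module R M] {N : Type w} [AddCommGroup N] [Module R N]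

/-- Operators commuting with the scalars of `A`. -/
def IsLin (A : Type*) [CommRing A] [Algebra A R] (D : M →+ N) : Prop :=
  ∀ (s : A) (t : M), D (algebraMap A R s • t) = algebraMap A R s • D t

theorem IsLin.br {D : M →+ N} (hD : IsLin (R := R) A D) (a : R) : IsLin (R := R) A (PP38.br D a) := by
  intro s t
  rw [br_apply, br_apply, smul_comm a, hD, hD, smul_sub, smul_comm a]

theorem isLin_int (D : M →+ N) : IsLin (R := R) ℤ D := fun s t => by
  rw [algebraMap_int_eq, eq_intCast, Int.cast_smul_eq_zsmul, Int.cast_smul_eq_zsmul, map_zsmul]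

/-- `a ⊗ b ↦ (t ↦ a • D (b • t))`. -/
def psi (D : M →+ N) (hD : IsLin (R := R) A D) : R ⊗[A] R →+ (M →+ N) :=
  TensorProduct.liftAddHom
    (AddMonoidHom.mk' (fun a => AddMonoidHom.mk' (fun b => AddMonoidHom.mk' (fun t => a • D (b • t))
        (fun s t => by simp only [smul_add, map_add]))
      (fun b b' => AddMonoidHom.ext fun t => by
        simp only [add_smul, map_add, smul_add, AddMonoidHom.mk'_apply, AddMonoidHom.add_apply]))
      (fun a a' => AddMonoidHom.ext fun b => AddMonoidHom.ext fun t => by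
        simp only [add_smul, AddMonoidHom.mk'_apply, AddMonoidHom.add_apply]))
    (fun s a b => AddMonoidHom.ext fun t => by
      show (s • a) • D (b • t) = a • D ((s • b) • t)
      rw [Algebra.smul_def, Algebra.smul_def, mul_smul, mul_smul, hD, smul_comm])

theorem psi_tmul (D : M →+ N) (hD : IsLin (R := R) A D) (a b : R) (t : M) :
    psi D hD (a ⊗ₜ b) t = a • D (b • t) := rfl

theorem psi_one (D : M →+ N) (hD : IsLin (R := R) A D) (t : M) : psi D hD 1 t = D t := by
  rw [Algebra.TensorProduct.one_def, psi_tmul, one_smul, one_smul]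

theorem psi_left (D : M →+ N) (hD : IsLin (R := R) A D) (a : R) (τ : R ⊗[A] R) (t : M) :
    psi D hD ((a ⊗ₜ 1) * τ) t = a • psi D hD τ t := by
  induction τ with
  | zero => simp
  | add x y hx hy => simp only [mul_add, map_add, AddMonoidHom.add_apply, hx, hy, smul_add]
  | tmul c d => rw [Algebra.TensorProduct.tmul_mul_tmul, one_mul, psi_tmul, psi_tmul, mul_smul]

theorem psi_right (D : M →+ N) (hD : IsLin (R := R) A D) (b : R) (τ : R ⊗[A] R) (t : M) :
    psi D hD (τ * (1 ⊗ₜ b)) t = psi D hD τ (b • t) := by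
  induction τ with
  | zero => simp
  | add x y hx hy => simp only [add_mul, map_add, AddMonoidHom.add_apply, hx, hy]
  | tmul c d => rw [Algebra.TensorProduct.tmul_mul_tmul, mul_one, psi_tmul, psi_tmul, mul_smul]

theorem psi_mul_xi (D : M →+ N) (hD : IsLin (R := R) A D) (b : R) (τ : R ⊗[A] R) :
    psi D hD (τ * (1 ⊗ₜ b - b ⊗ₜ 1)) = psi (br D b) (hD.br b) τ := by
  refine AddMonoidHom.ext fun t => ?_
  induction τ with
  | zero => simp
  | add x y hx hy => simp only [add_mul, map_add, AddMonoidHom.add_apply, hx, hy]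
  | tmul c d =>
    rw [mul_sub, map_sub, AddMonoidHom.sub_apply, Algebra.TensorProduct.tmul_mul_tmul,
      Algebra.TensorProduct.tmul_mul_tmul, psi_tmul, psi_tmul, psi_tmul, br_apply, mul_one, mul_one,
      smul_sub, mul_smul, mul_smul, smul_comm d b]

/-- Killed operators kill powers of the diagonal ideal. -/
theorem psi_eq_zero (n : ℕ) : ∀ (D : M →+ N) (hD : IsLin (R := R) A D), Kills R n D →
    ∀ τ ∈ KaehlerDifferential.ideal A R ^ n, psi D hD τ = 0 := by
  induction n with
  | zero =>
    intro D hD h τ hτ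
    subst h
    clear hτ
    refine AddMonoidHom.ext fun t => ?_
    induction τ with
    | zero => simp
    | add x y hx hy => simp_all [map_add]
    | tmul c d => simp [psi_tmul]
  | succ n ih =>
    intro D hD h τ hτ
    rw [pow_succ, ← KaehlerDifferential.span_range_eq_ideal] at hτ
    induction hτ using Submodule.mul_induction_on' with
    | mem_mul_mem x hx y hy =>
      induction hy using Submodule.span_induction generalizing x with
      | mem y hy =>
        obtain ⟨b, rfl⟩ := hy
        have hx' : x ∈ KaehlerDifferential.ideal A R ^ n := by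
          rwa [KaehlerDifferential.span_range_eq_ideal] at hx
        rw [psi_mul_xi]
        exact ih _ _ (h b) x hx'
      | zero => rw [mul_zero, map_zero]
      | add y y' _ _ h1 h2 => rw [mul_add, map_add, h1 x hx, h2 x hx, add_zero]
      | smul c y _ h1 =>
        rw [smul_eq_mul, ← mul_assoc]
        exact h1 _ (Ideal.mul_mem_right _ _ hx)
    | add x _ y _ hx hy => rw [map_add, hx, hy, add_zero]

/-- Products of `1 ⊗ a - a ⊗ 1` detect killed operators. -/
theorem kills_iff_psi (n : ℕ) : ∀ (D : M →+ N) (hD : IsLin (R := R) A D),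
    Kills R n D ↔ ∀ a : Fin n → R, psi D hD (∏ i, (1 ⊗ₜ a i - a i ⊗ₜ 1)) = 0 := by
  induction n with
  | zero =>
    intro D hD
    constructor
    · intro h a
      refine AddMonoidHom.ext fun t => ?_
      rw [Fintype.prod_empty, psi_one, show D = 0 from h]
    · intro h
      refine AddMonoidHom.ext fun t => ?_
      have := DFunLike.congr_fun (h Fin.elim0) t
      rwa [Fintype.prod_empty, psi_one] at this
  | succ n ih =>
    intro D hD
    constructor
    · intro h a
      rw [Fin.prod_univ_succ, mul_comm, psi_mul_xi]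
      exact (ih _ _).1 (h (a 0)) _
    · intro h b
      refine (ih _ (hD.br b)).2 fun a => ?_
      have := h (Fin.cons b a)
      rw [Fin.prod_univ_succ, mul_comm, Fin.cons_zero] at this
      simp only [Fin.cons_succ] at this
      rwa [psi_mul_xi] at this

/-- Factor `psi` through a quotient of `R ⊗ R`. -/
theorem exists_factor {T : Type*} [CommRing T] (θ : R ⊗[A] R →+* T) (hθ : Function.Surjective θ)
    {n : ℕ} (hker : RingHom.ker θ ≤ KaehlerDifferential.ideal A R ^ n)
    (D : M →+ N) (hD : IsLin (R := R) A D) (h : Kills R n D) :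
    ∃ β : T →+ (M →+ N), (∀ t, β 1 t = D t) ∧
      (∀ a ν t, β (θ (a ⊗ₜ 1) * ν) t = a • β ν t) ∧
      (∀ b ν t, β (ν * θ (1 ⊗ₜ b)) t = β ν (b • t)) := by
  have hle : θ.toAddMonoidHom.ker ≤ (psi D hD).ker := fun τ hτ =>
    psi_eq_zero n D hD h τ (hker hτ)
  let β := θ.toAddMonoidHom.liftOfSurjective hθ ⟨psi D hD, hle⟩
  have hβ : ∀ τ, β (θ τ) = psi D hD τ := fun τ =>
    θ.toAddMonoidHom.liftOfRightInverse_comp_apply _ _ ⟨psi D hD, hle⟩ τ
  refine ⟨β, fun t => ?_, fun a ν t => ?_, fun b ν t => ?_⟩
  · rw [← map_one θ, hβ, psi_one]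
  · obtain ⟨τ, rfl⟩ := hθ ν
    rw [← map_mul, hβ, hβ, psi_left]
  · obtain ⟨τ, rfl⟩ := hθ ν
    rw [← map_mul, hβ, hβ, psi_right]

end Psi

section Nat

variable {R R' : Type*} [CommRing R] [CommRing R']
  {M N M' N' : Type*} [AddCommGroup M] [Module R M] [AddCommGroup N] [Module R N]
  [AddCommGroup M'] [Module R' M'] [AddCommGroup N'] [Module R' N']

/-- Naturality of `psi` over `ℤ`. -/
theorem psi_natural (φ : R →+* R') (μ : M →+ M') (ν : N →+ N')
    (hμ : ∀ a t, μ (a • t) = φ a • μ t) (hν : ∀ a t, ν (a • t) = φ a • ν t)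
    (D : M →+ N) (D' : M' →+ N') (h : ∀ t, D' (μ t) = ν (D t))
    (τ : R ⊗[ℤ] R) (t : M) :
    psi D' (isLin_int D') (Algebra.TensorProduct.map φ.toIntAlgHom φ.toIntAlgHom τ) (μ t) =
      ν (psi D (isLin_int D) τ t) := by
  induction τ with
  | zero => simp
  | add x y hx hy => simp only [map_add, AddMonoidHom.add_apply, hx, hy]
  | tmul c d =>
    rw [Algebra.TensorProduct.map_tmul, psi_tmul, psi_tmul]
    show φ c • D' (φ d • μ t) = _
    rw [← hμ, h, hν]

end Nat

section AltSum

variable {R : Type u} [CommRing R] {M : Type v} [AddCommGroup M] [Module R M]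
  {N : Type w} [AddCommGroup N] [Module R N]

/-- The alternating sum is `psi` of a product. -/
theorem altSum_eq_psi {ι : Type*} [Fintype ι] [DecidableEq ι] (D : M →+ N) (a : ι → R) (t : M) :
    (∑ H : Finset ι, ((-1 : ℤ) ^ H.card) • ((∏ i ∈ H, a i) • D ((∏ i ∈ Hᶜ, a i) • t))) =
      psi D (isLin_int D) (∏ i, ((1 : R) ⊗ₜ[ℤ] a i - a i ⊗ₜ[ℤ] (1 : R))) t := by
  have hL : ∀ s : Finset ι, (∏ i ∈ s, a i ⊗ₜ[ℤ] (1 : R)) = (∏ i ∈ s, a i) ⊗ₜ[ℤ] (1 : R) := fun s =>
    (map_prod (Algebra.TensorProduct.includeLeftRingHom : R →+* R ⊗[ℤ] R) a s).symm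
  have hR : ∀ s : Finset ι, (∏ i ∈ s, (1 : R) ⊗ₜ[ℤ] a i) = (1 : R) ⊗ₜ[ℤ] (∏ i ∈ s, a i) := fun s =>
    (map_prod (Algebra.TensorProduct.includeRight : R →ₐ[ℤ] R ⊗[ℤ] R) a s).symm
  have key : (∏ i, ((1 : R) ⊗ₜ[ℤ] a i - a i ⊗ₜ[ℤ] (1 : R))) =
      ∑ H : Finset ι, ((-1 : ℤ) ^ H.card) • ((∏ i ∈ H, a i) ⊗ₜ[ℤ] (∏ i ∈ Hᶜ, a i)) := by
    rw [Finset.prod_congr rfl fun i _ => (neg_add_eq_sub (a i ⊗ₜ[ℤ] (1 : R)) ((1 : R) ⊗ₜ[ℤ] a i)).symm,
      Finset.prod_add, Finset.powerset_univ]
    refine Finset.sum_congr rfl fun H _ => ?_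
    have hneg : (∏ i ∈ H, -(a i ⊗ₜ[ℤ] (1 : R))) = (-1) ^ H.card * ∏ i ∈ H, a i ⊗ₜ[ℤ] (1 : R) :=
      (Finset.prod_congr rfl fun i _ => (neg_one_mul (a i ⊗ₜ[ℤ] (1 : R))).symm).trans
        (by rw [Finset.prod_mul_distrib, Finset.prod_const])
    rw [← Finset.compl_eq_univ_sdiff, hneg, hL, hR, mul_assoc,
      Algebra.TensorProduct.tmul_mul_tmul, one_mul, mul_one, zsmul_eq_mul]
    congr 1
    push_cast
    rfl
  rw [key, map_sum, AddMonoidHom.finsetSum_apply]
  refine Finset.sum_congr rfl fun H _ => ?_
  rw [map_zsmul]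
  rfl

theorem kills_iff_altSum (n : ℕ) (D : M →+ N) :
    Kills R n D ↔ ∀ (a : Fin n → R) (t : M),
      (∑ H : Finset (Fin n), ((-1 : ℤ) ^ H.card) • ((∏ i ∈ H, a i) • D ((∏ i ∈ Hᶜ, a i) • t))) = 0 := by
  rw [kills_iff_psi n D (isLin_int D)]
  constructor
  · intro h a t
    rw [altSum_eq_psi, h a]; rfl
  · intro h a
    refine AddMonoidHom.ext fun t => ?_
    rw [← altSum_eq_psi, h a t]; rfl

end AltSum

end Groth.Agent.PP38
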