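import Groth.Agent.PP38.QRegConv
import Groth.Agent.PPLib.SmoothBaseChange
import Mathlib

/-! Differential smoothness in terms of the ideal of the diagonal. -/

set_option autoImplicit false
set_option linter.style.haveILetI false

noncomputable section

universe u

open TensorProduct PP16 Groth.Agent.PPLib

namespace Groth.Agent.PP38.DiffSmoothQReg

variable (A B : Type u) [CommRing A] [CommRing B] [Algebra A B]

local notation "𝐈" => KaehlerDifferential.ideal A B

theorem algebraMap_mk_eq (r : B ⊗[A] B) :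
    (algebraMap B (B ⊗[A] B) (Algebra.TensorProduct.lmul' A r)) - r ∈ 𝐈 := by
  simp [RingHom.mem_ker, Algebra.TensorProduct.algebraMap_apply]

theorem smul_omega (r : B ⊗[A] B) (ω : KaehlerDifferential A B) :
    r • ω = Algebra.TensorProduct.lmul' A r • ω := by
  rw [← algebraMap_smul (B ⊗[A] B) (Algebra.TensorProduct.lmul' A r) ω, ← sub_eq_zero, ← sub_smul]
  obtain ⟨x, rfl⟩ := Ideal.toCotangent_surjective _ ω
  show Ideal.toCotangent _ ((r - algebraMap B (B ⊗[A] B) (Algebra.TensorProduct.lmul' A r)) • x) = 0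
  rw [Ideal.toCotangent_eq_zero, sq]
  exact Ideal.mul_mem_mul (by rw [← neg_sub]; exact neg_mem (algebraMap_mk_eq A B r)) x.2

theorem toCotangent_rep (ω : KaehlerDifferential A B) :
    Ideal.toCotangent 𝐈 ⟨rep A B ω, rep_mem A B ω⟩ = ω :=
  (KaehlerDifferential.fromIdeal_surjective A B ω).choose_spec

theorem projective_iff : Module.Projective B (KaehlerDifferential A B) ↔
    Module.Projective ((B ⊗[A] B) ⧸ 𝐈) (Ideal.Cotangent 𝐈) := by
  have hs : Function.Surjective (Algebra.TensorProduct.lmul' A (S := B)) := fun b => ⟨b ⊗ₜ 1, by simp⟩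
  let σ : (B ⊗[A] B) ⧸ 𝐈 ≃+* B :=
    RingHom.quotientKerEquivOfSurjective (f := (Algebra.TensorProduct.lmul' A (S := B)).toRingHom) hs
  haveI h1 : RingHomInvPair (σ : (B ⊗[A] B) ⧸ 𝐈 →+* B) (σ.symm : B →+* (B ⊗[A] B) ⧸ 𝐈) := RingHomInvPair.of_ringEquiv σ
  haveI h2 : RingHomInvPair (σ.symm : B →+* (B ⊗[A] B) ⧸ 𝐈) (σ : (B ⊗[A] B) ⧸ 𝐈 →+* B) := RingHomInvPair.of_ringEquiv σ.symm
  let e : Ideal.Cotangent 𝐈 ≃ₛₗ[(σ : (B ⊗[A] B) ⧸ 𝐈 →+* B)] KaehlerDifferential A B :=
    { AddEquiv.refl (Ideal.Cotangent 𝐈) with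
      map_smul' := fun q ω => by
        obtain ⟨r, rfl⟩ := Ideal.Quotient.mk_surjective q
        exact smul_omega A B r ω }
  exact ⟨fun h => Module.Projective.of_equiv e.symm, fun h => Module.Projective.of_equiv e⟩

variable {ι : Type u} [Fintype ι]

/-- symmetric power over the base as a target for linear maps over the tensor square -/
@[implicit_reducible] def modSymB : Module (B ⊗[A] B) (SymmetricPower B ι (KaehlerDifferential A B)) :=
  Module.compHom _ (Algebra.TensorProduct.lmul' A (S := B)).toRingHom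

@[implicit_reducible] def modSymR : Module B (SymmetricPower (B ⊗[A] B) ι (Ideal.Cotangent 𝐈)) :=
  Module.compHom _ (algebraMap B (B ⊗[A] B))

theorem exists_toB : letI := modSymB A B (ι := ι)
    ∃ v : SymmetricPower (B ⊗[A] B) ι (Ideal.Cotangent 𝐈) →ₗ[B ⊗[A] B] SymmetricPower B ι (KaehlerDifferential A B),
      ∀ x : ι → KaehlerDifferential A B, v (SymmetricPower.tprod (B ⊗[A] B) x) = SymmetricPower.tprod B x := by
  letI := modSymB A B (ι := ι)
  let f : MultilinearMap (B ⊗[A] B) (fun _ : ι => Ideal.Cotangent 𝐈) (SymmetricPower B ι (KaehlerDifferential A B)) :=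
    { toFun := fun x => SymmetricPower.tprod B (M := KaehlerDifferential A B) x
      map_update_add' := fun x i a b => (SymmetricPower.tprod B (M := KaehlerDifferential A B)).map_update_add x i a b
      map_update_smul' := fun x i c a => by
        show SymmetricPower.tprod B (M := KaehlerDifferential A B) (Function.update x i (c • a)) = _
        refine (congrArg _ (congrArg (Function.update x i) (smul_omega A B c a))).trans ?_
        exact (SymmetricPower.tprod B (M := KaehlerDifferential A B)).map_update_smul x i _ a }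
  exact ⟨symLift f fun e x => SymmetricPower.tprod_equiv e x, fun x => symLift_tprod _ _ x⟩

theorem exists_toR : letI := modSymR A B (ι := ι)
    ∃ u : SymmetricPower B ι (KaehlerDifferential A B) →ₗ[B] SymmetricPower (B ⊗[A] B) ι (Ideal.Cotangent 𝐈),
      ∀ x : ι → KaehlerDifferential A B, u (SymmetricPower.tprod B x) = SymmetricPower.tprod (B ⊗[A] B) x := by
  letI := modSymR A B (ι := ι)
  let f : MultilinearMap B (fun _ : ι => KaehlerDifferential A B) (SymmetricPower (B ⊗[A] B) ι (Ideal.Cotangent 𝐈)) :=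
    { toFun := fun x => SymmetricPower.tprod (B ⊗[A] B) (M := Ideal.Cotangent 𝐈) x
      map_update_add' := fun x i a b => (SymmetricPower.tprod (B ⊗[A] B) (M := Ideal.Cotangent 𝐈)).map_update_add x i a b
      map_update_smul' := fun x i c a => by
        show SymmetricPower.tprod (B ⊗[A] B) (M := Ideal.Cotangent 𝐈) (Function.update x i (c • a)) = _
        refine (congrArg _ (congrArg (Function.update x i) ((algebraMap_smul (B ⊗[A] B) c a).symm))).trans ?_
        exact (SymmetricPower.tprod (B ⊗[A] B) (M := Ideal.Cotangent 𝐈)).map_update_smul x i _ a }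
  exact ⟨symLift f fun e x => SymmetricPower.tprod_equiv e x, fun x => symLift_tprod _ _ x⟩

theorem exists_common
    (φ : SymmetricPower (B ⊗[A] B) ι (Ideal.Cotangent 𝐈) →ₗ[B ⊗[A] B] grJ (B ⊗[A] B) 𝐈 (Fintype.card ι))
    (hφ : ∀ x : ι → ↥𝐈, φ (SymmetricPower.tprod (B ⊗[A] B) (fun i => Ideal.toCotangent 𝐈 (x i))) = zetaJ (B ⊗[A] B) 𝐈 x)
    (x : ι → KaehlerDifferential A B) :
    φ (SymmetricPower.tprod (B ⊗[A] B) (M := Ideal.Cotangent 𝐈) x) =
      Submodule.Quotient.mk ⟨_, prod_rep_mem A B x⟩ := by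
  rw [show SymmetricPower.tprod (B ⊗[A] B) (M := Ideal.Cotangent 𝐈) x = SymmetricPower.tprod (B ⊗[A] B)
    (fun i => Ideal.toCotangent 𝐈 ⟨rep A B (x i), rep_mem A B (x i)⟩) from
      congrArg _ (funext fun i => (toCotangent_rep A B (x i)).symm), hφ]
  rfl

theorem symGr_of_isDiffSmooth (h : IsDiffSmooth A B) : SymGrBijective (B ⊗[A] B) 𝐈 := by
  intro ι _ _
  obtain ⟨φ, hφ, hsur⟩ := AdicFS4.exists_gr_map 𝐈 ι
  refine ⟨φ, hφ, ?_, hsur⟩
  letI := modSymB A B (ι := ι)
  letI := modSymR A B (ι := ι)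
  obtain ⟨v, hv⟩ := exists_toB A B (ι := ι)
  obtain ⟨u, hu⟩ := exists_toR A B (ι := ι)
  have huv : ∀ y, u (v y) = y := fun y => by
    have hy : y ∈ Submodule.span (B ⊗[A] B) (Set.range (SymmetricPower.tprod (B ⊗[A] B) (ι := ι) (M := Ideal.Cotangent 𝐈))) :=
      SymmetricPower.span_tprod_eq_top (B ⊗[A] B) ι (Ideal.Cotangent 𝐈) ▸ Submodule.mem_top
    induction hy using Submodule.span_induction with
    | mem w hw => obtain ⟨x, rfl⟩ := hw; exact (congrArg u (hv x)).trans (hu x)
    | zero => rw [map_zero, map_zero]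
    | add a b _ _ ha hb => rw [map_add, map_add, ha, hb]
    | smul c a _ ha =>
      rw [map_smul, show c • v a = Algebra.TensorProduct.lmul' A c • v a from rfl, map_smul, ha]
      show algebraMap B (B ⊗[A] B) (Algebra.TensorProduct.lmul' A c) • a = c • a
      rw [← sub_eq_zero, ← sub_smul]
      exact AdicFS4.smul_tprod_eq_zero (algebraMap_mk_eq A B c) a
  have key : ∀ y, ∃ (w : B ⊗[A] B) (hw : w ∈ 𝐈 ^ Fintype.card ι),
      φ y = Submodule.Quotient.mk ⟨w, hw⟩ ∧ phi A B (v y) = cls A B w hw := fun y => by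
    have hy : y ∈ Submodule.span (B ⊗[A] B) (Set.range (SymmetricPower.tprod (B ⊗[A] B) (ι := ι) (M := Ideal.Cotangent 𝐈))) :=
      SymmetricPower.span_tprod_eq_top (B ⊗[A] B) ι (Ideal.Cotangent 𝐈) ▸ Submodule.mem_top
    induction hy using Submodule.span_induction with
    | mem w hw =>
      obtain ⟨x, rfl⟩ := hw
      exact ⟨_, prod_rep_mem A B x, exists_common A B φ hφ x, (congrArg (phi A B) (hv x)).trans (phi_tprod A B x)⟩
    | zero => exact ⟨0, zero_mem _, by rw [map_zero]; rfl, by rw [map_zero, map_zero]; rfl⟩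
    | add a b _ _ ha hb =>
      obtain ⟨w, hw, h1, h2⟩ := ha
      obtain ⟨w', hw', h1', h2'⟩ := hb
      exact ⟨w + w', add_mem hw hw', by rw [map_add, h1, h1']; rfl, by rw [map_add, map_add, h2, h2']; rfl⟩
    | smul c a _ ha =>
      obtain ⟨w, hw, h1, h2⟩ := ha
      refine ⟨c * w, Ideal.mul_mem_left _ _ hw, by rw [map_smul, h1]; rfl, ?_⟩
      rw [map_smul, show c • v a = Algebra.TensorProduct.lmul' A c • v a from rfl, map_smul, h2]
      show cls A B (Algebra.TensorProduct.lmul' A c • w) (Submodule.smul_of_tower_mem _ _ hw) = _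
      refine cls_eq A B ?_
      rw [Algebra.smul_def, ← sub_mul, pow_succ']
      exact Ideal.mul_mem_mul (algebraMap_mk_eq A B c) hw
  rw [injective_iff_map_eq_zero]
  intro y hy
  obtain ⟨w, hw, h1, h2⟩ := key y
  have hv0 : v y = 0 := (phi_bijective_of_isDiffSmooth A B h ι).1 (by
    rw [h2, map_zero]
    exact (Submodule.Quotient.mk_eq_zero _).2 ((Submodule.Quotient.mk_eq_zero _).1 (h1.symm.trans hy)))
  rw [← huv y, hv0, map_zero]

theorem isDiffSmooth_of_symGr (hp : Module.Projective B (KaehlerDifferential A B))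
    (h : SymGrBijective (B ⊗[A] B) 𝐈) : IsDiffSmooth A B := by
  refine ⟨hp, fun ι _ => ⟨phi A B, phi_tprod_D A B, ?_, phi_surjective A B⟩⟩
  rw [injective_iff_map_eq_zero]
  intro y hy
  cases isEmpty_or_nonempty ι with
  | inl hι =>
    have hy' : y ∈ Submodule.span B (Set.range (SymmetricPower.tprod B (ι := ι) (M := KaehlerDifferential A B))) :=
      SymmetricPower.span_tprod_eq_top B ι (KaehlerDifferential A B) ▸ Submodule.mem_top
    rw [Set.range_unique, Submodule.mem_span_singleton] at hy'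
    obtain ⟨b, rfl⟩ := hy'
    rw [map_smul, phi_tprod] at hy
    rw [cls, ← Submodule.Quotient.mk_smul, Submodule.Quotient.mk_eq_zero] at hy
    rw [Submodule.mem_comap, Submodule.coe_subtype, Submodule.coe_smul, Submodule.restrictScalars_mem] at hy
    simp only [Fintype.prod_empty, Fintype.card_eq_zero, zero_add, pow_one, Algebra.smul_def, mul_one] at hy
    have hb : b = 0 := by simpa [Algebra.TensorProduct.algebraMap_apply] using RingHom.mem_ker.1 hy
    rw [hb, zero_smul]
  | inr hι =>
    obtain ⟨φ, hφ, hbij⟩ := h ι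
    letI := modSymB A B (ι := ι)
    letI := modSymR A B (ι := ι)
    obtain ⟨v, hv⟩ := exists_toB A B (ι := ι)
    obtain ⟨u, hu⟩ := exists_toR A B (ι := ι)
    have hvu : ∀ y, v (u y) = y := fun y => by
      have hy : y ∈ Submodule.span B (Set.range (SymmetricPower.tprod B (ι := ι) (M := KaehlerDifferential A B))) :=
        SymmetricPower.span_tprod_eq_top B ι (KaehlerDifferential A B) ▸ Submodule.mem_top
      induction hy using Submodule.span_induction with
      | mem w hw => obtain ⟨x, rfl⟩ := hw; exact (congrArg v (hu x)).trans (hv x)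
      | zero => rw [map_zero, map_zero]
      | add a b _ _ ha hb => rw [map_add, map_add, ha, hb]
      | smul c a _ ha =>
        rw [map_smul, show c • u a = algebraMap B (B ⊗[A] B) c • u a from rfl, map_smul, ha]
        show Algebra.TensorProduct.lmul' A (algebraMap B (B ⊗[A] B) c) • a = c • a
        simp [Algebra.TensorProduct.algebraMap_apply]
    have key : ∀ y, ∃ (w : B ⊗[A] B) (hw : w ∈ 𝐈 ^ Fintype.card ι),
        φ (u y) = Submodule.Quotient.mk ⟨w, hw⟩ ∧ phi A B y = cls A B w hw := fun y => by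
      have hy : y ∈ Submodule.span B (Set.range (SymmetricPower.tprod B (ι := ι) (M := KaehlerDifferential A B))) :=
        SymmetricPower.span_tprod_eq_top B ι (KaehlerDifferential A B) ▸ Submodule.mem_top
      induction hy using Submodule.span_induction with
      | mem w hw =>
        obtain ⟨x, rfl⟩ := hw
        exact ⟨_, prod_rep_mem A B x, (congrArg φ (hu x)).trans (exists_common A B φ hφ x), phi_tprod A B x⟩
      | zero => exact ⟨0, zero_mem _, by rw [map_zero, map_zero]; rfl, by rw [map_zero]; rfl⟩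
      | add a b _ _ ha hb =>
        obtain ⟨w, hw, h1, h2⟩ := ha
        obtain ⟨w', hw', h1', h2'⟩ := hb
        exact ⟨w + w', add_mem hw hw', by rw [map_add, map_add, h1, h1']; rfl, by rw [map_add, h2, h2']; rfl⟩
      | smul c a _ ha =>
        obtain ⟨w, hw, h1, h2⟩ := ha
        refine ⟨c • w, Submodule.smul_of_tower_mem _ c hw, ?_, by rw [map_smul, h2]; rfl⟩
        rw [map_smul, show c • u a = algebraMap B (B ⊗[A] B) c • u a from rfl, map_smul, h1,
          ← Submodule.Quotient.mk_smul]
        congr 1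
        exact Subtype.ext (algebraMap_smul (B ⊗[A] B) c w)
    obtain ⟨w, hw, h1, h2⟩ := key y
    have hu0 : u y = 0 := hbij.1 (by
      rw [h1, map_zero]
      exact (Submodule.Quotient.mk_eq_zero _).2 ((Submodule.Quotient.mk_eq_zero _).1 (h2.symm.trans hy)))
    rw [← hvu y, hu0, map_zero]

end Groth.Agent.PP38.DiffSmoothQReg
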