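import Groth.Agent.PP38.InfNbhd

/-!
# The symmetry of the neighbourhood of the diagonal
-/

set_option autoImplicit false

noncomputable section

universe u

open CategoryTheory CategoryTheory.Limits AlgebraicGeometry TopologicalSpace Opposite

namespace Groth.Agent.PP38

variable {X S : Scheme.{u}} (f : X ⟶ S)

theorem sw_preimage_coborder :
    (pullbackSymmetry f f).hom ⁻¹ᵁ (pullback.diagonal f).coborderRange = (pullback.diagonal f).coborderRange := by
  set sw := (pullbackSymmetry f f).hom with hsw
  have h : pullback.diagonal f ≫ sw = pullback.diagonal f := by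
    apply pullback.hom_ext <;> simp [hsw]
  ext x
  have hr : sw ⁻¹' Set.range (pullback.diagonal f) = Set.range (pullback.diagonal f) := by
    ext y
    constructor
    · rintro ⟨a, ha⟩
      refine ⟨a, sw.isOpenEmbedding.injective ?_⟩
      rw [← Scheme.Hom.comp_apply, h]
      exact ha
    · rintro ⟨a, rfl⟩
      refine ⟨a, ?_⟩
      rw [← Scheme.Hom.comp_apply, h]
  change sw x ∈ coborder (Set.range (pullback.diagonal f)) ↔ x ∈ coborder (Set.range (pullback.diagonal f))
  rw [coborder, Set.mem_compl_iff, Set.mem_compl_iff, Set.mem_sdiff, Set.mem_sdiff]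
  have hc : sw ⁻¹' closure (Set.range (pullback.diagonal f)) = closure (Set.range (pullback.diagonal f)) := by
    conv_rhs => rw [← hr]
    exact sw.homeomorph.preimage_closure _
  exact not_congr (and_congr (Set.ext_iff.1 hc x) (not_congr (Set.ext_iff.1 hr x)))

/-- The symmetry of the open where the diagonal is closed. -/
def swC : ((pullback.diagonal f).coborderRange : Scheme.{u}) ⟶ ((pullback.diagonal f).coborderRange : Scheme.{u}) :=
  IsOpenImmersion.lift (pullback.diagonal f).coborderRange.ι
    ((pullback.diagonal f).coborderRange.ι ≫ (pullbackSymmetry f f).hom) (by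
      rw [Scheme.Opens.range_ι, Scheme.Hom.comp_base, TopCat.coe_comp, Set.range_comp, Scheme.Opens.range_ι,
        Set.image_subset_iff]
      intro x hx
      show (pullbackSymmetry f f).hom x ∈ ((pullback.diagonal f).coborderRange : Set _)
      rw [← sw_preimage_coborder f] at hx
      exact hx)

theorem swC_ι : swC f ≫ (pullback.diagonal f).coborderRange.ι =
    (pullback.diagonal f).coborderRange.ι ≫ (pullbackSymmetry f f).hom := IsOpenImmersion.lift_fac _ _ _

theorem diagCl_swC : PrinPart.diagCl f ≫ swC f = 𝟙 X ≫ PrinPart.diagCl f := by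
  rw [← cancel_mono (pullback.diagonal f).coborderRange.ι, Category.assoc, swC_ι,
    Scheme.Hom.liftCoborder_ι_assoc, Category.assoc, Scheme.Hom.liftCoborder_ι, Category.id_comp]
  apply pullback.hom_ext <;> simp

/-- The symmetry of the neighbourhood. -/
def sigma (n : ℕ) : PrinPart.nbhd f n ⟶ PrinPart.nbhd f n :=
  infNbhdFun (PrinPart.diagCl f) (PrinPart.diagCl f) (swC f) (𝟙 X) (diagCl_swC f) n

theorem sigma_ι (n : ℕ) :
    sigma f n ≫ PrinPart.nbhdι f n = PrinPart.nbhdι f n ≫ (pullbackSymmetry f f).hom := by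
  rw [PrinPart.nbhdι, sigma, infNbhdFun_ι_assoc, swC_ι, Category.assoc]

theorem mono_nbhdι (n : ℕ) : Mono (PrinPart.nbhdι f n) := by
  unfold PrinPart.nbhdι PrinPart.infNbhdι; infer_instance

theorem sigma_sigma (n : ℕ) : sigma f n ≫ sigma f n = 𝟙 (PrinPart.nbhd f n) := by
  haveI := mono_nbhdι f n
  rw [← cancel_mono (PrinPart.nbhdι f n), Category.assoc, sigma_ι, ← Category.assoc, sigma_ι, Category.assoc,
    Category.id_comp]
  have : (pullbackSymmetry f f).hom ≫ (pullbackSymmetry f f).hom = 𝟙 _ := by
    apply pullback.hom_ext <;> simp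
  rw [this, Category.comp_id]

theorem sigma_pr1 (n : ℕ) : sigma f n ≫ PrinPart.pr1 f n = PrinPart.pr2 f n := by
  rw [PrinPart.pr1, ← Category.assoc, sigma_ι, Category.assoc, pullbackSymmetry_hom_comp_fst]; rfl

theorem sigma_pr2 (n : ℕ) : sigma f n ≫ PrinPart.pr2 f n = PrinPart.pr1 f n := by
  rw [PrinPart.pr2, ← Category.assoc, sigma_ι, Category.assoc, pullbackSymmetry_hom_comp_snd]; rfl

theorem toNbhd_sigma (n : ℕ) : PrinPart.toNbhd f n ≫ sigma f n = PrinPart.toNbhd f n := by
  haveI := mono_nbhdι f n
  rw [← cancel_mono (PrinPart.nbhdι f n), Category.assoc, sigma_ι, PrinPart.toNbhd_ι_assoc, PrinPart.toNbhd_ι]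
  apply pullback.hom_ext <;> simp

instance isIso_sigma (n : ℕ) : IsIso (sigma f n) := ⟨sigma f n, sigma_sigma f n, sigma_sigma f n⟩

end Groth.Agent.PP38
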