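import Groth.Agent.PP38.Struct
import Groth.Agent.PP38.Sym
import Groth.Agent.KFlatLib.Scheme.ClosedPush
import Groth.Agent.Synt29.OmegaStalk
import Groth.Agent.KFlatLib.Scheme.FlatDescent
import Groth.Agent.KFlatLib.Perfect.LocFree

/-!
# Exactness properties of `F ↦ P^n(F)`
-/

set_option autoImplicit false
set_option linter.style.haveILetI false
set_option backward.isDefEq.respectTransparency false
set_option backward.isDefEq.respectTransparency.types false

noncomputable section

universe w' w u

open CategoryTheory CategoryTheory.Limits AlgebraicGeometry TopologicalSpace Opposite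

namespace Groth.Agent.PP38

open Groth.Agent.KFlatLib

variable {Y Z : Scheme.{u}} (h : Y ⟶ Z)

/-- Stalks of a pushforward along a homeomorphism. -/
def stalkPushIso' (hh : Topology.IsInducing h) (y : Y) :
    Scheme.Modules.pushforward h ⋙ stalkAb (X := Z) (h.base y) ≅ stalkAb (X := Y) y :=
  haveI : ∀ M : Y.Modules, IsIso (TopCat.Presheaf.stalkPushforward Ab.{u} h.base M.presheaf y) := fun M =>
    TopCat.Presheaf.stalkPushforward.stalkPushforward_iso_of_isInducing Ab.{u} hh M.presheaf y
  NatIso.ofComponents (fun M => asIso (TopCat.Presheaf.stalkPushforward Ab.{u} h.base M.presheaf y))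
    fun {M N} φ => stalkPushforward_naturality' h.base ((toAb Y ⋙ TopCat.Sheaf.forget _ _).map φ) y

/-- Pushforward along a surjective inducing map preserves the colimits that stalks preserve. -/
theorem preservesColimitsOfShape_push' (hh : Topology.IsInducing h) (hs : Function.Surjective h)
    (K : Type w) [Category.{w'} K]
    [HasColimitsOfShape K Y.Modules] [HasColimitsOfShape K Z.Modules] [HasColimitsOfShape K Ab.{u}]
    [∀ y : Y, PreservesColimitsOfShape K (stalkAb (X := Y) y)]
    [∀ z : Z, PreservesColimitsOfShape K (stalkAb (X := Z) z)] :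
    PreservesColimitsOfShape K (Scheme.Modules.pushforward h) where
  preservesColimit {F} := by
    haveI : IsIso (colimit.post F (Scheme.Modules.pushforward h)) := isIso_of_stalk _ fun z => by
      let S := stalkAb (X := Z) z
      haveI : PreservesColimit F (Scheme.Modules.pushforward h ⋙ S) := by
        obtain ⟨y, rfl⟩ := hs z
        exact preservesColimit_of_natIso F (stalkPushIso' h hh y).symm
      haveI : IsIso (colimit.post (F ⋙ Scheme.Modules.pushforward h) S ≫
          S.map (colimit.post F (Scheme.Modules.pushforward h))) := by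
        rw [colimit.post_post F (Scheme.Modules.pushforward h) S]
        exact (inferInstance : IsIso (colimit.post F (Scheme.Modules.pushforward h ⋙ S)))
      have h' : IsIso (S.map (colimit.post F (Scheme.Modules.pushforward h))) :=
        IsIso.of_isIso_comp_left (colimit.post (F ⋙ Scheme.Modules.pushforward h) S) _
      exact @isIso_of_reflects_iso _ _ _ _ _ _ _
        (forget₂ (ModuleCat (Z.presheaf.stalk z)) AddCommGrpCat) h' _
    exact preservesColimit_of_isIso_post _ F

variable {X S : Scheme.{u}} (f : X ⟶ S) (n : ℕ)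

theorem preservesColimits_PMod : PreservesColimitsOfSize.{u, u}
    (Scheme.Modules.pullback (PrinPart.pr2 f n) ⋙ Scheme.Modules.pushforward (PrinPart.pr1 f n)) where
  preservesColimitsOfShape {K _} := by
    haveI := (Scheme.Modules.pullbackPushforwardAdjunction (PrinPart.pr2 f n)).leftAdjoint_preservesColimits
    haveI := preservesColimitsOfShape_push' (PrinPart.pr1 f n) (isInducing_pr1 f n)
      (pr1Homeo f n).surjective K
    exact comp_preservesColimitsOfShape _ _

/-- The stalks of the pullback of the structure sheaf. -/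
theorem nonempty_stalk_pullback_unit {Y Z : Scheme.{u}} (h : Y ⟶ Z) (y : Y) :
    Nonempty (((DerSch.stalkFunctor Y y).obj ((Scheme.Modules.pullback h).obj (Coh.structureModule Z)) :
      Type u) ≃ₗ[Y.presheaf.stalk y] Y.presheaf.stalk y) := by
  let e : (Scheme.Modules.pullback h).obj (Coh.structureModule Z) ⟶ Coh.structureModule Y :=
    SheafOfModules.pullbackObjUnitToUnit h.toRingCatSheafHom
  haveI : IsIso e := inferInstanceAs (IsIso (SheafOfModules.pullbackObjUnitToUnit h.toRingCatSheafHom))
  exact ⟨((DerSch.stalkFunctor Y y).mapIso (asIso e)).toLinearEquiv.trans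
    (((stalkToPIso y).app _).toLinearEquiv.trans (stalkUnitEquiv y).symm)⟩

theorem flat_pr1 (hP : FlatMod.IsFlat (PrinPart.P f n)) : Flat (PrinPart.pr1 f n) := by
  refine (Flat.iff_flat_stalkMap (PrinPart.pr1 f n)).2 fun z => ?_
  have hz := hP (PrinPart.pr1 f n z)
  let φ := ((PrinPart.pr1 f n).stalkMap z).hom
  letI : Algebra (X.presheaf.stalk (PrinPart.pr1 f n z)) ((PrinPart.nbhd f n).presheaf.stalk z) := φ.toAlgebra
  let M := (Scheme.Modules.pullback (PrinPart.pr2 f n)).obj (Coh.structureModule X)
  obtain ⟨E⟩ := nonempty_stalk_pullback_unit (PrinPart.pr2 f n) z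
  let ψ : (PrinPart.P f n).presheaf.stalk (PrinPart.pr1 f n z) →+ Synt29.OmegaStalk.St M z :=
    (((stalkPushIso' (PrinPart.pr1 f n) (isInducing_pr1 f n) z).app M).hom).hom
  have hψb : Function.Bijective ψ :=
    ConcreteCategory.bijective_of_isIso ((stalkPushIso' (PrinPart.pr1 f n) (isInducing_pr1 f n) z).app M).hom
  have hgerm : ∀ (W : X.Opens) (hx : PrinPart.pr1 f n z ∈ W) (s : Γ(PrinPart.P f n, W)),
      ψ (Synt29.OmegaStalk.gm (PrinPart.P f n) hx s) =
        Synt29.OmegaStalk.gm M (U := PrinPart.pr1 f n ⁻¹ᵁ W) hx s := fun W hx s =>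
    congr($(TopCat.Presheaf.stalkPushforward_germ Ab.{u} (PrinPart.pr1 f n).base M.presheaf W z hx) s)
  have hlin : ∀ (a : X.presheaf.stalk (PrinPart.pr1 f n z))
      (m : (PrinPart.P f n).presheaf.stalk (PrinPart.pr1 f n z)), ψ (a • m) = φ a • ψ m := by
    intro a m
    obtain ⟨W₁, h₁, a, rfl⟩ := X.presheaf.exists_germ_eq a
    obtain ⟨W₂, h₂, s, rfl⟩ := Synt29.OmegaStalk.gm_surjective (PrinPart.P f n) m
    let W := W₁ ⊓ W₂
    have hW : PrinPart.pr1 f n z ∈ W := ⟨h₁, h₂⟩
    rw [← Synt29.OmegaStalk.gm_res (PrinPart.P f n) (homOfLE (inf_le_right : W ≤ W₂)) hW s,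
      ← X.presheaf.germ_res_apply (homOfLE (inf_le_left : W ≤ W₁)) _ hW a]
    refine (congrArg ψ (Synt29.OmegaStalk.gm_smul (PrinPart.P f n) hW _ _).symm).trans ?_
    rw [hgerm, hgerm]
    refine (Synt29.OmegaStalk.gm_smul M (U := PrinPart.pr1 f n ⁻¹ᵁ W) hW _ _).trans ?_
    exact congrArg (· • _) (Scheme.Hom.germ_stalkMap_apply (PrinPart.pr1 f n) W z hW _).symm
  let e : (PrinPart.P f n).presheaf.stalk (PrinPart.pr1 f n z) ≃ₗ[X.presheaf.stalk (PrinPart.pr1 f n z)]
      (PrinPart.nbhd f n).presheaf.stalk z :=
    LinearEquiv.ofBijective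
      { toFun := fun m => E (ψ m)
        map_add' := fun a b => by rw [map_add, map_add]
        map_smul' := fun a m => by
          rw [hlin, map_smul]; rfl }
      (E.bijective.comp hψb)
  haveI : Module.Flat (X.presheaf.stalk (PrinPart.pr1 f n z))
      ((PrinPart.P f n).presheaf.stalk (PrinPart.pr1 f n z)) := hz
  exact RingHom.flat_algebraMap_iff.2 (Module.Flat.of_linearEquiv e.symm)

theorem preservesFiniteLimits_PMod (hP : FlatMod.IsFlat (PrinPart.P f n)) : PreservesFiniteLimits
    (Scheme.Modules.pullback (PrinPart.pr2 f n) ⋙ Scheme.Modules.pushforward (PrinPart.pr1 f n)) := by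
  haveI := flat_pr1 f n hP
  haveI : Flat (PrinPart.pr2 f n) := by rw [← sigma_pr1]; infer_instance
  haveI : (Scheme.Modules.pullback (PrinPart.pr2 f n)).Additive :=
    Adjunction.left_adjoint_additive (Scheme.Modules.pullbackPushforwardAdjunction (PrinPart.pr2 f n))
  haveI := KFlatLib.preservesHomology_pullback (PrinPart.pr2 f n)
  haveI := Functor.preservesFiniteLimits_of_preservesHomology (Scheme.Modules.pullback (PrinPart.pr2 f n))
  haveI := (Scheme.Modules.pullbackPushforwardAdjunction (PrinPart.pr1 f n)).rightAdjoint_preservesLimits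
  exact comp_preservesFiniteLimits _ _

end Groth.Agent.PP38
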