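import Groth.Agent.S2469
import Groth.Agent.S4523
import Groth.Agent.S2141
import Mathlib

/-!
# Differentials of residue fields and parameters at a prime
-/

set_option autoImplicit false
set_option linter.style.haveILetI false

universe u

open IsLocalRing KaehlerDifferential TensorProduct

namespace Groth.Agent.PP38.FieldRank

variable (k K : Type u) [Field k] [Field K] [Algebra k K] [Algebra.EssFiniteType k K]

theorem trdeg_le_finrank : Cardinal.toNat (Algebra.trdeg k K) ≤ Module.finrank K Ω[K⁄k] := by
  obtain ⟨-, -, h⟩ := S2469.result (K := k) (L := K)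
  omega

/-- A finitely generated extension is separable exactly when `dim Ω` is its transcendence degree. -/
theorem isGeometricallyReduced_iff :
    Algebra.IsGeometricallyReduced k K ↔ Module.finrank K Ω[K⁄k] ≤ Cardinal.toNat (Algebra.trdeg k K) := by
  obtain ⟨-, h2, h⟩ := S2469.result (K := k) (L := K)
  haveI := h2
  rw [(S4523.result (k := k) (K := K)).1, ← Submodule.finrank_eq_zero]
  omega

variable {k} {A : Type u} [CommRing A] [Algebra k A] [Algebra.FiniteType k A] (p : Ideal A) [p.IsPrime]

omit [Field K] [Algebra k K] [Algebra.EssFiniteType k K] in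
theorem essFiniteType_residueField : Algebra.EssFiniteType k p.ResidueField :=
  Algebra.EssFiniteType.comp k A p.ResidueField

omit [Field K] [Algebra k K] [Algebra.EssFiniteType k K] in
/-- The transcendence degree of the residue field is the local dimension minus the height. -/
theorem trdeg_residueField (n r : ℕ)
    (hn : FlatMor.localDim (PrimeSpectrum A) ⟨p, inferInstance⟩ = (n : WithBot ℕ∞))
    (hr : ringKrullDim (Localization.AtPrime p) = (r : WithBot ℕ∞)) :
    r + Cardinal.toNat (Algebra.trdeg k p.ResidueField) = n := by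
  haveI := essFiniteType_residueField (k := k) p
  obtain ⟨t, ht⟩ : ∃ t : ℕ, Algebra.trdeg k p.ResidueField = t := by
    let B := A ⧸ p
    haveI : Algebra.FiniteType k B :=
      Algebra.FiniteType.of_surjective (Ideal.Quotient.mkₐ k p) Ideal.Quotient.mk_surjective
    obtain ⟨m, -, hm2⟩ := VarDim.exists_dim_eq_trdeg (k := k) B
    haveI : FaithfulSMul k B := (faithfulSMul_iff_algebraMap_injective _ _).2 (algebraMap k B).injective
    exact ⟨m, by rw [← trdeg_add_eq k B, hm2, trdeg_eq_zero (R := B), add_zero]⟩
  have h := S2141.result (k := k) p t ht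
  rw [hn, hr, ← Nat.cast_add] at h
  rw [ht, Cardinal.toNat_natCast]
  exact_mod_cast h.symm

omit [Field K] [Algebra k K] [Algebra.EssFiniteType k K] in
/-- Parameters generating the maximal ideal together with elements whose residues have spanning
differentials give spanning differentials of the local ring. -/
theorem span_D_eq_top {ι : Type*} (g : ι → Localization.AtPrime p) (s : Set ι)
    (hs : Ideal.span (g '' s) = maximalIdeal (Localization.AtPrime p))
    (ht : Submodule.span p.ResidueField
      ((fun i => D k p.ResidueField (residue (Localization.AtPrime p) (g i))) '' sᶜ) = ⊤) :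
    Submodule.span (Localization.AtPrime p)
      (Set.range fun i => D k (Localization.AtPrime p) (g i)) = ⊤ := by
  let L := Localization.AtPrime p
  let K₀ := p.ResidueField
  haveI : Module.Finite L Ω[L⁄k] := by
    haveI : Algebra.EssFiniteType k L := Algebra.EssFiniteType.comp k A L
    infer_instance
  rw [← IsLocalRing.map_tensorProduct_mk_eq_top, Submodule.map_span, ← Set.range_comp,
    ← Submodule.restrictScalars_span L K₀ IsLocalRing.residue_surjective, Submodule.restrictScalars_eq_top_iff]
  let W := Submodule.span K₀ (Set.range fun i => (1 : K₀) ⊗ₜ[L] D k L (g i))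
  show W = ⊤
  have hsurj : Function.Surjective (algebraMap L K₀) := IsLocalRing.residue_surjective
  have hker : ∀ x ∈ maximalIdeal L, algebraMap L K₀ x = 0 := fun x hx => (residue_eq_zero_iff x).2 hx
  have hzero : ∀ x ∈ maximalIdeal L, (1 : K₀) ⊗ₜ[L] D k L x ∈ W := by
    intro x hx
    rw [← hs] at hx
    induction hx using Submodule.span_induction with
    | mem x hx =>
      obtain ⟨i, -, rfl⟩ := hx
      exact Submodule.subset_span ⟨i, rfl⟩
    | zero => rw [map_zero, TensorProduct.tmul_zero]; exact zero_mem _
    | add x y _ _ hx hy => rw [map_add, TensorProduct.tmul_add]; exact add_mem hx hy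
    | smul a x hxm hx =>
      have hxm' : x ∈ maximalIdeal L := hs ▸ hxm
      rw [smul_eq_mul, Derivation.leibniz, TensorProduct.tmul_add, TensorProduct.tmul_smul,
        TensorProduct.tmul_smul, ← IsScalarTower.algebraMap_smul K₀ a, ← IsScalarTower.algebraMap_smul K₀ x,
        hker x hxm', zero_smul, add_zero]
      exact Submodule.smul_mem _ _ hx
  rw [eq_top_iff]
  rintro z -
  have hz : mapBaseChange k L K₀ z ∈ W.map (mapBaseChange k L K₀) := by
    have htop : mapBaseChange k L K₀ z ∈ Submodule.span K₀
      ((fun i => D k K₀ (residue L (g i))) '' sᶜ) := by rw [ht]; trivial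
    refine Submodule.span_le.2 ?_ htop
    rintro _ ⟨i, -, rfl⟩
    refine ⟨(1 : K₀) ⊗ₜ[L] D k L (g i), Submodule.subset_span ⟨i, rfl⟩, ?_⟩
    rw [mapBaseChange_tmul, map_D, one_smul]
    rfl
  obtain ⟨w, hw, hwz⟩ := hz
  have hd : z - w ∈ LinearMap.range (kerCotangentToTensor k L K₀) := by
    rw [range_kerCotangentToTensor k L K₀ hsurj, Submodule.restrictScalars_mem, LinearMap.mem_ker, map_sub,
      hwz, sub_self]
  obtain ⟨y, hy⟩ := hd
  obtain ⟨y, rfl⟩ := Ideal.toCotangent_surjective _ y
  rw [kerCotangentToTensor_toCotangent] at hy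
  rw [← sub_add_cancel z w, ← hy]
  exact add_mem (hzero _ ((residue_eq_zero_iff _).1 y.2)) hw

open MvPolynomial in
/-- Killing some variables changes a polynomial by an element of the ideal they generate. -/
theorem sub_mem_span {R : Type u} [CommRing R] {σ : Type*} (s : Set σ) [DecidablePred (· ∈ s)]
    (f : MvPolynomial σ R) :
    f - aeval (fun i => if i ∈ s then (0 : MvPolynomial σ R) else X i) f ∈ Ideal.span (X '' s) := by
  induction f using MvPolynomial.induction_on with
  | C a => simp
  | add p q hp hq =>
    rw [map_add, add_sub_add_comm]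
    exact add_mem hp hq
  | mul_X p i hp =>
    rw [map_mul, aeval_X]
    by_cases hi : i ∈ s
    · rw [if_pos hi, mul_zero, sub_zero]
      exact Ideal.mul_mem_left _ _ (Ideal.subset_span ⟨i, hi, rfl⟩)
    · rw [if_neg hi, ← sub_mul]
      exact Ideal.mul_mem_right _ _ hp

omit [Field K] [Algebra k K] [Algebra.EssFiniteType k K] in
/-- An unramified prime over a prime of a polynomial ring has the images of the variables as generators,
once those generate the prime below. -/
theorem span_image_eq_maximalIdeal {n : ℕ} [Algebra (MvPolynomial (Fin n) k) A]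
    [IsScalarTower k (MvPolynomial (Fin n) k) A] [Algebra.IsUnramifiedAt (MvPolynomial (Fin n) k) p]
    (s : Set (Fin n))
    (hQ : p.under (MvPolynomial (Fin n) k) = Ideal.span (MvPolynomial.X '' s)) :
    Ideal.span ((fun i : Fin n =>
        algebraMap A (Localization.AtPrime p) (algebraMap (MvPolynomial (Fin n) k) A (MvPolynomial.X i))) '' s) =
      maximalIdeal (Localization.AtPrime p) := by
  haveI : Algebra.EssFiniteType (MvPolynomial (Fin n) k) A := by
    haveI : Algebra.FiniteType (MvPolynomial (Fin n) k) A :=
      Algebra.FiniteType.of_restrictScalars_finiteType k _ _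
    infer_instance
  let Q := p.under (MvPolynomial (Fin n) k)
  let _ := Localization.AtPrime.algebraOfLiesOver Q p
  have h := ((Algebra.isUnramifiedAt_iff_map_eq (MvPolynomial (Fin n) k) Q p).1 inferInstance).2
  rw [show Q = Ideal.span (MvPolynomial.X '' s) from hQ, Ideal.map_span, ← Set.image_comp] at h
  rw [← h]
  exact congrArg Ideal.span (Set.image_congr' fun i =>
    (IsScalarTower.algebraMap_apply (MvPolynomial (Fin n) k) A (Localization.AtPrime p) _).symm)

open MvPolynomial in
/-- The first `r` variables of a polynomial ring over a field generate a prime of height at least `r`. -/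
theorem isPrime_span_X_lt {F : Type u} [Field F] (n : ℕ) : ∀ r : ℕ, r ≤ n →
    ∃ _ : (Ideal.span (MvPolynomial.X '' {i : Fin n | (i : ℕ) < r}) : Ideal (MvPolynomial (Fin n) F)).IsPrime,
      (r : ℕ∞) ≤ (Ideal.span (MvPolynomial.X '' {i : Fin n | (i : ℕ) < r}) : Ideal (MvPolynomial (Fin n) F)).height := by
  classical
  have hker : ∀ s : Set (Fin n), (Ideal.span (MvPolynomial.X '' s) : Ideal (MvPolynomial (Fin n) F)) =
      RingHom.ker (aeval fun i => if i ∈ s then (0 : MvPolynomial (Fin n) F) else X i) := fun s => by
    refine le_antisymm (Ideal.span_le.2 ?_) fun f hf => ?_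
    · rintro _ ⟨i, hi, rfl⟩
      rw [SetLike.mem_coe, RingHom.mem_ker, aeval_X, if_pos hi]
    · have := sub_mem_span s f
      rwa [RingHom.mem_ker.1 hf, sub_zero] at this
  intro r
  induction r with
  | zero => exact fun _ => ⟨by rw [hker]; exact RingHom.ker_isPrime _, bot_le⟩
  | succ r ih =>
    intro hr
    obtain ⟨hp, hh⟩ := ih (by omega)
    haveI hp' : (Ideal.span (MvPolynomial.X '' {i : Fin n | (i : ℕ) < r + 1}) : Ideal (MvPolynomial (Fin n) F)).IsPrime := by
      rw [hker]; exact RingHom.ker_isPrime _
    refine ⟨hp', ?_⟩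
    have hlt : (Ideal.span (MvPolynomial.X '' {i : Fin n | (i : ℕ) < r}) : Ideal (MvPolynomial (Fin n) F)) <
        Ideal.span (MvPolynomial.X '' {i : Fin n | (i : ℕ) < r + 1}) := by
      refine lt_of_le_of_ne (Ideal.span_mono (Set.image_mono fun i (hi : (i : ℕ) < r) => Nat.lt_succ_of_lt hi)) ?_
      intro he
      have hX : (X (⟨r, by omega⟩ : Fin n) : MvPolynomial (Fin n) F) ∈
          Ideal.span (MvPolynomial.X '' {i : Fin n | (i : ℕ) < r + 1}) :=
        Ideal.subset_span ⟨⟨r, by omega⟩, Nat.lt_succ_self r, rfl⟩
      rw [← he, hker, RingHom.mem_ker, aeval_X, if_neg (show (⟨r, by omega⟩ : Fin n) ∉ {i : Fin n | (i : ℕ) < r} from lt_irrefl r)] at hX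
      exact X_ne_zero _ hX
    push_cast
    exact le_trans (add_le_add_left hh 1) (Ideal.height_add_one_le_of_lt_of_isPrime hlt)

end Groth.Agent.PP38.FieldRank
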