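import Groth.Agent.EGA41Lib.FieldFS
import Groth.Agent.GrpSchLib.SmoothReduced
import Mathlib

/-! Smoothness over a field at minimal primes and geometric reducedness of the local rings. -/

set_option autoImplicit false
set_option linter.style.haveILetI false

universe u

namespace Groth.Agent.PP38

variable (k A : Type u) [Field k] [CommRing A] [Algebra k A]

/-- A reduced local ring at a minimal prime is a field. -/
theorem isField_localization_minimal (p : Ideal A) [p.IsPrime] (hp : p ∈ minimalPrimes A)
    [IsReduced (Localization.AtPrime p)] : IsField (Localization.AtPrime p) := by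
  rw [IsLocalRing.isField_iff_maximalIdeal_eq, eq_bot_iff, show (⊥ : Ideal (Localization.AtPrime p)) = nilradical _ from (nilradical_eq_zero _).symm,
    nilradical_eq_sInf]
  refine le_sInf fun q (hq : q.IsPrime) => ?_
  obtain ⟨hqp, hdisj⟩ := (IsLocalization.isPrime_iff_isPrime_disjoint p.primeCompl (Localization.AtPrime p) q).1 hq
  have hle : q.comap (algebraMap A (Localization.AtPrime p)) ≤ p := fun x hx => by
    by_contra hxp
    exact Set.disjoint_left.1 hdisj hxp hx
  have heq : q.comap (algebraMap A (Localization.AtPrime p)) = p :=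
    le_antisymm hle (hp.2 ⟨hqp, bot_le⟩ hle)
  rw [← Localization.AtPrime.map_eq_maximalIdeal]
  exact Ideal.map_le_iff_le_comap.2 heq.ge

theorem isReduced_localization_of_isSmoothAt [Algebra.FiniteType k A] (p : Ideal A) [p.IsPrime]
    [Algebra.IsSmoothAt k p] : IsReduced (Localization.AtPrime p) := by
  haveI := (Algebra.FinitePresentation.of_finiteType (R := k)).1 (inferInstance : Algebra.FiniteType k A)
  obtain ⟨f, hf, hstd⟩ := Algebra.IsSmoothAt.exists_notMem_isStandardSmooth k p
  haveI := GrpSchLib.isReduced_of_isStandardSmooth k (Localization.Away f)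
  refine ⟨fun x ⟨n, hn⟩ => ?_⟩
  obtain ⟨a, ⟨s, hs⟩, rfl⟩ := IsLocalization.exists_mk'_eq p.primeCompl x
  rw [← IsLocalization.mk'_pow, IsLocalization.mk'_eq_zero_iff] at hn
  obtain ⟨⟨t, ht⟩, hta⟩ := hn
  have h0 : algebraMap A (Localization.Away f) (t * a) = 0 := by
    refine (isNilpotent_iff_eq_zero (R := Localization.Away f)).1 ⟨n + 1, ?_⟩
    rw [← map_pow, show (t * a) ^ (n + 1) = t ^ n * a * (t * a ^ n) by ring, hta, mul_zero, map_zero]
  obtain ⟨⟨_, m, rfl⟩, hm⟩ := (IsLocalization.map_eq_zero_iff (Submonoid.powers f) _ _).1 h0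
  rw [IsLocalization.mk'_eq_zero_iff]
  exact ⟨⟨f ^ m * t, (inferInstance : p.IsPrime).mul_notMem (fun h => hf (Ideal.IsPrime.mem_of_pow_mem inferInstance m h)) ht⟩,
    by rw [← hm]; ring⟩

/-- At a minimal prime, smoothness over a field is geometric reducedness of the local ring. -/
theorem isSmoothAt_iff_geomReduced_of_minimal [Algebra.FiniteType k A] (p : Ideal A) [p.IsPrime]
    (hp : p ∈ minimalPrimes A) :
    Algebra.IsSmoothAt k p ↔ Algebra.IsGeometricallyReduced k (Localization.AtPrime p) := by
  constructor
  · intro h
    haveI := isReduced_localization_of_isSmoothAt k A p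
    letI := (isField_localization_minimal A p hp).toField
    haveI : Algebra.FormallySmooth k (Localization.AtPrime p) := h
    exact EGA41Lib.FieldFS.isGeometricallyReduced_of_formallySmooth k (Localization.AtPrime p)
  · intro h
    haveI : IsReduced (Localization.AtPrime p) := Algebra.isReduced_of_isGeometricallyReduced (k := k)
    letI := (isField_localization_minimal A p hp).toField
    exact EGA41Lib.FieldFS.formallySmooth_of_isGeometricallyReduced k (Localization.AtPrime p)

end Groth.Agent.PP38
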