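import Mathlib

/-! The ideal of a finitely presented closed immersion is locally finitely generated. -/

set_option autoImplicit false

universe u

open CategoryTheory AlgebraicGeometry

namespace Groth.Agent.PP38

variable {X Y : Scheme.{u}}

theorem ker_ideal_fg (f : Y ⟶ X) [IsClosedImmersion f] [LocallyOfFinitePresentation f]
    (U : X.affineOpens) : (f.ker.ideal U).FG := by
  rw [Scheme.Hom.ker_apply]
  let _ := (f.app U.1).hom.toAlgebra
  have h := f.finitePresentation_appLE U.2 (U.2.preimage f) le_rfl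
  rw [show f.appLE U.1 (f ⁻¹ᵁ U.1) le_rfl = f.app U.1 from (f.app_eq_appLE).symm] at h
  have : Algebra.FinitePresentation Γ(X, U.1) Γ(Y, f ⁻¹ᵁ U.1) := h
  exact Algebra.FinitePresentation.ker_fG_of_surjective (Algebra.ofId Γ(X, U.1) Γ(Y, f ⁻¹ᵁ U.1))
    (f.app_surjective U.1 U.2)

end Groth.Agent.PP38
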