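import Groth.Prelude.Def_OmegaPn
import Groth.Agent.OmegaLib.IdealMod
import Groth.Agent.QCoh.FT
import Groth.Agent.QCoh.Tilde
import Groth.Agent.QCoh.VanIdeal
import Groth.Agent.QCoh.Qcqs
import Groth.Agent.QCoh.PullbackBC
import Groth.Agent.PP38.KerFG
import Mathlib

/-! Coherence of the graded pieces of a finitely presented closed immersion. -/

set_option autoImplicit false

universe u

open CategoryTheory CategoryTheory.Limits AlgebraicGeometry TopologicalSpace Opposite

namespace Groth.Agent.PP38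

variable {X Y : Scheme.{u}}

theorem isQCoh_idealMod (K : X.IdealSheafData) : Coh.IsQCoh (ClSub.idealMod K) :=
  QCoh.isQCoh_kernel QCoh.isQCoh_structureModule
    (QCoh.isQCoh_pushforward K.subschemeι QCoh.isQCoh_structureModule) (ClSub.toSubscheme K)

theorem isCoh_idealMod (K : X.IdealSheafData) (h : ∀ U : X.affineOpens, (K.ideal U).FG) :
    Coh.IsCoh (ClSub.idealMod K) := by
  refine ⟨isQCoh_idealMod K, (QCoh.isFT_iff (isQCoh_idealMod K)).2 fun U => ?_⟩
  let l : Γ(ClSub.idealMod K, U.1) →ₗ[Γ(X, U.1)] K.ideal U :=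
    { toFun := fun k => ⟨OmegaSh.idealSect K U.1 k, OmegaLib.idealSect_mem K U k⟩
      map_add' := fun a b => Subtype.ext (map_add _ a b)
      map_smul' := fun r a => Subtype.ext (OmegaLib.idealSect_smul K U.1 r a) }
  have hl : Function.Bijective l := by
    refine ⟨fun a b hab => OmegaLib.idealSect_injective K U.1 (congrArg Subtype.val hab), fun x => ?_⟩
    obtain ⟨k, hk⟩ := OmegaLib.exists_of_mem K U x.1 x.2
    exact ⟨k, Subtype.ext hk⟩
  have : Module.Finite Γ(X, U.1) (K.ideal U) := Module.Finite.iff_fg.2 (h U)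
  exact Module.Finite.equiv (LinearEquiv.ofBijective l hl).symm

theorem isCoh_pullback {X X' : Scheme.{u}} (f : X' ⟶ X) {M : X.Modules} (hM : Coh.IsCoh M) : Coh.IsCoh ((Scheme.Modules.pullback f).obj M) := by
  let N := (Scheme.Modules.pullback f).obj M
  refine ⟨QCoh.isQCoh_pullback f hM.1, ?_⟩
  choose V hV hxV hle using fun x : X' => exists_isAffineOpen_mem_and_subset (x := f x) (U := ⊤) trivial
  choose W hW hxW hWle using fun x : X' => exists_isAffineOpen_mem_and_subset (x := x) (U := f ⁻¹ᵁ V x) (hxV x)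
  refine QCoh.isFT_of_finite (QCoh.isQCoh_pullback f hM.1) W
    (top_unique fun x _ => Opens.mem_iSup.2 ⟨x, hxW x⟩) hW fun x => ?_
  have hWV : W x ≤ f ⁻¹ᵁ V x := hWle x
  letI : Algebra Γ(X, V x) Γ(X', W x) := (f.appLE (V x) (W x) hWV).hom.toAlgebra
  letI : Module Γ(X, V x) Γ(N, W x) := Module.compHom _ (f.appLE (V x) (W x) hWV).hom
  haveI : IsScalarTower Γ(X, V x) Γ(X', W x) Γ(N, W x) := .of_algebraMap_smul fun _ _ => rfl
  haveI := QCoh.finite_of_isFT hM.1 hM.2 (hV x)
  let l : Γ(M, V x) →ₗ[Γ(X, V x)] Γ(N, W x) :=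
    { toFun := QCoh.pullSec f M hWV
      map_add' := QCoh.pullSec_add f M hWV
      map_smul' := fun r m => QCoh.pullSec_smul f M hWV r m }
  exact Module.Finite.equiv (QCoh.isBaseChange_pullback (hV x) f (hW x) hM.1 hWV (fun _ => rfl) l fun _ => rfl).equiv

theorem isCoh_grMod (f : Y ⟶ X) [IsClosedImmersion f] [LocallyOfFinitePresentation f] (n : ℕ) :
    Coh.IsCoh (PrinPart.grMod f n) := by
  refine isCoh_pullback f (isCoh_idealMod _ fun U => ?_)
  rw [Scheme.IdealSheafData.ideal_pow]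
  exact (ker_ideal_fg f U).pow

end Groth.Agent.PP38
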