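import Groth.Agent.PP38.GrStalk
import Groth.Agent.Synt29.ConormalBC

/-! The map of graded pieces of a square of closed immersions. -/

set_option autoImplicit false
set_option linter.style.haveILetI false

universe u

open CategoryTheory CategoryTheory.Limits AlgebraicGeometry TopologicalSpace Opposite
open scoped TensorProduct

namespace Groth.Agent.PP38.GrStalk

open Groth.Agent.Synt29.OmegaStalk Groth.Agent.KFlatLib Groth.Agent.Synt29

variable {Y X Y' X' : Scheme.{u}} (i : Y ⟶ X) (i' : Y' ⟶ X') (g : X ⟶ X') (gZ : Y ⟶ Y')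
  [IsClosedImmersion i] [IsClosedImmersion i'] (n : ℕ) (x : Y)

/-- the class of a germ of the power of the ideal, pulled back -/
noncomputable def el (m : St (ClSub.idealMod (i'.ker ^ n)) (i' (gZ x))) :
    St ((Scheme.Modules.pullback gZ).obj (PrinPart.grMod i' n)) x :=
  ((stalkPullbackIso gZ x).app (PrinPart.grMod i' n)).inv
    (((ModuleCat.extendRestrictScalarsAdj (gZ.stalkMap x).hom).unit.app _).hom (cls i' n (gZ x) m))

omit [IsClosedImmersion i] [IsClosedImmersion i'] in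
lemma el_add (m m' : St (ClSub.idealMod (i'.ker ^ n)) (i' (gZ x))) :
    el i' gZ n x (m + m') = el i' gZ n x m + el i' gZ n x m' := by
  let Q := ((stalkPullbackIso gZ x).app (PrinPart.grMod i' n)).inv
  let u := ((ModuleCat.extendRestrictScalarsAdj (gZ.stalkMap x).hom).unit.app
    (St (PrinPart.grMod i' n) (gZ x))).hom
  exact (congrArg (fun t => Q (u t)) (cls_add i' n (gZ x) m m')).trans
    ((congrArg Q (map_add u _ _)).trans (map_add Q.hom _ _))

omit [IsClosedImmersion i] [IsClosedImmersion i'] in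
lemma el_smul (r : X'.presheaf.stalk (i' (gZ x))) (m : St (ClSub.idealMod (i'.ker ^ n)) (i' (gZ x))) :
    el i' gZ n x (r • m) = gZ.stalkMap x (i'.stalkMap (gZ x) r) • el i' gZ n x m := by
  let Q := ((stalkPullbackIso gZ x).app (PrinPart.grMod i' n)).inv
  let u := ((ModuleCat.extendRestrictScalarsAdj (gZ.stalkMap x).hom).unit.app
    (St (PrinPart.grMod i' n) (gZ x))).hom
  exact (congrArg (fun t => Q (u t)) (cls_smul i' n (gZ x) r m)).trans
    ((congrArg Q (map_smul u _ _)).trans (map_smul Q.hom _ _))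

omit [IsClosedImmersion i] in
lemma el_eq_zero {m : St (ClSub.idealMod (i'.ker ^ n)) (i' (gZ x))}
    (h : fn _ _ m ∈ kx i' (gZ x) ^ (n + 1)) : el i' gZ n x m = 0 := by
  let Q := ((stalkPullbackIso gZ x).app (PrinPart.grMod i' n)).inv
  let u := ((ModuleCat.extendRestrictScalarsAdj (gZ.stalkMap x).hom).unit.app
    (St (PrinPart.grMod i' n) (gZ x))).hom
  exact (congrArg (fun t => Q (u t)) ((cls_eq_zero_iff i' n (gZ x) m).2 h)).trans
    ((congrArg Q (map_zero u)).trans (map_zero Q.hom))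

omit [IsClosedImmersion i] in
lemma exists_el (z : St ((Scheme.Modules.pullback gZ).obj (PrinPart.grMod i' n)) x) :
    ∃ (k : ℕ) (b : Fin k → Y.presheaf.stalk x) (m : Fin k → St (ClSub.idealMod (i'.ker ^ n)) (i' (gZ x))),
      z = ∑ j, b j • el i' gZ n x (m j) := by
  let Q := (stalkPullbackIso gZ x).app (PrinPart.grMod i' n)
  obtain ⟨y, rfl⟩ := (ConcreteCategory.bijective_of_isIso Q.inv).2 z
  let _ := (gZ.stalkMap x).hom.toAlgebra
  change (Y.presheaf.stalk x) ⊗[Y'.presheaf.stalk (gZ x)] (St (PrinPart.grMod i' n) (gZ x)) at y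
  induction y using TensorProduct.induction_on with
  | zero => exact ⟨0, 0, 0, (map_zero Q.inv.hom).trans (by simp)⟩
  | tmul b t =>
      obtain ⟨m, rfl⟩ := cls_surjective i' n (gZ x) t
      refine ⟨1, fun _ => b, fun _ => m, ?_⟩
      rw [Fin.sum_univ_one]
      refine Eq.trans (congrArg Q.inv ?_) (map_smul Q.inv.hom b _)
      show b ⊗ₜ[Y'.presheaf.stalk (gZ x)] cls i' n (gZ x) m =
        (b * 1) ⊗ₜ[Y'.presheaf.stalk (gZ x)] cls i' n (gZ x) m
      rw [mul_one]
  | add y y' e e' =>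
      obtain ⟨k, b, m, h⟩ := e
      obtain ⟨k', b', m', h'⟩ := e'
      refine ⟨k + k', Fin.append b b', Fin.append m m', ?_⟩
      rw [Fin.sum_univ_add]
      simp only [Fin.append_left, Fin.append_right]
      exact (map_add Q.inv.hom y y').trans (congrArg₂ (· + ·) h h')

variable (φ : (Scheme.Modules.pullback gZ).obj (PrinPart.grMod i' n) ⟶ PrinPart.grMod i n)
  (hφ : PrinPart.IsGrMap i i' g gZ n φ)

omit [IsClosedImmersion i] [IsClosedImmersion i'] in
lemma exists_sect (w : gZ ≫ i' = i ≫ g) (U : X'.Opens) (k : Γ(ClSub.idealMod (i'.ker ^ n), U)) :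
    ∃ s : Γ(ClSub.idealMod (i.ker ^ n), g ⁻¹ᵁ U),
      OmegaSh.idealSect (i.ker ^ n) (g ⁻¹ᵁ U) s = g.app U (OmegaSh.idealSect (i'.ker ^ n) U k) := by
  refine OmegaLib.exists_idealSect_eq _ _ _ ?_
  let a := Scheme.IdealSheafData.subschemeMap _ _ g (pow_le_map i' i g gZ w.symm n)
  have e : (i.ker ^ n).subschemeι ≫ g = a ≫ (i'.ker ^ n).subschemeι :=
    (Scheme.IdealSheafData.subschemeMap_subschemeι _ _ _ _).symm
  show ((i.ker ^ n).subschemeι ≫ g).app U _ = 0
  rw [Scheme.Hom.congr_app e U]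
  show (i.ker ^ n).subscheme.presheaf.map _ (a.app _ ((i'.ker ^ n).subschemeι.app U _)) = 0
  rw [OmegaLib.subschemeι_app_idealSect, map_zero, map_zero]

include hφ in
/-- the value on classes -/
theorem map_el (m : St (ClSub.idealMod (i'.ker ^ n)) (i' (gZ x))) :
    ∃ m₂ : St (ClSub.idealMod (i.ker ^ n)) (i x),
      fn _ _ m₂ = ConormalBC.δ i i' g gZ hφ.1 x (fn _ _ m) ∧
      (DerSch.stalkFunctor Y x).map φ (el i' gZ n x m) = cls i n x m₂ := by
  obtain ⟨U, hU, k, rfl⟩ := gm_surjective _ m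
  have hx : i x ∈ g ⁻¹ᵁ U := by
    show (i ≫ g) x ∈ U
    rw [← hφ.1]
    exact hU
  obtain ⟨s, hs⟩ := exists_sect i i' g gZ n hφ.1 U k
  refine ⟨gm _ hx s, ?_, ?_⟩
  · rw [fn_gm, fn_gm, ConormalBC.δ_germ i i' g gZ hφ.1 x U hU hx, hs]
  have hx' : x ∈ gZ ⁻¹ᵁ (i' ⁻¹ᵁ U) := hU
  have hle : gZ ⁻¹ᵁ (i' ⁻¹ᵁ U) ≤ i ⁻¹ᵁ (g ⁻¹ᵁ U) :=
    (congrArg (fun t : Y ⟶ X' => t ⁻¹ᵁ U) hφ.1).le
  have h1 : el i' gZ n x (gm _ hU k) = gm _ hx'
      (OmegaSh.pullSect gZ (PrinPart.grMod i' n) (i' ⁻¹ᵁ U) (PrinPart.grSect i' n U k)) := by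
    refine (ConcreteCategory.bijective_of_isIso ((stalkPullbackIso gZ x).app (PrinPart.grMod i' n)).hom).1 ?_
    refine (Iso.inv_hom_id_apply _ _).trans (Eq.trans (congrArg _ (cls_gm i' n (gZ x) hU k))
      (stalkPullbackIso_gm gZ (PrinPart.grMod i' n) x hx' _).symm)
  have h2 := congrArg (gm (PrinPart.grMod i n) hx')
    (hφ.2 U k s hs (gZ ⁻¹ᵁ (i' ⁻¹ᵁ U)) le_rfl hle)
  erw [gm_res, gm_res] at h2
  rw [h1, cls_gm]
  exact (DerSch.stalkFunctor_map_germ x φ _ hx' _).trans h2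

variable (hsq : IsPullback i gZ g i')

include hsq in
theorem kx_pow_le (x : Y) (m : ℕ) :
    kx i x ^ m ≤ (kx i' (gZ x) ^ m).map (ConormalBC.δ i i' g gZ hsq.w.symm x).hom := by
  rw [Ideal.map_pow]
  exact Ideal.pow_right_mono (ConormalBC.ker_le i i' g gZ hsq.w.symm x hsq) m

include hsq hφ in
theorem epi : Epi φ := by
  rw [epi_iff_stalk]
  intro x z
  obtain ⟨m, rfl⟩ := cls_surjective i n x z
  suffices ∀ a ∈ (kx i' (gZ x) ^ n).map (ConormalBC.δ i i' g gZ hφ.1 x).hom,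
      ∃ m₂, fn _ _ m₂ = a ∧ ∃ v, (DerSch.stalkFunctor Y x).map φ v = cls i n x m₂ by
    obtain ⟨m₂, hm₂, v, hv⟩ := this _ (kx_pow_le i i' g gZ hsq x n (fn_mem i n x m))
    rw [fn_injective _ _ hm₂] at hv
    exact ⟨v, hv⟩
  intro a ha
  induction ha using Submodule.span_induction with
  | mem a ha =>
      obtain ⟨r, hr, rfl⟩ := ha
      obtain ⟨m', rfl⟩ := exists_fn i' n (gZ x) hr
      obtain ⟨m₂, h₂, hv⟩ := map_el i i' g gZ n x φ hφ m'
      exact ⟨m₂, h₂, _, hv⟩
  | zero => exact ⟨0, map_zero _, 0, (map_zero _).trans ((cls_eq_zero_iff i n x 0).2 (by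
      rw [map_zero]; exact zero_mem _)).symm⟩
  | add b b' _ _ e e' =>
      obtain ⟨m₁, rfl, v, hv⟩ := e
      obtain ⟨m₂, rfl, v', hv'⟩ := e'
      exact ⟨m₁ + m₂, map_add _ _ _, v + v', by rw [map_add, hv, hv', cls_add]⟩
  | smul c b _ e =>
      obtain ⟨m₁, rfl, v, hv⟩ := e
      exact ⟨c • m₁, map_smul _ _ _, i.stalkMap x c • v, by rw [map_smul, hv, cls_smul]⟩

set_option maxHeartbeats 1000000 in
include hsq hφ in
theorem mono [Flat g] : Mono φ := by
  rw [mono_iff_stalk]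
  intro x
  refine (injective_iff_map_eq_zero _).mpr fun z hz => ?_
  let A' := X'.presheaf.stalk (i' (gZ x))
  let A := X.presheaf.stalk (i x)
  let d := ConormalBC.δ i i' g gZ hφ.1 x
  let _ : Algebra A' A := d.hom.toAlgebra
  have : Module.Flat A' A := ConormalBC.δ_flat i i' g gZ hφ.1 x
  let M' := St (ClSub.idealMod (i'.ker ^ n)) (i' (gZ x))
  let μ : A ⊗[A'] M' →ₗ[A'] A :=
    (TensorProduct.rid A' A).toLinearMap ∘ₗ (fn (i'.ker ^ n) (i' (gZ x))).lTensor A
  have hμt : ∀ (c : A) (m : M'), μ (c ⊗ₜ m) = d (fn _ _ m) * c := fun c m => rfl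
  have hμinj : Function.Injective μ := (TensorProduct.rid A' A).injective.comp
    (Module.Flat.lTensor_preserves_injective_linearMap _ (fn_injective _ _))
  let F : A →+ M' →+ St ((Scheme.Modules.pullback gZ).obj (PrinPart.grMod i' n)) x :=
    AddMonoidHom.mk' (fun c => AddMonoidHom.mk' (fun m => i.stalkMap x c • el i' gZ n x m)
        (fun m m' => by rw [el_add, smul_add]))
      (fun c c' => by
        ext m
        show i.stalkMap x (c + c') • el i' gZ n x m = i.stalkMap x c • _ + i.stalkMap x c' • _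
        rw [map_add, add_smul])
  let Θ : A ⊗[A'] M' →+ St ((Scheme.Modules.pullback gZ).obj (PrinPart.grMod i' n)) x :=
    TensorProduct.liftAddHom F fun r c m => by
      show i.stalkMap x (d r * c) • el i' gZ n x m = i.stalkMap x c • el i' gZ n x (r • m)
      rw [el_smul, smul_smul, map_mul, ConormalBC.stalkMap_δ, mul_comm]
  have hΘt : ∀ (c : A) (m : M'), Θ (c ⊗ₜ m) = i.stalkMap x c • el i' gZ n x m := fun c m => rfl
  have hb : ∀ (b : A) (v : A ⊗[A'] M'), μ (b • v) = b * μ v ∧ Θ (b • v) = i.stalkMap x b • Θ v := by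
    intro b v
    induction v using TensorProduct.induction_on with
    | zero => simp
    | tmul c m =>
        rw [TensorProduct.smul_tmul', smul_eq_mul, hμt, hμt, hΘt, hΘt, map_mul, smul_smul]
        exact ⟨by ring, rfl⟩
    | add v v' hv hv' =>
        rw [smul_add, map_add, map_add, map_add, map_add, hv.1, hv'.1, hv.2, hv'.2, mul_add, smul_add]
        exact ⟨rfl, rfl⟩
  obtain ⟨v, rfl⟩ : ∃ v, Θ v = z := by
    obtain ⟨k, b, m, rfl⟩ := exists_el i' gZ n x z
    choose c hc using fun j => i.stalkMap_surjective x (b j)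
    exact ⟨∑ j, c j ⊗ₜ[A'] m j, by rw [map_sum]; exact Finset.sum_congr rfl fun j _ => by rw [hΘt, hc]⟩
  have hval : ∀ v, ∃ m₂, fn _ _ m₂ = μ v ∧
      (DerSch.stalkFunctor Y x).map φ (Θ v) = cls i n x m₂ := by
    intro v
    induction v using TensorProduct.induction_on with
    | zero =>
        refine ⟨0, by rw [map_zero, map_zero], ?_⟩
        rw [map_zero, map_zero]
        exact ((cls_eq_zero_iff i n x 0).2 (by rw [map_zero]; exact zero_mem _)).symm
    | tmul c m =>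
        obtain ⟨m₂, h₂, hv⟩ := map_el i i' g gZ n x φ hφ m
        refine ⟨c • m₂, ?_, ?_⟩
        · rw [map_smul, h₂, hμt, smul_eq_mul, mul_comm]
        · rw [hΘt, map_smul, hv, cls_smul]
    | add a b e e' =>
        obtain ⟨m₁, h, hv⟩ := e
        obtain ⟨m₂, h', hv'⟩ := e'
        exact ⟨m₁ + m₂, by rw [map_add, map_add, h, h'], by rw [map_add, map_add, hv, hv', cls_add]⟩
  obtain ⟨m₂, h₂, hv⟩ := hval v
  rw [hz] at hv
  have hmem := (cls_eq_zero_iff i n x m₂).1 hv.symm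
  rw [h₂] at hmem
  have hK : ∀ a ∈ kx i x ^ n, ∃ v, μ v = a := by
    suffices ∀ a ∈ (kx i' (gZ x) ^ n).map d.hom, ∃ v, μ v = a from
      fun a ha => this a (kx_pow_le i i' g gZ hsq x n ha)
    intro a ha
    induction ha using Submodule.span_induction with
    | mem a ha =>
        obtain ⟨r, hr, rfl⟩ := ha
        obtain ⟨m, rfl⟩ := exists_fn i' n (gZ x) hr
        exact ⟨(1 : A) ⊗ₜ m, (hμt _ _).trans (mul_one _)⟩
    | zero => exact ⟨0, map_zero μ⟩
    | add a b _ _ e e' =>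
        obtain ⟨u, hu⟩ := e
        obtain ⟨u', hu'⟩ := e'
        exact ⟨u + u', by rw [map_add, hu, hu']⟩
    | smul c a _ e =>
        obtain ⟨u, hu⟩ := e
        exact ⟨c • u, by rw [(hb c u).1, hu]; rfl⟩
  obtain ⟨v', hv', hv0⟩ : ∃ v', μ v' = μ v ∧ Θ v' = 0 := by
    generalize μ v = a at hmem ⊢
    rw [pow_succ'] at hmem
    induction hmem using Submodule.mul_induction_on' with
    | mem_mul_mem b hb' c hc =>
        obtain ⟨u, hu⟩ := hK c hc
        refine ⟨b • u, by rw [(hb b u).1, hu], ?_⟩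
        rw [(hb b u).2, RingHom.mem_ker.mp hb', zero_smul]
    | add b _ c _ e e' =>
        obtain ⟨u, hu, hu0⟩ := e
        obtain ⟨u', hu', hu0'⟩ := e'
        exact ⟨u + u', by rw [map_add, hu, hu'], by rw [map_add, hu0, hu0', add_zero]⟩
  rw [← hμinj hv']
  exact hv0

end Groth.Agent.PP38.GrStalk
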