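import Groth.Agent.PP38.GrMap
import Groth.Agent.Synt29.OmegaBC
import Groth.Prelude.Def_FlatMod2
import Mathlib

/-! Graded pieces of a section under base change of the base. -/

set_option autoImplicit false
set_option linter.style.haveILetI false

universe u

open CategoryTheory CategoryTheory.Limits AlgebraicGeometry TopologicalSpace Opposite
open scoped TensorProduct

namespace Groth.Agent.PP38.GrStalk

open Groth.Agent.Synt29.OmegaStalk Groth.Agent.KFlatLib Groth.Agent.Synt29

/-- extensions of flat modules are flat -/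
theorem flat_of_exact {R M₁ M₂ M₃ : Type u} [CommRing R] [AddCommGroup M₁] [AddCommGroup M₂]
    [AddCommGroup M₃] [Module R M₁] [Module R M₂] [Module R M₃] [Module.Flat R M₁] [Module.Flat R M₃]
    (a : M₁ →ₗ[R] M₂) (b : M₂ →ₗ[R] M₃) (ha : Function.Injective a) (hb : Function.Surjective b)
    (h : Function.Exact a b) : Module.Flat R M₂ := by
  rw [Module.Flat.iff_rTensor_preserves_injective_linearMap]
  intro N P _ _ _ _ i hi
  refine (injective_iff_map_eq_zero _).2 fun x hx => ?_
  have h0 : b.lTensor P (i.rTensor M₂ x) = 0 := by rw [hx, map_zero]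
  rw [← LinearMap.comp_apply, LinearMap.lTensor_comp_rTensor, ← LinearMap.rTensor_comp_lTensor,
    LinearMap.comp_apply] at h0
  have h1 : b.lTensor N x = 0 :=
    (injective_iff_map_eq_zero _).1 (Module.Flat.rTensor_preserves_injective_linearMap (M := M₃) i hi) _ h0
  obtain ⟨y, rfl⟩ := (lTensor_exact N h hb x).1 h1
  rw [← LinearMap.comp_apply, LinearMap.rTensor_comp_lTensor, ← LinearMap.lTensor_comp_rTensor,
    LinearMap.comp_apply] at hx
  have h2 := (injective_iff_map_eq_zero _).1
    (LinearMap.lTensor_injective_of_exact_of_flat b hb a ha h P) _ hx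
  rw [(injective_iff_map_eq_zero _).1
    (Module.Flat.rTensor_preserves_injective_linearMap (M := M₁) i hi) _ h2, map_zero]

/-- the kernel of a tensored map, when the image has a flat cokernel -/
theorem exists_of_lTensor_eq_zero {R M P Q : Type u} [CommRing R] [AddCommGroup M] [AddCommGroup P]
    [AddCommGroup Q] [Module R M] [Module R P] [Module R Q] [Module.Flat R Q]
    (q : M →ₗ[R] P) (b : P →ₗ[R] Q) (hb : Function.Surjective b) (h : Function.Exact q b)
    (T : Type u) [AddCommGroup T] [Module R T] (v : T ⊗[R] M) (hv : q.lTensor T v = 0) :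
    ∃ w, (LinearMap.ker q).subtype.lTensor T w = v := by
  have h1 : q.rangeRestrict.lTensor T v = 0 := by
    refine (injective_iff_map_eq_zero _).1 (LinearMap.lTensor_injective_of_exact_of_flat b hb
      (LinearMap.range q).subtype Subtype.val_injective ?_ T) _ ?_
    · intro y
      rw [h y]
      exact ⟨fun ⟨m, hm⟩ => ⟨⟨y, m, hm⟩, rfl⟩, fun ⟨⟨_, m, hm⟩, e⟩ => ⟨m, hm.trans e⟩⟩
    · rw [← LinearMap.comp_apply, ← LinearMap.lTensor_comp]
      exact hv
  refine ((lTensor_exact T ?_ q.surjective_rangeRestrict) v).1 h1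
  intro m
  exact ⟨fun hm => ⟨⟨m, congrArg Subtype.val hm⟩, rfl⟩,
    fun ⟨w, hw⟩ => Subtype.ext (by rw [← hw]; exact w.2)⟩

lemma germ_congr {Z : Scheme.{u}} {a b : Z} (e : a = b) (U : Z.Opens) (ha : a ∈ U) (hb : b ∈ U) (r : Γ(Z, U)) :
    (Z.presheaf.stalkCongr (.of_eq e)).hom (Z.presheaf.germ U a ha r) = Z.presheaf.germ U b hb r := by
  subst e
  simp [TopCat.Presheaf.stalkCongr]

section Section

variable {X Y : Scheme.{u}} (g : X ⟶ Y) (f : Y ⟶ X) (hf : f ≫ g = 𝟙 Y)

/-- the local ring of the base, into that of the total space at a point of the section -/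
noncomputable def ρ (y : Y) : Y.presheaf.stalk y →+* X.presheaf.stalk (f y) :=
  (ConormalBC.δ f (𝟙 Y) g (𝟙 Y) (by rw [hf, Category.comp_id]) y).hom

lemma stalkMap_ρ (y : Y) (r : Y.presheaf.stalk y) : f.stalkMap y (ρ g f hf y r) = r := by
  refine (ConormalBC.stalkMap_δ f (𝟙 Y) g (𝟙 Y) (by rw [hf, Category.comp_id]) y r).trans ?_
  rw [Scheme.Hom.stalkMap_id]
  erw [Scheme.Hom.stalkMap_id]
  rfl

lemma ρ_germ (y : Y) (U : Y.Opens) (hy : y ∈ U) (h' : f y ∈ g ⁻¹ᵁ U) (r : Γ(Y, U)) :
    ρ g f hf y (Y.presheaf.germ U y hy r) = X.presheaf.germ (g ⁻¹ᵁ U) (f y) h' (g.app U r) :=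
  ConormalBC.δ_germ f (𝟙 Y) g (𝟙 Y) _ y U hy h' r

lemma specMap_ρ (y : Y) :
    X.fromSpecStalk (f y) ≫ g = Spec.map (CommRingCat.ofHom (ρ g f hf y)) ≫ Y.fromSpecStalk y := by
  have e : g (f y) = y := congr($hf y)
  rw [← Scheme.SpecMap_stalkMap_fromSpecStalk g, ← specMap_stalkCongr e, ← Spec.map_comp_assoc]
  congr 2
  refine Y.presheaf.stalk_hom_ext fun U hU => ?_
  ext r
  have h' : f y ∈ g ⁻¹ᵁ U := e.symm ▸ hU
  show g.stalkMap (f y) (Y.presheaf.germ U _ hU r) =
    ρ g f hf y ((Y.presheaf.stalkCongr (.of_eq e)).hom (Y.presheaf.germ U _ hU r))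
  rw [germ_congr e U hU (e ▸ hU), ρ_germ g f hf y U (e ▸ hU) h', Scheme.Hom.germ_stalkMap_apply]

variable [IsClosedImmersion f]

/-- the graded pieces being flat, so are the quotients by the powers of the ideal -/
theorem flat_quotient (y : Y) (k : ℕ) (hflat : ∀ j < k, FlatMod.IsFlatAt (PrinPart.grMod f j) y) :
    letI := (ρ g f hf y).toAlgebra
    Module.Flat (Y.presheaf.stalk y) (X.presheaf.stalk (f y) ⧸ kx f y ^ k) := by
  let R := Y.presheaf.stalk y
  let A := X.presheaf.stalk (f y)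
  letI : Algebra R A := (ρ g f hf y).toAlgebra
  show Module.Flat R (A ⧸ kx f y ^ k)
  induction k with
  | zero =>
      haveI : Subsingleton (A ⧸ kx f y ^ 0) :=
        Ideal.Quotient.subsingleton_iff.2 (by rw [pow_zero, Ideal.one_eq_top])
      infer_instance
  | succ k ih =>
      haveI : Module.Flat R (A ⧸ kx f y ^ k) := ih fun j hj => hflat j (hj.trans k.lt_succ_self)
      let M := St (ClSub.idealMod (f.ker ^ k)) (f y)
      letI : Module R M := Module.compHom M (ρ g f hf y)
      haveI : IsScalarTower R A M := IsScalarTower.of_algebraMap_smul fun _ _ => rfl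
      let q : M →ₗ[R] A ⧸ kx f y ^ (k + 1) :=
        ((Ideal.Quotient.mkₐ A _).toLinearMap ∘ₗ fn (f.ker ^ k) (f y)).restrictScalars R
      let c : M →ₗ[R] St (PrinPart.grMod f k) y :=
        { toFun := cls f k y
          map_add' := cls_add f k y
          map_smul' := fun r m => by
            show cls f k y (ρ g f hf y r • m) = r • cls f k y m
            rw [cls_smul, stalkMap_ρ] }
      have hc : Function.Surjective c := cls_surjective f k y
      have hker : LinearMap.ker c = LinearMap.ker q := by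
        ext m
        rw [LinearMap.mem_ker, LinearMap.mem_ker]
        exact (cls_eq_zero_iff f k y m).trans Ideal.Quotient.eq_zero_iff_mem.symm
      haveI : Module.Flat R (St (PrinPart.grMod f k) y) := hflat k k.lt_succ_self
      haveI : Module.Flat R (M ⧸ LinearMap.ker c) :=
        Module.Flat.of_linearEquiv (c.quotKerEquivOfSurjective hc)
      haveI : Module.Flat R (M ⧸ LinearMap.ker q) :=
        Module.Flat.of_linearEquiv (Submodule.quotEquivOfEq _ _ hker.symm)
      let b : A ⧸ kx f y ^ (k + 1) →ₗ[R] A ⧸ kx f y ^ k :=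
        (Ideal.Quotient.factorₐ R (I := kx f y ^ (k + 1)) (J := kx f y ^ k) (Ideal.pow_le_pow_right k.le_succ)).toLinearMap
      refine flat_of_exact ((LinearMap.ker q).liftQ q le_rfl) b ?_ ?_ ?_
      · rw [← LinearMap.ker_eq_bot, Submodule.ker_liftQ_eq_bot _ _ _ le_rfl]
      · exact Ideal.Quotient.factor_surjective (Ideal.pow_le_pow_right k.le_succ)
      · intro z
        obtain ⟨a, rfl⟩ := Ideal.Quotient.mk_surjective z
        constructor
        · intro h
          obtain ⟨m, rfl⟩ := exists_fn f k y (Ideal.Quotient.eq_zero_iff_mem.1 h)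
          exact ⟨Submodule.Quotient.mk m, rfl⟩
        · rintro ⟨m, hm⟩
          obtain ⟨m, rfl⟩ := Submodule.Quotient.mk_surjective _ m
          rw [← hm]
          exact Ideal.Quotient.eq_zero_iff_mem.2 (fn_mem f k y m)

include hf in
/-- the zeroth graded piece is flat -/
theorem flat_grZero (y : Y) : FlatMod.IsFlatAt (PrinPart.grMod f 0) y := by
  let R := Y.presheaf.stalk y
  let M := St (ClSub.idealMod (f.ker ^ 0)) (f y)
  letI : Module R M := Module.compHom M (ρ g f hf y)
  let c : M →ₗ[R] St (PrinPart.grMod f 0) y :=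
    { toFun := cls f 0 y
      map_add' := cls_add f 0 y
      map_smul' := fun r m => by
        show cls f 0 y (ρ g f hf y r • m) = r • cls f 0 y m
        rw [cls_smul, stalkMap_ρ] }
  let θ : M →ₗ[R] R :=
    { toFun := fun m => f.stalkMap y (fn _ _ m)
      map_add' := fun m m' => by rw [map_add, map_add]
      map_smul' := fun r m => by
        show f.stalkMap y (fn _ _ (ρ g f hf y r • m)) = r * _
        rw [map_smul, smul_eq_mul, map_mul, stalkMap_ρ] }
  have hker : LinearMap.ker c = LinearMap.ker θ := by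
    ext m
    rw [LinearMap.mem_ker, LinearMap.mem_ker]
    refine (cls_eq_zero_iff f 0 y m).trans ?_
    rw [zero_add, pow_one]
    exact RingHom.mem_ker
  have hθ : Function.Surjective θ := fun r => by
    obtain ⟨m, hm⟩ := exists_fn f 0 y (a := ρ g f hf y r) (by rw [pow_zero, Ideal.one_eq_top]; trivial)
    exact ⟨m, (congrArg (f.stalkMap y) hm).trans (stalkMap_ρ g f hf y r)⟩
  exact Module.Flat.of_linearEquiv ((c.quotKerEquivOfSurjective (cls_surjective f 0 y)).symm.trans
    ((Submodule.quotEquivOfEq _ _ hker).trans (θ.quotKerEquivOfSurjective hθ)))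

end Section

section BaseChange

variable {X Y X' Y' : Scheme.{u}} (g : X ⟶ Y) (f : Y ⟶ X) [IsClosedImmersion f] (hf : f ≫ g = 𝟙 Y)
  (u : Y' ⟶ Y) (v : X' ⟶ X) (g' : X' ⟶ Y') (hsq : IsPullback v g' g u)
  (f' : Y' ⟶ X') (hf' : f' ≫ g' = 𝟙 Y') (w : u ≫ f = f' ≫ v)

include hsq hf hf' w in
omit [IsClosedImmersion f] in
theorem isPullback_section : IsPullback f' u v f := by
  refine (IsPullback.of_bot (h₁₁ := u) ?_ w hsq).flip
  rw [hf', hf]
  exact IsPullback.of_vert_isIso ⟨by simp⟩

include hsq in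
omit [IsClosedImmersion f] in
/-- compatibility of the two sections on local rings -/
theorem δ_ρ (x : Y') (r : Y.presheaf.stalk (u x)) :
    ConormalBC.δ f' f v u w x (ρ g f hf (u x) r) = ρ g' f' hf' x (u.stalkMap x r) := by
  obtain ⟨U, hU, r, rfl⟩ := Y.presheaf.exists_germ_eq (x := u x) r
  have h1 : f (u x) ∈ g ⁻¹ᵁ U := by
    show g (f (u x)) ∈ U
    rw [show g (f (u x)) = u x from congr($hf (u x))]
    exact hU
  have h2 : f' x ∈ g' ⁻¹ᵁ (u ⁻¹ᵁ U) := by
    show g' (f' x) ∈ u ⁻¹ᵁ U
    rw [show g' (f' x) = x from congr($hf' x)]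
    exact hU
  have h3 : f' x ∈ v ⁻¹ᵁ (g ⁻¹ᵁ U) := by
    show (v ≫ g) (f' x) ∈ U
    rw [hsq.w]
    exact h2
  rw [ρ_germ g f hf (u x) U hU h1, ConormalBC.δ_germ f' f v u w x _ h1 h3,
    Scheme.Hom.germ_stalkMap_apply, ρ_germ g' f' hf' x (u ⁻¹ᵁ U) hU h2]
  show X'.presheaf.germ ((v ≫ g) ⁻¹ᵁ U) (f' x) h3 ((v ≫ g).app U r) =
    X'.presheaf.germ ((g' ≫ u) ⁻¹ᵁ U) (f' x) h2 ((g' ≫ u).app U r)
  rw [Scheme.Hom.congr_app hsq.w U, ConcreteCategory.comp_apply]
  exact X'.presheaf.germ_res_apply _ _ _ _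

include hsq in
omit [IsClosedImmersion f] in
/-- the local ring of the base change maps to every nilpotent thickening of the section -/
theorem exists_lift (x : Y') {E : CommRingCat.{u}} [IsLocalRing E]
    (π : E ⟶ Y'.presheaf.stalk x) [IsLocalHom π.hom]
    (α : X.presheaf.stalk (f (u x)) ⟶ E) (β : Y'.presheaf.stalk x ⟶ E)
    (hc : CommRingCat.ofHom (ρ g f hf (u x)) ≫ α = u.stalkMap x ≫ β)
    (hα : α ≫ π = f.stalkMap (u x) ≫ u.stalkMap x) (hβ : β ≫ π = 𝟙 _) :
    ∃ l : X'.presheaf.stalk (f' x) ⟶ E, ConormalBC.δ f' f v u w x ≫ l = α ∧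
      CommRingCat.ofHom (ρ g' f' hf' x) ≫ l = β ∧ l ≫ π = f'.stalkMap x := by
  let a : Spec E ⟶ X := Spec.map α ≫ X.fromSpecStalk (f (u x))
  let b : Spec E ⟶ Y' := Spec.map β ≫ Y'.fromSpecStalk x
  have hw : a ≫ g = b ≫ u := by
    simp only [a, b, Category.assoc, specMap_ρ g f hf (u x), ← Scheme.SpecMap_stalkMap_fromSpecStalk u,
      ← Spec.map_comp_assoc, hc]
  let l := hsq.lift a b hw
  have hl : Spec.map π ≫ l = Y'.fromSpecStalk x ≫ f' := by
    apply hsq.hom_ext
    · rw [Category.assoc, Category.assoc, hsq.lift_fst, ← w,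
        ← Scheme.SpecMap_stalkMap_fromSpecStalk_assoc u, ← Scheme.SpecMap_stalkMap_fromSpecStalk f]
      simp only [a, ← Spec.map_comp_assoc, hα]
    · rw [Category.assoc, Category.assoc, hsq.lift_snd, hf', Category.comp_id]
      simp only [b, ← Spec.map_comp_assoc, hβ, Spec.map_id, Category.id_comp]
  have hx : l (IsLocalRing.closedPoint E) = f' x := by
    have h := congrArg (fun t : Spec (Y'.presheaf.stalk x) ⟶ X' =>
      t (IsLocalRing.closedPoint (Y'.presheaf.stalk x))) hl
    change l ((Spec.map π) (IsLocalRing.closedPoint (Y'.presheaf.stalk x))) =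
      f' ((Y'.fromSpecStalk x) (IsLocalRing.closedPoint (Y'.presheaf.stalk x))) at h
    rw [Spec_closedPoint, Scheme.fromSpecStalk_closedPoint] at h
    exact h
  let lam : X'.presheaf.stalk (f' x) ⟶ E :=
    (X'.presheaf.stalkCongr (.of_eq hx.symm)).hom ≫ Scheme.stalkClosedPointTo l
  have hlam : Spec.map lam ≫ X'.fromSpecStalk (f' x) = l := by
    rw [Spec.map_comp, Category.assoc, specMap_stalkCongr hx.symm,
      Scheme.Spec_stalkClosedPointTo_fromSpecStalk]
  refine ⟨lam, ?_, ?_, ?_⟩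
  · apply Spec.map_injective
    rw [← cancel_mono (X.fromSpecStalk (f (u x))), Spec.map_comp_assoc]
    have e : v (f' x) = f (u x) := (congr($w x)).symm
    have h1 : Spec.map (ConormalBC.δ f' f v u w x) ≫ X.fromSpecStalk (f (u x)) =
        X'.fromSpecStalk (f' x) ≫ v := by
      rw [ConormalBC.δ]
      erw [Spec.map_comp, Category.assoc, specMap_stalkCongr e.symm,
        Scheme.SpecMap_stalkMap_fromSpecStalk]
    rw [h1, reassoc_of% hlam]
    exact hsq.lift_fst a b hw
  · apply Spec.map_injective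
    rw [← cancel_mono (Y'.fromSpecStalk x), Spec.map_comp_assoc, ← specMap_ρ g' f' hf' x,
      reassoc_of% hlam]
    exact hsq.lift_snd a b hw
  · apply Spec.map_injective
    rw [← cancel_mono (X'.fromSpecStalk (f' x)), Spec.map_comp_assoc, hlam, hl,
      Scheme.SpecMap_stalkMap_fromSpecStalk]

variable (n : ℕ) (φ : (Scheme.Modules.pullback u).obj (PrinPart.grMod f n) ⟶ PrinPart.grMod f' n)
  (hφ : PrinPart.IsGrMap f' f v u n φ)

set_option maxHeartbeats 2000000 in
include hsq hφ hf hf' in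
theorem mono_section [IsClosedImmersion f'] (hflat : ∀ y, ∀ j < n, FlatMod.IsFlatAt (PrinPart.grMod f j) y) :
    Mono φ := by
  rw [mono_iff_stalk]
  intro x
  refine (injective_iff_map_eq_zero _).mpr fun z hz => ?_
  let y := u x
  let R := Y.presheaf.stalk y
  let R' := Y'.presheaf.stalk x
  let A := X.presheaf.stalk (f y)
  let A' := X'.presheaf.stalk (f' x)
  let d : A →+* A' := (ConormalBC.δ f' f v u hφ.1 x).hom
  letI : Algebra R A := (ρ g f hf y).toAlgebra
  letI : Algebra R R' := (u.stalkMap x).hom.toAlgebra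
  let M := St (ClSub.idealMod (f.ker ^ n)) (f y)
  letI : Module R M := Module.compHom M (ρ g f hf y)
  haveI : IsScalarTower R A M := IsScalarTower.of_algebraMap_smul fun _ _ => rfl
  let K := kx f y
  let An := A ⧸ K ^ (n + 1)
  let q : M →ₗ[R] An :=
    ((Ideal.Quotient.mkₐ A _).toLinearMap ∘ₗ fn (f.ker ^ n) (f y)).restrictScalars R
  -- the local ring
  let fT : A →ₐ[R] R' :=
    { toRingHom := (u.stalkMap x).hom.comp (f.stalkMap y).hom
      commutes' := fun r => congrArg (u.stalkMap x) (stalkMap_ρ g f hf y r) }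
  let pn : An →ₐ[R] R' := Ideal.Quotient.liftₐ _ fT fun a ha => by
    show u.stalkMap x (f.stalkMap y a) = 0
    rw [RingHom.mem_ker.1 (Ideal.pow_le_self n.succ_ne_zero ha), map_zero]
  let π₀ : R' ⊗[R] An →ₐ[R] R' := Algebra.TensorProduct.lift (AlgHom.id R R') pn fun _ _ => Commute.all _ _
  let β₀ : R' →ₐ[R] R' ⊗[R] An := Algebra.TensorProduct.includeLeft
  let α₀ : A →ₐ[R] R' ⊗[R] An := Algebra.TensorProduct.includeRight.comp (Ideal.Quotient.mkₐ R _)
  have hπβ : ∀ r, π₀ (β₀ r) = r := fun r => by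
    show π₀ (r ⊗ₜ 1) = r
    rw [Algebra.TensorProduct.lift_tmul, map_one, mul_one]
    rfl
  have hπα : ∀ a, π₀ (α₀ a) = u.stalkMap x (f.stalkMap y a) := fun a => by
    show π₀ (1 ⊗ₜ Ideal.Quotient.mk _ a) = _
    rw [Algebra.TensorProduct.lift_tmul, map_one, one_mul]
    rfl
  let J : Ideal (R' ⊗[R] An) := K.map α₀.toRingHom
  have hJ : J ^ (n + 1) = ⊥ := by
    rw [← Ideal.map_pow, Ideal.map_eq_bot_iff_le_ker]
    intro a ha
    show (1 : R') ⊗ₜ[R] Ideal.Quotient.mk (K ^ (n + 1)) a = 0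
    rw [Ideal.Quotient.eq_zero_iff_mem.2 ha, TensorProduct.tmul_zero]
  have hdec : ∀ e, e - β₀ (π₀ e) ∈ J := by
    intro e
    induction e using TensorProduct.induction_on with
    | zero => simp
    | tmul r a =>
        obtain ⟨a, rfl⟩ := Ideal.Quotient.mk_surjective a
        have h1 : a - ρ g f hf y (f.stalkMap y a) ∈ K :=
          RingHom.mem_ker.2 (by rw [map_sub]; exact sub_eq_zero.2 (stalkMap_ρ g f hf y _).symm)
        have h2 : r ⊗ₜ[R] Ideal.Quotient.mk (K ^ (n + 1)) a - β₀ (π₀ (r ⊗ₜ Ideal.Quotient.mk _ a)) =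
            β₀ r * α₀ (a - algebraMap R A (f.stalkMap y a)) := by
          have h3 : π₀ (r ⊗ₜ Ideal.Quotient.mk _ a) = r * algebraMap R R' (f.stalkMap y a) := by
            rw [Algebra.TensorProduct.lift_tmul]
            rfl
          rw [h3, map_mul, map_sub, AlgHom.commutes, AlgHom.commutes, mul_sub]
          congr 1
          show _ = (r ⊗ₜ[R] (1 : An)) * ((1 : R') ⊗ₜ[R] Ideal.Quotient.mk _ a)
          rw [Algebra.TensorProduct.tmul_mul_tmul, mul_one, one_mul]
        rw [h2]
        exact Ideal.mul_mem_left _ _ (Ideal.mem_map_of_mem _ h1)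
    | add e e' he he' =>
        rw [map_add, map_add, add_sub_add_comm]
        exact add_mem he he'
  have hunit : ∀ e, IsUnit (π₀ e) → IsUnit e := fun e he => by
    have h1 : IsNilpotent (e - β₀ (π₀ e)) := ⟨n + 1, by
      rw [← Ideal.mem_bot, ← hJ]
      exact Ideal.pow_mem_pow (hdec e) _⟩
    have := h1.isUnit_add_left_of_commute (he.map β₀) (Commute.all _ _)
    rwa [add_sub_cancel] at this
  haveI : IsLocalRing (R' ⊗[R] An) :=
    have : Nontrivial (R' ⊗[R] An) := π₀.toRingHom.domain_nontrivial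
    IsLocalRing.of_isUnit_or_isUnit_one_sub_self fun e =>
      (IsLocalRing.isUnit_or_isUnit_one_sub_self (π₀ e)).imp (hunit e) fun h =>
        hunit (1 - e) (by rw [map_sub, map_one]; exact h)
  let E : CommRingCat.{u} := CommRingCat.of (R' ⊗[R] An)
  haveI : IsLocalRing E := ‹IsLocalRing (R' ⊗[R] An)›
  let π : E ⟶ R' := CommRingCat.ofHom π₀.toRingHom
  haveI : IsLocalHom π.hom := ⟨hunit⟩
  let α : A ⟶ E := CommRingCat.ofHom α₀.toRingHom
  let β : R' ⟶ E := CommRingCat.ofHom β₀.toRingHom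
  obtain ⟨l, hlα, hlβ, hlπ⟩ := exists_lift g f hf u v g' hsq f' hf' hφ.1 x π α β
    (by ext r; exact (α₀.commutes r).trans (β₀.commutes r).symm)
    (by ext a; exact hπα a) (by ext r; exact hπβ r)
  -- the two models
  let cl : M →ₗ[R] St (PrinPart.grMod f n) y :=
    { toFun := cls f n y
      map_add' := cls_add f n y
      map_smul' := fun r m => by
        show cls f n y (ρ g f hf y r • m) = r • cls f n y m
        rw [cls_smul, stalkMap_ρ] }
  let ρ' : R' →+* A' := ρ g' f' hf' x
  have hdρ : ∀ r, d (ρ g f hf y r) = ρ' (u.stalkMap x r) := δ_ρ g f hf u v g' hsq f' hf' hφ.1 x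
  let Fμ : R' →+ M →+ A' := AddMonoidHom.mk'
    (fun r => AddMonoidHom.mk' (fun m => ρ' r * d (fn _ _ m))
      (fun m m' => by rw [map_add, map_add, mul_add]))
    (fun r r' => by
      ext m
      show ρ' (r + r') * _ = ρ' r * _ + ρ' r' * _
      rw [map_add, add_mul])
  let μ : R' ⊗[R] M →+ A' := TensorProduct.liftAddHom Fμ fun s r m => by
    show ρ' (u.stalkMap x s * r) * d (fn _ _ m) = ρ' r * d (fn _ _ (ρ g f hf y s • m))
    rw [map_smul, smul_eq_mul, map_mul, map_mul, hdρ]
    ring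
  let FΘ : R' →+ M →+ St ((Scheme.Modules.pullback u).obj (PrinPart.grMod f n)) x :=
    AddMonoidHom.mk' (fun r => AddMonoidHom.mk' (fun m => r • el f u n x m)
      (fun m m' => by rw [el_add, smul_add]))
    (fun r r' => by
      ext m
      exact add_smul r r' _)
  let Θ : R' ⊗[R] M →+ St ((Scheme.Modules.pullback u).obj (PrinPart.grMod f n)) x :=
    TensorProduct.liftAddHom FΘ fun s r m => by
      show (u.stalkMap x s * r) • el f u n x m = r • el f u n x (ρ g f hf y s • m)
      rw [el_smul, stalkMap_ρ, smul_smul, mul_comm]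
  obtain ⟨t, rfl⟩ : ∃ t, Θ t = z := by
    obtain ⟨k, b, m, rfl⟩ := exists_el f u n x z
    exact ⟨∑ j, b j ⊗ₜ[R] m j, map_sum Θ _ _⟩
  have hval : ∀ t, ∃ m₂, fn _ _ m₂ = μ t ∧
      (DerSch.stalkFunctor Y' x).map φ (Θ t) = cls f' n x m₂ := by
    intro t
    induction t using TensorProduct.induction_on with
    | zero =>
        refine ⟨0, by rw [map_zero, map_zero], ?_⟩
        rw [map_zero, map_zero]
        exact ((cls_eq_zero_iff f' n x 0).2 (by rw [map_zero]; exact zero_mem _)).symm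
    | tmul r m =>
        obtain ⟨m₂, h₂, hv⟩ := map_el f' f v u n x φ hφ m
        refine ⟨ρ' r • m₂, ?_, ?_⟩
        · rw [map_smul, h₂, smul_eq_mul]
          rfl
        · show (DerSch.stalkFunctor Y' x).map φ (r • el f u n x m) = _
          rw [map_smul, hv, cls_smul, stalkMap_ρ]
    | add a b e e' =>
        obtain ⟨m₁, h, hv⟩ := e
        obtain ⟨m₂, h', hv'⟩ := e'
        exact ⟨m₁ + m₂, by rw [map_add, map_add, h, h'], by rw [map_add, map_add, hv, hv', cls_add]⟩
  have hlμ : ∀ t, l (μ t) = q.lTensor R' t := by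
    intro t
    induction t using TensorProduct.induction_on with
    | zero => rw [map_zero, map_zero, map_zero]
    | tmul r m =>
        show l (ρ' r * d (fn _ _ m)) = r ⊗ₜ[R] Ideal.Quotient.mk (K ^ (n + 1)) (fn _ _ m)
        rw [map_mul]
        refine (congrArg₂ (· * ·) (congr($hlβ r)) (congr($hlα (fn _ _ m)))).trans ?_
        show (r ⊗ₜ[R] (1 : An)) * ((1 : R') ⊗ₜ[R] Ideal.Quotient.mk (K ^ (n + 1)) (fn _ _ m)) = _
        rw [Algebra.TensorProduct.tmul_mul_tmul, mul_one, one_mul]
    | add a b e e' => rw [map_add, map_add, map_add, e, e']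
  obtain ⟨m₂, h₂, hv⟩ := hval t
  rw [hz] at hv
  have hmem := (cls_eq_zero_iff f' n x m₂).1 hv.symm
  rw [h₂] at hmem
  have hl0 : l (μ t) = 0 := by
    have hker : (kx f' x).map l.hom ≤ J := Ideal.map_le_iff_le_comap.2 fun a ha => by
      have h1 := hdec (l a)
      have h2 : π₀ (l a) = 0 := (congr($hlπ a)).trans (RingHom.mem_ker.1 ha)
      rw [h2, map_zero, sub_zero] at h1
      exact h1
    have h1 := Ideal.mem_map_of_mem l.hom hmem
    rw [Ideal.map_pow] at h1
    have h2 := Ideal.pow_right_mono hker (n + 1) h1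
    rw [hJ] at h2
    exact h2
  rw [hlμ] at hl0
  haveI : Module.Flat R (A ⧸ K ^ n) := flat_quotient g f hf y n fun j hj => hflat y j hj
  let b : An →ₗ[R] A ⧸ K ^ n :=
    (Ideal.Quotient.factorₐ R (I := K ^ (n + 1)) (J := K ^ n) (Ideal.pow_le_pow_right n.le_succ)).toLinearMap
  obtain ⟨t₀, rfl⟩ := exists_of_lTensor_eq_zero q b
    (Ideal.Quotient.factor_surjective (Ideal.pow_le_pow_right n.le_succ)) (by
      intro a
      obtain ⟨a, rfl⟩ := Ideal.Quotient.mk_surjective a
      constructor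
      · intro h
        obtain ⟨m, rfl⟩ := exists_fn f n y (Ideal.Quotient.eq_zero_iff_mem.1 h)
        exact ⟨m, rfl⟩
      · rintro ⟨m, hm⟩
        rw [← hm]
        exact Ideal.Quotient.eq_zero_iff_mem.2 (fn_mem f n y m)) R' t hl0
  clear hz hv hmem h₂ hl0
  induction t₀ using TensorProduct.induction_on with
  | zero => rw [map_zero, map_zero]
  | tmul r m =>
      show r • el f u n x m.1 = 0
      rw [el_eq_zero f u n x (Ideal.Quotient.eq_zero_iff_mem.1 (LinearMap.mem_ker.1 m.2)), smul_zero]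
  | add a b e e' => rw [map_add, map_add, e, e', add_zero]

include hsq hφ hf hf' in
theorem isIso_section (hflat : ∀ y, ∀ j < n, FlatMod.IsFlatAt (PrinPart.grMod f j) y) : IsIso φ := by
  have hp := isPullback_section g f hf u v g' hsq f' hf' hφ.1
  haveI : IsClosedImmersion f' := MorphismProperty.of_isPullback hp.flip (inferInstanceAs (IsClosedImmersion f))
  haveI := epi f' f v u n φ hφ hp
  haveI := mono_section g f hf u v g' hsq f' hf' n φ hφ hflat
  exact isIso_of_mono_of_epi φ

end BaseChange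

end Groth.Agent.PP38.GrStalk
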