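import Groth.Agent.PP38.Desc

/-!
# Differential operators are the operators killed by iterated brackets
-/

set_option autoImplicit false
set_option linter.style.haveILetI false

noncomputable section

universe u

open CategoryTheory CategoryTheory.Limits AlgebraicGeometry TopologicalSpace Opposite
open scoped TensorProduct

namespace Groth.Agent.PP38

open Groth.Agent.Synt29.OmegaStalk

variable {X S : Scheme.{u}} {f : X ⟶ S} {n : ℕ}
variable {F G H : X.Modules}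

theorem g1_dP_smul (z : PrinPart.nbhd f n) {U : X.Opens} (hz : PrinPart.pr1 f n z ∈ U)
    (b : Γ(X, U)) (t : Γ(F, U)) :
    g1 F z hz (PrinPart.dP f n F U (b • t)) =
      r2 f n z (X.presheaf.germ U _ hz b) • g1 F z hz (PrinPart.dP f n F U t) := by
  rw [g1_dP, g1_dP, OmegaSh.pullSect_smul]
  refine (gm_smul (PB f n F) (U := PrinPart.pr2 f n ⁻¹ᵁ U) _ _ _).trans (congrArg (· • _) ?_)
  show _ = (PrinPart.pr2 f n).stalkMap z (sc f n z _)
  rw [sc_germ]
  exact (Scheme.Hom.germ_stalkMap_apply (PrinPart.pr2 f n) U z _ b).symm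

theorem g1_ext {U : X.Opens} {σ σ' : Γ(PrinPart.PMod f n F, U)}
    (h : ∀ (z : PrinPart.nbhd f n) (hz : PrinPart.pr1 f n z ∈ U), g1 F z hz σ = g1 F z hz σ') : σ = σ' :=
  TopCat.Presheaf.section_ext ⟨(PB f n F).presheaf, (PB f n F).isSheaf⟩ (PrinPart.pr1 f n ⁻¹ᵁ U) σ σ'
    fun z hz => h z hz

theorem r1_eq_r2_base {U : X.Opens} {V : S.Opens} (hU : U ≤ f ⁻¹ᵁ V) (s : Γ(S, V))
    (z : PrinPart.nbhd f n) (hz : PrinPart.pr1 f n z ∈ U) :
    r1 f n z (X.presheaf.germ U _ hz (X.presheaf.map (homOfLE hU).op (f.app V s))) =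
      r2 f n z (X.presheaf.germ U _ hz (X.presheaf.map (homOfLE hU).op (f.app V s))) := by
  set b := X.presheaf.map (homOfLE hU).op (f.app V s) with hb
  have hb' : f.appLE V U hU s = b := rfl
  show (PrinPart.pr1 f n).stalkMap z _ = (PrinPart.pr2 f n).stalkMap z (sc f n z _)
  rw [sc_germ]
  let W := PrinPart.pr1 f n ⁻¹ᵁ U
  have e1 := PPSheaf.germ_appLE_stalkMap (PrinPart.pr1 f n) U W le_rfl z hz b
  have e2 := PPSheaf.germ_appLE_stalkMap (PrinPart.pr2 f n) U W (PrinPart.preimage_pr1 f n U).le z hz b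
  refine e1.symm.trans (Eq.trans (congrArg _ ?_) e2)
  rw [← hb', ← CommRingCat.comp_apply, Scheme.Hom.appLE_comp_appLE, ← CommRingCat.comp_apply,
    Scheme.Hom.appLE_comp_appLE]
  exact PPSheaf.appLE_congr_hom (PrinPart.pr1_comp f n) V W _ s

theorem prod_sub_eq_zero (z : PrinPart.nbhd f n) {U : X.Opens} (hz : PrinPart.pr1 f n z ∈ U)
    (a : Fin (n + 1) → Γ(X, U)) :
    ∏ i, (r2 f n z (X.presheaf.germ U _ hz (a i)) - r1 f n z (X.presheaf.germ U _ hz (a i))) = 0 := by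
  obtain ⟨V, U', hxU', e⟩ : ∃ (V : S.affineOpens) (U' : X.affineOpens),
      PrinPart.pr1 f n z ∈ U'.1 ∧ U'.1 ≤ f ⁻¹ᵁ V.1 ⊓ U := by
    obtain ⟨_, ⟨V, hV, rfl⟩, hxV, -⟩ := S.isBasis_affineOpens.exists_subset_of_mem_open
      (Set.mem_univ (f (PrinPart.pr1 f n z))) isOpen_univ
    obtain ⟨_, ⟨U', hU', rfl⟩, hxU', hle⟩ := X.isBasis_affineOpens.exists_subset_of_mem_open
      (show PrinPart.pr1 f n z ∈ ((f ⁻¹ᵁ V ⊓ U : X.Opens) : Set X) from ⟨hxV, hz⟩) (f ⁻¹ᵁ V ⊓ U).isOpen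
    exact ⟨⟨V, hV⟩, ⟨U', hU'⟩, hxU', hle⟩
  letI := (f.appLE V.1 U'.1 (e.trans inf_le_left)).hom.toAlgebra
  obtain ⟨-, ψ, -, hker, hl, hr⟩ := PPSheaf.exists_chart f V U' (e.trans inf_le_left) n rfl
  let a' := fun i => X.presheaf.map (homOfLE (e.trans inf_le_right)).op (a i)
  have hg : ∀ i, X.presheaf.germ U _ hz (a i) = X.presheaf.germ U'.1 _ hxU' (a' i) := fun i =>
    (X.presheaf.germ_res_apply _ _ _ (a i)).symm
  let g := ((PrinPart.nbhd f n).presheaf.germ (PrinPart.pr1 f n ⁻¹ᵁ U'.1) z hxU').hom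
  have key : ∀ i, g (ψ (1 ⊗ₜ a' i - a' i ⊗ₜ 1)) =
      r2 f n z (X.presheaf.germ U _ hz (a i)) - r1 f n z (X.presheaf.germ U _ hz (a i)) := by
    intro i
    rw [map_sub, map_sub, hl, hr, hg]
    congr 1
    · show _ = (PrinPart.pr2 f n).stalkMap z (sc f n z _)
      rw [sc_germ]
      exact PPSheaf.germ_appLE_stalkMap (PrinPart.pr2 f n) U'.1 _ (PrinPart.preimage_pr1 f n U'.1).le z hxU' _
    · exact (Scheme.Hom.germ_stalkMap_apply (PrinPart.pr1 f n) U'.1 z hxU' _).symm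
  rw [← Finset.prod_congr rfl fun i _ => key i, ← map_prod, ← map_prod]
  have : (∏ i, ((1 : Γ(X, U'.1)) ⊗ₜ[Γ(S, V.1)] a' i - a' i ⊗ₜ 1)) ∈
      KaehlerDifferential.ideal Γ(S, V.1) Γ(X, U'.1) ^ (n + 1) := by
    have h := Ideal.prod_mem_prod (s := (Finset.univ : Finset (Fin (n + 1))))
      (I := fun _ => KaehlerDifferential.ideal Γ(S, V.1) Γ(X, U'.1))
      (fun i _ => KaehlerDifferential.one_smul_sub_smul_one_mem_ideal _ (a' i))
    simpa using h
  rw [← hker] at this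
  rw [RingHom.mem_ker.1 this, map_zero]

variable (f n)

theorem slin_dP (F : X.Modules) : SLin f (PrinPart.dPHom f n F) := by
  intro V s U hU t
  show PrinPart.dP f n F U (_ • t) = _ • PrinPart.dP f n F U t
  refine g1_ext fun z hz => ?_
  rw [g1_dP_smul, g1_smul, r1_eq_r2_base]

theorem kills_dP (F : X.Modules) (U : X.Opens) :
    Kills Γ(X, U) (n + 1) (PrinPart.dP f n F U : Γ(F, U) →+ Γ(PrinPart.PMod f n F, U)) := by
  refine (kills_iff_psi (A := ℤ) _ _ (isLin_int _)).2 fun a => AddMonoidHom.ext fun t => g1_ext fun z hz => ?_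
  let γ : Γ(X, U) →+* X.presheaf.stalk (PrinPart.pr1 f n z) := (X.presheaf.germ U _ hz).hom
  let θ : Γ(X, U) ⊗[ℤ] Γ(X, U) →+* (PrinPart.nbhd f n).presheaf.stalk z :=
    (Algebra.TensorProduct.lift ((r1 f n z).comp γ).toIntAlgHom ((r2 f n z).comp γ).toIntAlgHom
      fun _ _ => Commute.all _ _).toRingHom
  have key : ∀ τ, g1 F z hz (psi (PrinPart.dP f n F U) (isLin_int _) τ t) =
      θ τ • g1 F z hz (PrinPart.dP f n F U t) := by
    intro τ
    induction τ with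
    | zero => simp
    | add p q hp hq => simp only [map_add, AddMonoidHom.add_apply, hp, hq, add_smul]
    | tmul p q =>
      rw [psi_tmul, g1_smul, g1_dP_smul, smul_smul]
      congr 1
  rw [key, map_prod]
  have : ∀ i, θ (1 ⊗ₜ a i - a i ⊗ₜ 1) =
      r2 f n z (X.presheaf.germ U _ hz (a i)) - r1 f n z (X.presheaf.germ U _ hz (a i)) := fun i => by
    rw [map_sub]
    show Algebra.TensorProduct.lift _ _ _ _ - Algebra.TensorProduct.lift _ _ _ _ = _
    rw [Algebra.TensorProduct.lift_tmul, Algebra.TensorProduct.lift_tmul, map_one, map_one, one_mul, mul_one]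
    rfl
  rw [Finset.prod_congr rfl fun i _ => this i, prod_sub_eq_zero, zero_smul, AddMonoidHom.zero_apply, map_zero]

theorem isDO_dP (F : X.Modules) : IsDO f n (PrinPart.dPHom f n F) :=
  ⟨slin_dP f n F, kills_dP f n F⟩

variable {f n}

theorem kills_one_hom {U : X.Opens} (u : F ⟶ G) :
    Kills Γ(X, U) 1 ((u.app U).hom : Γ(F, U) →+ Γ(G, U)) := fun a => AddMonoidHom.ext fun t => by
  show u.app U (a • t) - a • u.app U t = 0
  rw [Scheme.Modules.Hom.app_smul, sub_self]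

theorem isDO_of_isDiffOpLE {D : F.presheaf ⟶ G.presheaf} (h : PrinPart.IsDiffOpLE f F G n D) :
    IsDO f n D := by
  obtain ⟨u, hu⟩ := h
  refine ⟨fun V s U hU t => ?_, fun U => ?_⟩
  · rw [hu, hu, ← Scheme.Modules.Hom.app_smul]
    exact congrArg _ (slin_dP f n F V s U hU t)
  · have e : ((D.app (op U)).hom : Γ(F, U) →+ Γ(G, U)) =
        (u.app U).hom.comp (PrinPart.dP f n F U) := AddMonoidHom.ext fun t => hu U t
    rw [e]
    exact kills_comp 0 (n + 1) (kills_dP f n F U) (kills_one_hom u)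

theorem isDiffOpLE_iff (D : F.presheaf ⟶ G.presheaf) :
    PrinPart.IsDiffOpLE f F G n D ↔ IsDO f n D :=
  ⟨isDO_of_isDiffOpLE, isDiffOpLE_of_isDO⟩

theorem IsDO.comp {n' : ℕ} {D : F.presheaf ⟶ G.presheaf} {E : G.presheaf ⟶ H.presheaf}
    (hD : IsDO f n D) (hE : IsDO f n' E) : IsDO f (n + n') (D ≫ E) := by
  refine ⟨fun V s U hU t => ?_, fun U => ?_⟩
  · show E.app (op U) (D.app (op U) _) = _ • E.app (op U) (D.app (op U) t)
    rw [hD.1 V s U hU t, hE.1 V s U hU]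
  · have := kills_comp n' (n + 1) (hD.2 U) (hE.2 U)
    rw [show n + n' + 1 = n + 1 + n' by omega]
    exact this

end Groth.Agent.PP38
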