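import Groth.Agent.PP38.Struct
import Groth.Agent.PP38.Ops
import Groth.Agent.PPLib.BaseChange
import Groth.Agent.QCoh.Stalk
import Groth.Agent.QCoh.VanIdeal
import Groth.Agent.KFlatLib.Scheme.Exact
import Mathlib

/-! Principal parts commute with base change. -/

set_option autoImplicit false
set_option linter.style.haveILetI false

noncomputable section

universe u

open CategoryTheory CategoryTheory.Limits AlgebraicGeometry TopologicalSpace Opposite
open scoped TensorProduct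

namespace Groth.Agent.PP38

/-- a map of quasi-coherent modules bijective on an affine open around every point is an isomorphism -/
theorem isIso_of_affine_nhds {X : Scheme.{u}} {M N : X.Modules} (hM : Coh.IsQCoh M) (hN : Coh.IsQCoh N)
    (φ : M ⟶ N) (h : ∀ x : X, ∃ W : X.Opens, IsAffineOpen W ∧ x ∈ W ∧ Function.Bijective (φ.app W)) :
    IsIso φ := by
  refine KFlatLib.isIso_of_stalk φ fun x => ?_
  obtain ⟨W, hW, hx, hb⟩ := h x
  letI := QCoh.stalkModule M hx
  letI := QCoh.stalkModule N hx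
  haveI hlM := QCoh.isLocalizedModule_germLin hM hW hx
  haveI hlN := QCoh.isLocalizedModule_germLin hN hW hx
  let S := (hW.primeIdealOf ⟨x, hx⟩).asIdeal.primeCompl
  let F : M.presheaf.stalk x → N.presheaf.stalk x := fun m => (DerSch.stalkFunctor X x).map φ m
  have hF : ∀ m : Γ(M, W), F (QCoh.germLin M hx m) = QCoh.germLin N hx (φ.app W m) :=
    fun m => DerSch.stalkFunctor_map_germ x φ W hx m
  have hFs : ∀ (s : S) (m : M.presheaf.stalk x), F (s • m) = s • F m := fun s m =>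
    map_smul ((DerSch.stalkFunctor X x).map φ).hom (X.presheaf.germ W x hx (s : Γ(X, W))) m
  refine (ConcreteCategory.isIso_iff_bijective _).2 ⟨(injective_iff_map_eq_zero _).2 fun (m : M.presheaf.stalk x) hm => ?_, fun n => ?_⟩
  · obtain ⟨⟨m₀, s⟩, hs⟩ := IsLocalizedModule.surj S (QCoh.germLin M hx) m
    have hm' : F m = 0 := hm
    have hs' : QCoh.germLin M hx m₀ = s • m := hs.symm
    have h1 : QCoh.germLin N hx (φ.app W m₀) = 0 := by
      rw [← hF, hs', hFs, hm', smul_zero]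
    obtain ⟨c, hc⟩ := (IsLocalizedModule.eq_zero_iff S (QCoh.germLin N hx)).1 h1
    have h2 : c • m₀ = 0 := hb.1 (by
      rw [map_zero, Submonoid.smul_def, Scheme.Modules.Hom.app_smul]
      exact hc)
    have h3 : QCoh.germLin M hx m₀ = 0 := (IsLocalizedModule.eq_zero_iff S (QCoh.germLin M hx)).2 ⟨c, h2⟩
    rw [hs'] at h3
    exact IsLocalizedModule.smul_injective (QCoh.germLin M hx) s (h3.trans (smul_zero s).symm)
  · change N.presheaf.stalk x at n
    obtain ⟨⟨n₀, s⟩, hs⟩ := IsLocalizedModule.surj S (QCoh.germLin N hx) n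
    obtain ⟨m₀, rfl⟩ := hb.2 n₀
    let m' : M.presheaf.stalk x := IsLocalizedModule.mk' (QCoh.germLin M hx) m₀ s
    have hsm : s • m' = QCoh.germLin M hx m₀ := IsLocalizedModule.mk'_cancel' _ _ _
    refine ⟨m', IsLocalizedModule.smul_injective (QCoh.germLin N hx) s ?_⟩
    show s • F m' = s • n
    rw [← hFs, hsm, hF]
    exact hs.symm

variable {X S : Scheme.{u}} (f : X ⟶ S) (n : ℕ)

/-- the sections of `P^n` on a chart are the principal parts of the rings -/
theorem exists_chart_P (V : S.affineOpens) (U : X.affineOpens) (e : U.1 ≤ f ⁻¹ᵁ V.1)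
    [Algebra Γ(S, V.1) Γ(X, U.1)] (halg : algebraMap Γ(S, V.1) Γ(X, U.1) = (f.appLE V.1 U.1 e).hom) :
    ∃ Φ : PP16.P n Γ(S, V.1) Γ(X, U.1) ≃+ Γ(PrinPart.P f n, U.1),
      (∀ (b : Γ(X, U.1)) p, Φ (b • p) = b • Φ p) ∧
      ∀ b : Γ(X, U.1), Φ (PP16.dn n Γ(S, V.1) Γ(X, U.1) b) = PrinPart.dn f n U.1 b := by
  let Z := PrinPart.pr1 f n ⁻¹ᵁ U.1
  let B := Γ(X, U.1)
  letI algZ : Algebra B Γ(PrinPart.nbhd f n, Z) :=
    ((PrinPart.pr2 f n).appLE U.1 Z (PrinPart.preimage_pr1 f n U.1).le).hom.toAlgebra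
  obtain ⟨E, hE, hEl, hE1⟩ := exists_sections_equiv f n V U e halg (Coh.structureModule X)
    QCoh.isQCoh_structureModule
  obtain ⟨-, ψ, hsurj, hker, hl, hr⟩ := PPSheaf.exists_chart f V U e n halg
  let ψq : PP16.P n Γ(S, V.1) B ≃+* Γ(PrinPart.nbhd f n, Z) :=
    (Ideal.quotEquivOfEq hker.symm).trans (RingHom.quotientKerEquivOfSurjective hsurj)
  have hψq : ∀ t, ψq (Ideal.Quotient.mk _ t) = ψ t := fun t => by
    show RingHom.quotientKerEquivOfSurjective hsurj (Ideal.quotEquivOfEq hker.symm (Ideal.Quotient.mk _ t)) = _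
    rw [Ideal.quotEquivOfEq_mk, RingHom.quotientKerEquivOfSurjective_apply_mk]
  let fl : Γ(Coh.structureModule X, U.1) ≃ₗ[B] B :=
    { toFun := OmegaSh.fnSect X U.1
      map_add' := map_add _
      map_smul' := fun _ _ => rfl
      invFun := OmegaSh.strSect X U.1
      left_inv := fun _ => rfl
      right_inv := fun _ => rfl }
  let R₀ : Γ(PrinPart.nbhd f n, Z) ⊗[B] Γ(Coh.structureModule X, U.1) ≃ₗ[B] Γ(PrinPart.nbhd f n, Z) :=
    (TensorProduct.congr (LinearEquiv.refl B Γ(PrinPart.nbhd f n, Z)) fl).trans (TensorProduct.rid B Γ(PrinPart.nbhd f n, Z))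
  have hR₀ : ∀ z, R₀.symm z = z ⊗ₜ[B] OmegaSh.strSect X U.1 1 := fun z => by
    rw [LinearEquiv.symm_apply_eq]
    exact (one_smul B z).symm
  let Φ : PP16.P n Γ(S, V.1) B ≃+ Γ(PrinPart.P f n, U.1) :=
    ψq.toAddEquiv.trans (R₀.symm.toAddEquiv.trans (AddEquiv.ofBijective E hE))
  have hΦ : ∀ p, Φ p = E (ψq p ⊗ₜ[B] OmegaSh.strSect X U.1 1) := fun p => congrArg E (hR₀ (ψq p))
  refine ⟨Φ, fun b p => ?_, fun b => ?_⟩
  · rw [hΦ, hΦ, ← hEl]
    congr 1
    rw [Algebra.smul_def, map_mul, show ψq (algebraMap B _ b) = (PrinPart.pr1 f n).app U.1 b from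
      (hψq _).trans (hl b), ← smul_eq_mul, ← TensorProduct.smul_tmul']
  · rw [hΦ, show ψq (PP16.dn n Γ(S, V.1) B b) =
      algebraMap B Γ(PrinPart.nbhd f n, Z) b from (hψq _).trans (hr b),
      Algebra.algebraMap_eq_smul_one, TensorProduct.smul_tmul, hE1]
    show PrinPart.dP f n _ U.1 _ = PrinPart.dP f n _ U.1 _
    congr 1
    exact mul_one b

set_option maxHeartbeats 1000000 in
set_option synthInstance.maxHeartbeats 100000 in
theorem isIso_pMap {S' X' : Scheme.{u}} (g : S' ⟶ S) (u : X' ⟶ X) (f' : X' ⟶ S')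
    (hsq : IsPullback u f' f g)
    (φ : (Scheme.Modules.pullback u).obj (PrinPart.P f n) ⟶ PrinPart.P f' n)
    (hφ : PrinPart.IsPMap f f' u n φ) : IsIso φ := by
  have hP : Coh.IsQCoh (PrinPart.P f n) := isQCoh_PMod f n _ QCoh.isQCoh_structureModule
  refine isIso_of_affine_nhds (QCoh.isQCoh_pullback u hP)
    (isQCoh_PMod f' n _ QCoh.isQCoh_structureModule) φ fun x => ?_
  obtain ⟨V, U, hxU, e⟩ := PPSheaf.exists_affine_pair f (u x)
  have hxV : g (f' x) ∈ V.1 := by
    rw [show g (f' x) = f (u x) from congr($(hsq.w.symm) x)]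
    exact e hxU
  obtain ⟨V', hV', hxV', hle⟩ := exists_isAffineOpen_mem_and_subset (x := f' x) (U := g ⁻¹ᵁ V.1) hxV
  let W : X'.Opens := u ⁻¹ᵁ U.1 ⊓ f' ⁻¹ᵁ V'
  have hiso := isIso_pushoutSection_of_isAffineOpen hsq (UY := W) (show V' ≤ g ⁻¹ᵁ V.1 from hle) e rfl V.2 hV' U.2
  have hpo := (isIso_pushoutSection_iff hsq (show V' ≤ g ⁻¹ᵁ V.1 from hle) e (UY := W) rfl).1 hiso
  have hW : IsAffineOpen W := by
    haveI : IsAffine _ := V.2
    haveI : IsAffine _ := hV'
    haveI : IsAffine _ := U.2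
    exact .of_isIso (Scheme.Hom.isPullback_resLE hsq (show V' ≤ g ⁻¹ᵁ V.1 from hle) e (UY := W) rfl).isoPullback.hom
  refine ⟨W, hW, ⟨hxU, hxV'⟩, ?_⟩
  let A := Γ(S, V.1)
  let B := Γ(X, U.1)
  let A' := Γ(S', V')
  let B' := Γ(X', W)
  letI : Algebra A B := (f.appLE V.1 U.1 e).hom.toAlgebra
  letI : Algebra A A' := (g.appLE V.1 V' hle).hom.toAlgebra
  letI : Algebra A' B' := (f'.appLE V' W inf_le_right).hom.toAlgebra
  letI : Algebra B B' := (u.appLE U.1 W inf_le_left).hom.toAlgebra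
  letI : Algebra A B' := (g.appLE V.1 V' hle ≫ f'.appLE V' W inf_le_right).hom.toAlgebra
  haveI : IsScalarTower A A' B' := .of_algebraMap_eq fun _ => rfl
  haveI : IsScalarTower A B B' := .of_algebraMap_eq fun r => congr($(hpo.w.symm) r)
  haveI : Algebra.IsPushout A B A' B' :=
    (CommRingCat.isPushout_iff_isPushout (R := A) (R' := B) (S := A') (S' := B')).1 (by
      exact hpo)
  letI := PP16.mapAlgebra n A B A' B'
  haveI := PP16.isScalarTower_mapAlgebra n A B A' B'
  haveI hpoP : Algebra.IsPushout B (PP16.P n A B) B' (PP16.P n A' B') := PPLib.isPushout_P n A B A' B'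
  let κ : PP16.P n A B →ₗ[B] PP16.P n A' B' :=
    (IsScalarTower.toAlgHom B (PP16.P n A B) (PP16.P n A' B')).toLinearMap
  have hκ : IsBaseChange B' κ := hpoP.symm.out
  obtain ⟨Φ, hΦs, hΦd⟩ := exists_chart_P f n V U e rfl
  obtain ⟨Φ', hΦ's, hΦ'd⟩ := exists_chart_P f' n ⟨V', hV'⟩ ⟨W, hW⟩ inf_le_right rfl
  let M := (Scheme.Modules.pullback u).obj (PrinPart.P f n)
  letI : Module B Γ(M, W) := Module.compHom _ (u.appLE U.1 W inf_le_left).hom
  haveI : IsScalarTower B B' Γ(M, W) := IsScalarTower.of_algebraMap_smul fun _ _ => rfl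
  let l : Γ(PrinPart.P f n, U.1) →ₗ[B] Γ(M, W) :=
    { toFun := QCoh.pullSec u (PrinPart.P f n) inf_le_left
      map_add' := QCoh.pullSec_add u _ inf_le_left
      map_smul' := QCoh.pullSec_smul u _ inf_le_left }
  have hl : IsBaseChange B' l := QCoh.isBaseChange_pullback U.2 u hW hP inf_le_left (fun _ => rfl) l (fun _ => rfl)
  have hkey : ∀ p, φ.app W (l (Φ p)) = Φ' (κ p) := by
    intro p
    have hp : p ∈ Submodule.span B (Set.range (PP16.dn n A B)) := by
      rw [PPLib.span_range_dn]; trivial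
    induction hp using Submodule.span_induction with
    | mem p hp =>
        obtain ⟨b, rfl⟩ := hp
        rw [hΦd]
        show φ.app W (QCoh.pullSec u _ inf_le_left (PrinPart.dn f n U.1 b)) =
          Φ' (PP16.map n A B A' B' (PP16.dn n A B b))
        rw [PP16.map_dn, hΦ'd]
        show φ.app W (M.presheaf.map (homOfLE _).op (OmegaSh.pullSect u (PrinPart.P f n) U.1 _)) =
          PrinPart.dn f' n W (u.appLE U.1 W inf_le_left b)
        rw [Nrm6.hom_app_res, hφ U.1 b]
        exact (PrinPart.dP_map f' n (Coh.structureModule X') inf_le_left _).symm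
    | zero => simp only [map_zero]
    | add p q _ _ hp hq => simp only [map_add, hp, hq]
    | smul b p _ hp =>
        rw [hΦs, l.map_smul, κ.map_smul, ← algebraMap_smul B' b (l (Φ p)), Scheme.Modules.Hom.app_smul, hp,
          ← algebraMap_smul B' b (κ p), hΦ's]
  let Φs : Γ(PrinPart.P f n, U.1) ≃ₗ[B] PP16.P n A B :=
    { Φ.symm with
      map_smul' := fun b q => Φ.injective (by
        show Φ (Φ.symm (b • q)) = Φ (b • Φ.symm q)
        rw [hΦs, Φ.apply_symm_apply, Φ.apply_symm_apply]) }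
  let Ω := (LinearEquiv.lTensor B' Φs).toAddEquiv.trans (hκ.equiv.toAddEquiv.trans Φ')
  have hfac : ∀ t, φ.app W (hl.equiv t) = Ω t := by
    intro t
    induction t using TensorProduct.induction_on with
    | zero => exact ((congrArg (φ.app W) hl.equiv.map_zero).trans (map_zero (φ.app W).hom)).trans Ω.map_zero.symm
    | add t t' h h' =>
        exact (((congrArg (φ.app W) (hl.equiv.map_add t t')).trans (map_add (φ.app W).hom _ _)).trans
          (congrArg₂ (· + ·) h h')).trans (Ω.map_add t t').symm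
    | tmul c q =>
        show φ.app W (hl.equiv (c ⊗ₜ q)) = Φ' (hκ.equiv (c ⊗ₜ Φ.symm q))
        rw [hl.equiv_tmul, hκ.equiv_tmul, Scheme.Modules.Hom.app_smul, hΦ's, ← hkey, Φ.apply_symm_apply]
  have hb : Function.Bijective (φ.app W ∘ hl.equiv) := by
    rw [show ⇑(φ.app W) ∘ ⇑hl.equiv = ⇑Ω from funext hfac]
    exact Ω.bijective
  exact (Function.Bijective.of_comp_iff (φ.app W) hl.equiv.bijective).1 hb

end Groth.Agent.PP38
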