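import Groth.Prelude.Def_Omega3
import Mathlib

/-! Pullback along the identity, on sections. -/

set_option autoImplicit false

universe u

open CategoryTheory CategoryTheory.Limits AlgebraicGeometry TopologicalSpace Opposite

namespace Groth.Agent.PP38

theorem unit_pullbackId_hom {X : Scheme.{u}} (M : X.Modules) :
    (Scheme.Modules.pullbackPushforwardAdjunction (𝟙 X)).unit.app M ≫
      (Scheme.Modules.pushforward (𝟙 X)).map ((Scheme.Modules.pullbackId X).hom.app M) =
    (Scheme.Modules.pushforwardId X).inv.app M := by
  have h := NatTrans.congr_app (Scheme.Modules.conjugateEquiv_pullbackId_hom X) M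
  rw [conjugateEquiv_apply_app] at h
  refine Eq.trans ?_ h
  congr 1

theorem unit_eq {X : Scheme.{u}} (M : X.Modules) :
    (Scheme.Modules.pullbackPushforwardAdjunction (𝟙 X)).unit.app M =
    (Scheme.Modules.pushforwardId X).inv.app M ≫
      (Scheme.Modules.pushforward (𝟙 X)).map ((Scheme.Modules.pullbackId X).inv.app M) := by
  rw [← unit_pullbackId_hom, Category.assoc, ← Functor.map_comp, Iso.hom_inv_id_app,
    CategoryTheory.Functor.map_id]
  exact (Category.comp_id _).symm

theorem app_map_one {X : Scheme.{u}} {M N : X.Modules} (φ : M ⟶ N) (U : X.Opens) (s : Γ(M, U)) :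
    ((Scheme.Modules.pushforward (𝟙 X)).map φ).app U s = φ.app U s := rfl

theorem pushforwardId_inv_apply {X : Scheme.{u}} (M : X.Modules) (U : X.Opens) (s : Γ(M, U)) :
    ((Scheme.Modules.pushforwardId X).inv.app M).app U s = s := rfl

theorem pullbackId_inv_app {X : Scheme.{u}} (M : X.Modules) (U : X.Opens) (s : Γ(M, U)) :
    ((Scheme.Modules.pullbackId X).inv.app M).app U s = OmegaSh.pullSect (𝟙 X) M U s := by
  unfold OmegaSh.pullSect
  rw [unit_eq]
  rw [Scheme.Modules.Hom.comp_app]
  exact ((app_map_one _ U _).trans
    (congrArg (((Scheme.Modules.pullbackId X).inv.app M).app U) (pushforwardId_inv_apply M U s))).symm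

end Groth.Agent.PP38
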