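import Groth.Agent.PP38.QRegIdeal
import Mathlib

/-! An ideal with projective conormal module and bijective graded map is locally quasi-regular. -/

set_option autoImplicit false
set_option linter.style.haveILetI false

noncomputable section

universe u

open MvPolynomial PP16 Groth.Agent.PPLib
open Groth.Agent.Synt29.QRDescent (map_span_range)

namespace Groth.Agent.PP38.QRegIdeal

/-- A finite projective module is, near a prime, free up to powers of an element. -/
theorem exists_localBasis {S C : Type u} [CommRing S] [AddCommGroup C] [Module S C] [Module.Finite S C]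
    [Module.Projective S C] (p : Ideal S) [p.IsPrime] :
    ∃ (a : S) (n : ℕ) (x : Fin n → C) (lam : C →ₗ[S] Fin n →₀ S), a ∉ p ∧
      (∀ j, lam (x j) = Finsupp.single j a) ∧ ∀ c, Finsupp.linearCombination S x (lam c) = a • c := by
  classical
  haveI : Module.FinitePresentation S C := Module.finitePresentation_of_projective S C
  let Sp := Localization.AtPrime p
  let Cp := LocalizedModule p.primeCompl C
  haveI : Module.Free Sp Cp := by
    have h : (⟨p, inferInstance⟩ : PrimeSpectrum S) ∈ Module.freeLocus S C := by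
      rw [Module.freeLocus_eq_univ]; trivial
    exact Module.mem_freeLocus.1 h
  let n := Module.finrank Sp Cp
  obtain ⟨g, hgp, b', -⟩ := Module.FinitePresentation.exists_basis_localizedModule_powers p.primeCompl
    (LocalizedModule.mkLinearMap p.primeCompl C) Sp (Module.finBasis Sp Cp)
  let Sg := Localization (Submonoid.powers g)
  let mk := LocalizedModule.mkLinearMap (Submonoid.powers g) C
  let F : (Fin n →₀ S) →ₗ[S] (Fin n →₀ Sg) := Finsupp.mapRange.linearMap (Algebra.linearMap S Sg)
  let co : C →ₗ[S] (Fin n →₀ Sg) := (b'.repr.toLinearMap.restrictScalars S).comp mk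
  obtain ⟨lam₀, ⟨_, a₀, rfl⟩, hlam₀⟩ :=
    Module.FinitePresentation.exists_lift_of_isLocalizedModule (Submonoid.powers g) F co
  have hlam₀' : ∀ c, F (lam₀ c) = g ^ a₀ • b'.repr (mk c) := fun c => LinearMap.congr_fun hlam₀ c
  have hx₀ : ∀ j, ∃ (k : ℕ) (x : C), mk x = g ^ k • b' j := fun j => by
    obtain ⟨⟨x, ⟨_, k, rfl⟩⟩, hx⟩ := IsLocalizedModule.surj (Submonoid.powers g) mk (b' j)
    exact ⟨k, x, hx.symm⟩
  choose k x₀ hx₀ using hx₀
  let K := ∑ j, k j
  let x : Fin n → C := fun j => g ^ (K - k j) • x₀ j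
  have hx : ∀ j, mk (x j) = g ^ K • b' j := fun j => by
    rw [map_smul, hx₀, smul_smul, ← pow_add,
      Nat.sub_add_cancel (Finset.single_le_sum (f := k) (fun i _ => Nat.zero_le _) (Finset.mem_univ j))]
  have hrepr : ∀ (c : S) y, b'.repr (c • y) = c • b'.repr y := fun c y =>
    LinearMap.map_smul_of_tower b'.repr.toLinearMap c y
  have hrepr' : ∀ (c : S) y, b'.repr.symm (c • y) = c • b'.repr.symm y := fun c y =>
    LinearMap.map_smul_of_tower b'.repr.symm.toLinearMap c y
  have hF1 : ∀ j, F (Finsupp.single j 1) = Finsupp.single j 1 := fun j => by simp [F]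
  have h1 : ∀ j, ∃ l : ℕ, g ^ l • lam₀ (x j) = g ^ l • g ^ (a₀ + K) • Finsupp.single j (1 : S) := fun j => by
    have : F (lam₀ (x j)) = F (g ^ (a₀ + K) • Finsupp.single j 1) := by
      rw [hlam₀', hx, hrepr, b'.repr_self, map_smul, hF1, pow_add, mul_smul]
    obtain ⟨⟨_, l, rfl⟩, hl⟩ := IsLocalizedModule.exists_of_eq (S := Submonoid.powers g) this
    exact ⟨l, hl⟩
  choose l hl using h1
  let L := ∑ j, l j
  let lam₁ := g ^ L • lam₀
  have h2 : ∀ j, lam₁ (x j) = Finsupp.single j (g ^ (L + (a₀ + K))) := fun j => by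
    show g ^ L • lam₀ (x j) = _
    rw [show L = (∑ i ∈ Finset.univ.erase j, l i) + l j from (Finset.sum_erase_add _ _ (Finset.mem_univ j)).symm,
      pow_add, mul_smul, hl, smul_smul, ← mul_smul, ← pow_add, ← pow_add, Finsupp.smul_single, smul_eq_mul, mul_one]
  have h3 : ∀ c, mk (Finsupp.linearCombination S x (lam₁ c)) = mk (g ^ (L + (a₀ + K)) • c) := by
    intro c
    have hψ : ∀ v : Fin n →₀ S, mk (Finsupp.linearCombination S x v) = g ^ K • b'.repr.symm (F v) := fun v => by
      induction v using Finsupp.induction_linear with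
      | zero => simp
      | add a b ha hb => simp only [map_add, ha, hb, smul_add]
      | single j s =>
        rw [← Finsupp.smul_single_one, map_smul, map_smul, map_smul, Finsupp.linearCombination_single, one_smul,
          hx, hF1, hrepr', Module.Basis.repr_symm_single_one, smul_comm]
    show mk (Finsupp.linearCombination S x (g ^ L • lam₀ c)) = _
    rw [map_smul, map_smul, hψ, hlam₀', hrepr', LinearEquiv.symm_apply_apply, map_smul, smul_smul, smul_smul]
    congr 1
    rw [← pow_add, ← pow_add]
    congr 1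
    omega
  have h4 : ∀ c, ∃ t : ℕ, g ^ t • Finsupp.linearCombination S x (lam₁ c) = g ^ t • g ^ (L + (a₀ + K)) • c := fun c => by
    obtain ⟨⟨_, t, rfl⟩, ht⟩ := IsLocalizedModule.exists_of_eq (S := Submonoid.powers g) (h3 c)
    exact ⟨t, ht⟩
  obtain ⟨m, gen, hgen⟩ := Module.Finite.exists_fin (R := S) (M := C)
  choose t ht using fun i => h4 (gen i)
  let T := ∑ i, t i
  refine ⟨g ^ (T + (L + (a₀ + K))), n, x, g ^ T • lam₁,
    fun h => hgp (Ideal.IsPrime.mem_of_pow_mem inferInstance _ h), fun j => ?_, fun c => ?_⟩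
  · show g ^ T • lam₁ (x j) = _
    rw [h2, Finsupp.smul_single, smul_eq_mul, ← pow_add]
  · have : (Finsupp.linearCombination S x).comp (g ^ T • lam₁) = g ^ (T + (L + (a₀ + K))) • LinearMap.id := by
      refine LinearMap.ext_on_range hgen fun i => ?_
      show Finsupp.linearCombination S x (g ^ T • lam₁ (gen i)) = g ^ (T + (L + (a₀ + K))) • gen i
      rw [map_smul, show T = (∑ r ∈ Finset.univ.erase i, t r) + t i from (Finset.sum_erase_add _ _ (Finset.mem_univ i)).symm,
        pow_add, mul_smul, ht, smul_smul, smul_smul, ← pow_add, ← pow_add, ← add_assoc]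
    exact LinearMap.congr_fun this c

variable {R : Type u} [CommRing R] {J : Ideal R}

theorem isLQR_of_projective_symGr (hfg : J.FG) [Module.Projective (R ⧸ J) J.Cotangent]
    (hgr : SymGrBijective R J) : IsLocallyQuasiRegular R J := by
  classical
  intro P _ hJP
  obtain ⟨s, f, hf⟩ := exists_generators hfg
  haveI : Module.Finite (R ⧸ J) J.Cotangent := by
    refine Module.Finite.of_surjective (Fintype.linearCombination (R ⧸ J) fun i : Fin s => J.toCotangent (f i)) fun t => ?_
    obtain ⟨x, rfl⟩ := J.toCotangent_surjective t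
    obtain ⟨c, rfl⟩ := hf x
    refine ⟨fun i => Ideal.Quotient.mk J (c i), ?_⟩
    rw [Fintype.linearCombination_apply, map_sum]
    exact Finset.sum_congr rfl fun i _ => (map_smul J.toCotangent (c i) (f i)).symm
  let q := Ideal.Quotient.mk J
  haveI : (P.map q).IsPrime := Ideal.map_isPrime_of_surjective Ideal.Quotient.mk_surjective
    (by rw [Ideal.mk_ker]; exact hJP)
  obtain ⟨a, n, x, lam, ha, hlx, hxl⟩ := exists_localBasis (C := J.Cotangent) (P.map q)
  obtain ⟨a', ha'⟩ := Ideal.Quotient.mk_surjective a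
  have haP : a' ∉ P := fun h => ha (ha' ▸ Ideal.mem_map_of_mem q h)
  choose e he using fun j => J.toCotangent_surjective (x j)
  let E := Ideal.span (Set.range fun j => (e j : R))
  have hle : ∀ y ∈ J, a' * y ∈ E ⊔ J ^ 2 := fun y hy => by
    have h := hxl (J.toCotangent ⟨y, hy⟩)
    choose l hl using fun j => Ideal.Quotient.mk_surjective (lam (J.toCotangent ⟨y, hy⟩) j)
    have e0 : ∀ v : Fin n →₀ R ⧸ J, Finsupp.linearCombination (R ⧸ J) x v = ∑ i, v i • x i := fun v => by
      rw [Finsupp.linearCombination_apply, Finsupp.sum_fintype]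
      intro i
      exact zero_smul _ _
    rw [e0, ← ha'] at h
    simp only [← hl, ← he] at h
    have h' : J.toCotangent (∑ j, l j • e j) = J.toCotangent (a' • ⟨y, hy⟩) := by
      rw [map_sum, map_smul]
      exact (Finset.sum_congr rfl fun j _ => map_smul J.toCotangent (l j) (e j)).trans h
    rw [Ideal.toCotangent_eq] at h'
    simp only [AddSubmonoidClass.coe_finsetSum, Submodule.coe_smul, smul_eq_mul] at h'
    rw [show a' * y = ∑ j, l j * (e j : R) + -(∑ j, l j * (e j : R) - a' * y) by ring]
    exact Submodule.add_mem_sup (Ideal.sum_mem _ fun j _ => Ideal.mul_mem_left _ _ (Ideal.subset_span ⟨j, rfl⟩))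
      (neg_mem h')
  let Rp := Localization.AtPrime P
  let al := algebraMap R Rp
  have hJE : J.map al ≤ E.map al := by
    refine Submodule.le_of_le_smul_of_le_jacobson_bot (Ideal.FG.map hfg al) ((Ideal.map_mono (f := al) hJP).trans ?_) ?_
    · rw [Localization.AtPrime.map_eq_maximalIdeal]
      exact IsLocalRing.maximalIdeal_le_jacobson _
    · refine Ideal.map_le_iff_le_comap.2 fun y hy => ?_
      rw [Ideal.mem_comap, smul_eq_mul, ← Ideal.map_mul, ← Ideal.map_sup, ← sq]
      refine (Ideal.unit_mul_mem_iff_mem _ (IsLocalization.map_units Rp (⟨a', haP⟩ : P.primeCompl))).1 ?_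
      rw [← map_mul]
      exact Ideal.mem_map_of_mem _ (hle y hy)
  choose b hb hbE using fun i => (IsLocalization.algebraMap_mem_map_algebraMap_iff P.primeCompl Rp E (f i : R)).1
    (hJE (Ideal.mem_map_of_mem al (f i).2))
  let G := a' * ∏ i, b i
  have hG : G ∉ P := (inferInstance : P.IsPrime).mul_notMem haP
    (P.primeCompl.prod_mem fun i _ => hb i)
  let T := Localization.Away G
  let alT := algebraMap R T
  have huG : IsUnit (alT a') :=
    isUnit_of_dvd_unit (map_dvd alT (Dvd.intro _ rfl)) (IsLocalization.Away.algebraMap_isUnit G)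
  have hspan : Ideal.span (Set.range fun j => alT (e j : R)) = J.map alT := by
    rw [← map_span_range]
    refine le_antisymm (Ideal.map_mono (Ideal.span_le.2 (Set.range_subset_iff.2 fun j => (e j).2)))
      (Ideal.map_le_iff_le_comap.2 fun y hy => ?_)
    obtain ⟨c, hc⟩ := hf ⟨y, hy⟩
    have hy' : y = ∑ i, c i * (f i : R) := by
      have := congrArg Subtype.val hc
      simpa using this.symm
    rw [Ideal.mem_comap, hy', map_sum]
    refine Ideal.sum_mem _ fun i _ => ?_
    rw [map_mul]
    refine Ideal.mul_mem_left _ _ ((Ideal.unit_mul_mem_iff_mem _ (?_ : IsUnit (alT (b i)))).1 ?_)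
    · exact isUnit_of_dvd_unit (map_dvd alT ((Finset.dvd_prod_of_mem b (Finset.mem_univ i)).mul_left a'))
        (IsLocalization.Away.algebraMap_isUnit G)
    · rw [← map_mul]
      exact Ideal.mem_map_of_mem _ (hbE i)
  refine ⟨G, hG, n, fun j => alT (e j : R), fun m Q hQ hev d => ?_, hspan⟩
  rcases m with - | m
  · rw [MvPolynomial.totalDegree_eq_zero_iff_eq_C.1 (Nat.le_zero.1 hQ.totalDegree_le)] at hev ⊢
    rw [eval_C, zero_add, pow_one] at hev
    rw [coeff_C]
    split_ifs with hd
    · exact hev
    · exact zero_mem _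
  obtain ⟨c₀, hc₀⟩ := IsLocalization.exist_integer_multiples (Submonoid.powers G) Q.support fun d => Q.coeff d
  have hex : ∀ d, ∃ c : R, alT c = alT c₀ * Q.coeff d := fun d => by
    by_cases hd : d ∈ Q.support
    · obtain ⟨c, hc⟩ := hc₀ d hd
      exact ⟨c, hc.trans (Algebra.smul_def _ _)⟩
    · exact ⟨0, by rw [map_zero, notMem_support_iff.1 hd, mul_zero]⟩
  choose c hc using hex
  let P₁ : MvPolynomial (Fin n) R := ∑ d ∈ Q.support, monomial d (c d)
  have hP₁ : P₁.IsHomogeneous (m + 1) := IsHomogeneous.sum _ _ _ fun d hd =>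
    isHomogeneous_monomial _ (by
      have := hQ (mem_support_iff.1 hd)
      rwa [Finsupp.degree_eq_weight_one])
  have hmap : MvPolynomial.map alT P₁ = C (alT c₀) * Q := by
    conv_rhs => rw [Q.as_sum, Finset.mul_sum]
    simp only [P₁, map_sum, map_monomial, C_mul_monomial, hc]
  have h1 : alT (eval (fun j => (e j : R)) P₁) ∈ (J ^ (m + 1 + 1)).map alT := by
    rw [← QRegIdeal.eval_map_algebraMap, hmap, Ideal.map_pow, ← hspan, map_mul, eval_C]
    exact Ideal.mul_mem_left _ _ hev
  obtain ⟨t, ht, htJ⟩ := (IsLocalization.algebraMap_mem_map_algebraMap_iff (Submonoid.powers G) T _ _).1 h1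
  let ι := ULift.{u} (Fin (m + 1))
  have hcard : Fintype.card ι = m + 1 := by simp [ι]
  haveI : Nonempty ι := ⟨⟨0⟩⟩
  obtain ⟨φ, hφ, hbij⟩ := hgr ι
  obtain ⟨z, hz⟩ := QRegSym.exists_symPoly_eq (ι := ι) (P := C t * P₁) (hcard.symm ▸ hP₁.C_mul t)
  obtain ⟨hmem, hphi⟩ := QRegSym.phi_symMap J e φ hφ z
  have hzero : symMap (QRegSym.toC J e) z = 0 := by
    refine hbij.1 ((hphi.trans ?_).trans (map_zero φ).symm)
    refine (Submodule.Quotient.mk_eq_zero _).2 (Submodule.mem_comap.2 ?_)
    show eval (fun s => (e s : R)) (symPoly z) ∈ J ^ (Fintype.card ι + 1)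
    rw [hz, map_mul, eval_C, hcard]
    exact htJ
  let Λ : J.Cotangent →ₗ[R] MvPolynomial (Fin n) (R ⧸ J) := ((linForm (R := R ⧸ J)).comp lam).restrictScalars R
  let χ : SymmetricPower R ι J.Cotangent →ₗ[R] MvPolynomial (Fin n) (R ⧸ J) :=
    symLift ((MultilinearMap.mkPiAlgebra R ι _).compLinearMap fun _ => Λ) fun σ w => by
      simp only [MultilinearMap.compLinearMap_apply, MultilinearMap.mkPiAlgebra_apply]
      exact Equiv.prod_comp σ fun i => Λ (w i)
  have hΛ : ∀ v, Λ (QRegSym.toC J e v) = C a * MvPolynomial.map q (linForm v) := fun v => by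
    induction v using Finsupp.induction_linear with
    | zero => simp
    | add u w hu hw => simp only [map_add, hu, hw, mul_add]
    | single j r =>
      rw [QRegSym.toC, Finsupp.linearCombination_single, map_smul, linForm_single,
        show Λ (J.toCotangent (e j)) = linForm (lam (J.toCotangent (e j))) from rfl, he, hlx, linForm_single,
        MvPolynomial.smul_eq_C_mul, MvPolynomial.smul_eq_C_mul, map_mul, map_C, map_X, Algebra.smul_def,
        MvPolynomial.algebraMap_apply, Ideal.Quotient.algebraMap_eq]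
      ring
  have hχ : ∀ w, χ (symMap (QRegSym.toC J e) w) = C a ^ Fintype.card ι * MvPolynomial.map q (symPoly w) := by
    intro w
    have hw : w ∈ Submodule.span R (Set.range (SymmetricPower.tprod R (ι := ι) (M := Fin n →₀ R))) :=
      SymmetricPower.span_tprod_eq_top R ι (Fin n →₀ R) ▸ Submodule.mem_top
    induction hw using Submodule.span_induction with
    | mem w hw =>
      obtain ⟨v, rfl⟩ := hw
      simp only [symMap_tprod, χ, symLift_tprod, MultilinearMap.compLinearMap_apply,
        MultilinearMap.mkPiAlgebra_apply, hΛ, symPoly_tprod, map_prod, Finset.prod_mul_distrib,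
        Finset.prod_const, Finset.card_univ]
    | zero => simp
    | add u w _ _ hu hw => simp only [map_add, hu, hw, mul_add]
    | smul r u _ hu =>
      rw [map_smul, map_smul, map_smul, hu, MvPolynomial.smul_eq_C_mul, map_mul, map_C, Algebra.smul_def,
        MvPolynomial.algebraMap_apply, Ideal.Quotient.algebraMap_eq]
      ring
  have h2 := congrArg (coeff d) ((hχ z).symm.trans (by rw [hzero, map_zero]))
  rw [← map_pow, coeff_C_mul, coeff_map, hz, coeff_C_mul, coeff_zero, ← ha', ← map_pow, ← map_mul,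
    Ideal.Quotient.eq_zero_iff_mem] at h2
  have h3 := Ideal.mem_map_of_mem alT h2
  rw [← hspan, map_mul, map_mul, map_pow, Ideal.unit_mul_mem_iff_mem _ (huG.pow _),
    Ideal.unit_mul_mem_iff_mem _ (IsLocalization.map_units T (⟨t, ht⟩ : Submonoid.powers G)),
    ← coeff_map, hmap, coeff_C_mul, Ideal.unit_mul_mem_iff_mem _ (IsLocalization.map_units T c₀)] at h3
  exact h3

end Groth.Agent.PP38.QRegIdeal
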