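import Groth.Agent.PP38.QRegSym
import Groth.Agent.Synt29.QRDescent
import Groth.Agent.MorLib.ProjLocal
import Mathlib

/-! Locally quasi-regular ideals: the conormal module and the symmetric algebra. -/

set_option autoImplicit false
set_option linter.style.haveILetI false

noncomputable section

universe u

open TensorProduct MvPolynomial PP16 Groth.Agent.PPLib
open Groth.Agent.Synt29.QRDescent (map_span_range qr_of_span_eq_top mem_of_rel)

namespace Groth.Agent.PP38.QRegIdeal

variable {R : Type u} [CommRing R] {J : Ideal R}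

theorem exists_localData (h : IsLocallyQuasiRegular R J) {s : ℕ} (f : Fin s → J) (P : Ideal R) [P.IsPrime] :
    ∃ (g : R) (r : ℕ) (e : Fin r → J) (M : Fin s → Fin r → R) (k : ℕ), g ∉ P ∧
      CAlgX.IsQuasiRegular (fun j => algebraMap R (Localization.Away g) (e j : R)) ∧
      Ideal.span (Set.range fun j => algebraMap R (Localization.Away g) (e j : R)) =
        J.map (algebraMap R (Localization.Away g)) ∧
      ∀ i, g ^ k * (f i : R) = ∑ j, M i j * (e j : R) := by
  classical
  suffices h' : ∃ (g : R) (r : ℕ) (e : Fin r → J), g ∉ P ∧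
      CAlgX.IsQuasiRegular (fun j => algebraMap R (Localization.Away g) (e j : R)) ∧
      Ideal.span (Set.range fun j => algebraMap R (Localization.Away g) (e j : R)) =
        J.map (algebraMap R (Localization.Away g)) by
    obtain ⟨g, r, e, hg, hq, hs⟩ := h'
    have hf : ∀ i, ∃ k : ℕ, g ^ k * (f i : R) ∈ Ideal.span (Set.range fun j => (e j : R)) := fun i => by
      have := Ideal.mem_map_of_mem (algebraMap R (Localization.Away g)) (f i).2
      rw [← hs, ← map_span_range, IsLocalization.algebraMap_mem_map_algebraMap_iff (Submonoid.powers g)] at this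
      obtain ⟨_, ⟨k, rfl⟩, hk⟩ := this
      exact ⟨k, hk⟩
    choose k hk using hf
    have hk' : ∀ i, ∃ M : Fin r → R, ∑ j, M j * (e j : R) = g ^ (∑ i, k i) * (f i : R) := fun i => by
      refine Ideal.mem_span_range_iff_exists_fun.1 ?_
      rw [← Finset.add_sum_erase _ k (Finset.mem_univ i), pow_add, mul_comm (g ^ k i), mul_assoc]
      exact Ideal.mul_mem_left _ _ (hk i)
    choose M hM using hk'
    exact ⟨g, r, e, M, ∑ i, k i, hg, hq, hs, fun i => (hM i).symm⟩
  by_cases hP : J ≤ P
  · obtain ⟨g, hg, r, e₀, hq, hs⟩ := h P hP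
    have hx : ∀ j, ∃ (x : J) (t : Submonoid.powers g),
        e₀ j * algebraMap R (Localization.Away g) t = algebraMap R (Localization.Away g) (x : R) := fun j => by
      obtain ⟨⟨x, t⟩, hxt⟩ := (IsLocalization.mem_map_algebraMap_iff (Submonoid.powers g) (Localization.Away g)).1
        (hs.le (Ideal.subset_span ⟨j, rfl⟩))
      exact ⟨x, t, hxt⟩
    choose x t hxt using hx
    have hspan : Ideal.span (Set.range fun j => algebraMap R (Localization.Away g) (x j : R)) =
        Ideal.span (Set.range e₀) := by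
      refine le_antisymm (Ideal.span_le.2 ?_) (Ideal.span_le.2 ?_)
      · rintro _ ⟨j, rfl⟩
        show algebraMap R (Localization.Away g) (x j : R) ∈ _
        rw [← hxt]
        exact Ideal.mul_mem_right _ _ (Ideal.subset_span ⟨j, rfl⟩)
      · rintro _ ⟨j, rfl⟩
        refine (Ideal.mul_unit_mem_iff_mem _ (IsLocalization.map_units (Localization.Away g) (t j))).1 ?_
        rw [hxt]
        exact Ideal.subset_span ⟨j, rfl⟩
    exact ⟨g, r, x, hg, LinType.isQuasiRegular_of_span_eq e₀ _ hq hspan, hspan.trans hs⟩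
  · obtain ⟨g, hgJ, hgP⟩ := SetLike.not_le_iff_exists.1 hP
    have htop : Ideal.span (Set.range fun _ : Fin 1 => algebraMap R (Localization.Away g) g) = ⊤ :=
      Ideal.eq_top_of_isUnit_mem _ (Ideal.subset_span ⟨0, rfl⟩) (IsLocalization.Away.algebraMap_isUnit g)
    refine ⟨g, 1, fun _ => ⟨g, hgJ⟩, hgP, qr_of_span_eq_top htop, htop.trans ?_⟩
    exact (Ideal.eq_top_of_isUnit_mem _ (Ideal.mem_map_of_mem _ hgJ) (IsLocalization.Away.algebraMap_isUnit g)).symm

theorem exists_generators (hfg : J.FG) : ∃ (s : ℕ) (f : Fin s → J),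
    ∀ x : J, ∃ c : Fin s → R, ∑ i, c i • f i = x := by
  obtain ⟨s, f, hf⟩ := Submodule.fg_iff_exists_fin_generating_family.1 hfg
  refine ⟨s, fun i => ⟨f i, hf.le (Submodule.subset_span ⟨i, rfl⟩)⟩, fun x => ?_⟩
  obtain ⟨c, hc⟩ := (Submodule.mem_span_range_iff_exists_fun R).1 (hf.ge x.2)
  exact ⟨c, Subtype.ext (by simpa using hc)⟩

theorem eval_map_algebraMap {T : Type u} [CommRing T] [Algebra R T] {r : ℕ} (e : Fin r → R)
    (P : MvPolynomial (Fin r) R) :
    eval (fun i => algebraMap R T (e i)) (MvPolynomial.map (algebraMap R T) P) = algebraMap R T (eval e P) := by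
  rw [eval_map, show eval₂ (algebraMap R T) (fun i => algebraMap R T (e i)) P = algebraMap R T (eval e P) from
    (eval₂_comp _ _ _).symm]

theorem symGrBijective_of_isLQR (h : IsLocallyQuasiRegular R J) : SymGrBijective R J := by
  classical
  obtain ⟨s, f, hf⟩ := exists_generators (Groth.Agent.Synt29.QRDescent.fg_of_isLocallyQuasiRegular J h)
  intro ι _ _
  obtain ⟨φ, hφ, hsur⟩ := AdicFS4.exists_gr_map J ι
  refine ⟨φ, hφ, ?_, hsur⟩
  rw [injective_iff_map_eq_zero]
  intro y hy
  have hTC : Function.Surjective (QRegSym.toC J f) := by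
    intro t
    obtain ⟨x, rfl⟩ := J.toCotangent_surjective t
    obtain ⟨c, rfl⟩ := hf x
    refine ⟨Finsupp.equivFunOnFinite.symm c, ?_⟩
    rw [QRegSym.toC, Finsupp.linearCombination_apply, Finsupp.sum_fintype, map_sum]
    · simp
    · intro i
      exact zero_smul R _
  obtain ⟨z, rfl⟩ := QRegSym.symMap_surjective (QRegSym.toC J f) hTC y
  suffices h1 : LinearMap.ker (LinearMap.toSpanSingleton R _ (symMap (ι := ι) (QRegSym.toC J f) z)) = ⊤ by
    have := h1.ge (Submodule.mem_top : (1 : R) ∈ ⊤)
    simpa using this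
  by_contra hne
  obtain ⟨P, hP, hle⟩ := Ideal.exists_le_maximal _ hne
  haveI := hP.isPrime
  obtain ⟨g, r, e, M, k, hg, hq, hs, hM⟩ := exists_localData h f P
  let Mlin : (Fin s →₀ R) →ₗ[R] (Fin r →₀ R) :=
    Finsupp.linearCombination R fun i => ∑ j, Finsupp.single j (M i j)
  have hcomp : (QRegSym.toC J e).comp Mlin = g ^ k • QRegSym.toC J f := by
    refine Finsupp.lhom_ext fun i c => ?_
    have : (∑ j, M i j • e j) = g ^ k • f i := Subtype.ext (by simp [hM])
    simp only [LinearMap.comp_apply, Mlin, Finsupp.linearCombination_single, map_smul, map_sum, QRegSym.toC,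
      LinearMap.smul_apply]
    rw [smul_comm (g ^ k) c, ← map_smul J.toCotangent (g ^ k), ← this, map_sum]
    simp
  let z' := symMap (ι := ι) Mlin z
  have hz' : symMap (QRegSym.toC J e) z' = (g ^ k) ^ Fintype.card ι • symMap (QRegSym.toC J f) z := by
    rw [QRegSym.symMap_comp, hcomp, QRegSym.symMap_smul]
    rfl
  obtain ⟨hmem, hphi⟩ := QRegSym.phi_symMap J e φ hφ z'
  rw [hz', map_smul, hy, smul_zero] at hphi
  have hev : eval (fun j => (e j : R)) (symPoly z') ∈ J ^ (Fintype.card ι + 1) :=
    Submodule.mem_comap.1 ((Submodule.Quotient.mk_eq_zero _).1 hphi.symm)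
  let T := Localization.Away g
  have hcoef : ∀ d, ∃ l : ℕ, g ^ l * (symPoly z').coeff d ∈ J := fun d => by
    have hc := hq (Fintype.card ι) _ ((QRegSym.symPoly_isHomogeneous z').map (algebraMap R T)) (by
      rw [hs, ← Ideal.map_pow, eval_map_algebraMap]
      exact Ideal.mem_map_of_mem _ hev) d
    rw [hs, coeff_map, IsLocalization.algebraMap_mem_map_algebraMap_iff (Submonoid.powers g)] at hc
    obtain ⟨_, ⟨l, rfl⟩, hl⟩ := hc
    exact ⟨l, hl⟩
  choose l hl using hcoef
  let L := ∑ d ∈ (symPoly z').support, l d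
  have hzero : symMap (QRegSym.toC J e) (g ^ L • z') = 0 := by
    refine QRegSym.symMap_eq_zero_of_coeff_mem J _ (fun a ha t => AdicFS4.smul_tprod_eq_zero ha t) _ fun d => ?_
    rw [map_smul, coeff_smul, smul_eq_mul]
    by_cases hd : d ∈ (symPoly z').support
    · rw [show g ^ L = g ^ (∑ x ∈ (symPoly z').support.erase d, l x) * g ^ l d by
        rw [← pow_add, Finset.sum_erase_add _ _ hd], mul_assoc]
      exact Ideal.mul_mem_left _ _ (hl d)
    · rw [notMem_support_iff.1 hd, mul_zero]
      exact zero_mem _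
  refine hg (hP.isPrime.mem_of_pow_mem (L + k * Fintype.card ι) (hle ?_))
  rw [LinearMap.mem_ker, LinearMap.toSpanSingleton_apply, pow_add, mul_smul, pow_mul, ← hz', ← map_smul]
  exact hzero

/-- A map which is bijective up to powers of an element becomes bijective after inverting it. -/
theorem bijective_baseChange_away {S : Type u} [CommRing S] (g : S) {N C : Type u} [AddCommGroup N] [Module S N]
    [AddCommGroup C] [Module S C] (ψ : N →ₗ[S] C) (hs : ∀ c, ∃ (k : ℕ) (v : N), ψ v = g ^ k • c)
    (hi : ∀ v, ψ v = 0 → ∃ l : ℕ, g ^ l • v = 0) :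
    Function.Bijective (ψ.baseChange (Localization.Away g)) := by
  let T := Localization.Away g
  have key : ∀ {Q : Type u} [AddCommGroup Q] [Module S Q] (t : T) (k : ℕ) (q : Q),
      ∃ t' : T, t ⊗ₜ[S] q = t' ⊗ₜ[S] (g ^ k • q) := by
    intro Q _ _ t k q
    obtain ⟨w, hw⟩ := ((IsLocalization.Away.algebraMap_isUnit (S := T) g).pow k).exists_left_inv
    refine ⟨w * t, ?_⟩
    rw [← TensorProduct.smul_tmul, Algebra.smul_def, map_pow, ← mul_assoc,
      mul_comm (algebraMap S T g ^ k) w, hw, one_mul]
  constructor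
  · refine (injective_iff_map_eq_zero _).2 fun z hz => ?_
    obtain ⟨w, rfl⟩ := (Module.Flat.lTensor_exact T (LinearMap.exact_subtype_ker_map ψ) z).1 hz
    clear hz
    induction w with
    | zero => simp
    | add a b ha hb => rw [map_add, ha, hb, add_zero]
    | tmul t v =>
      obtain ⟨l, hl⟩ := hi v.1 v.2
      obtain ⟨t', ht'⟩ := key t l v.1
      rw [LinearMap.lTensor_tmul]
      exact ht'.trans (by rw [hl, tmul_zero])
  · intro z
    induction z with
    | zero => exact ⟨0, map_zero _⟩
    | add a b ha hb => obtain ⟨a, rfl⟩ := ha; obtain ⟨b, rfl⟩ := hb; exact ⟨a + b, map_add _ _ _⟩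
    | tmul t c =>
      obtain ⟨k, v, hv⟩ := hs c
      obtain ⟨t', ht'⟩ := key t k c
      exact ⟨t' ⊗ₜ v, by rw [LinearMap.baseChange_tmul, hv, ht']⟩

theorem projective_cotangent_of_isLQR (h : IsLocallyQuasiRegular R J) : Module.Projective (R ⧸ J) J.Cotangent := by
  classical
  obtain ⟨s, f, hf⟩ := exists_generators (Groth.Agent.Synt29.QRDescent.fg_of_isLocallyQuasiRegular J h)
  let q := Ideal.Quotient.mk J
  refine MorLib.projective_of_span J.Cotangent {g' : R ⧸ J | Module.Projective (Localization.Away g')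
    (Localization.Away g' ⊗[R ⧸ J] J.Cotangent)} ?_ fun g' => g'.2
  by_contra hne
  obtain ⟨m, hm, hle⟩ := Ideal.exists_le_maximal _ hne
  haveI := hm.isPrime
  obtain ⟨g, r, e, M, k, hg, hq, hs, hM⟩ := exists_localData h f (m.comap q)
  refine hg (hle (Ideal.subset_span ?_))
  show Module.Projective (Localization.Away (q g)) (Localization.Away (q g) ⊗[R ⧸ J] J.Cotangent)
  let ψ : (Fin r → R ⧸ J) →ₗ[R ⧸ J] J.Cotangent := Fintype.linearCombination (R ⧸ J) fun j => J.toCotangent (e j)
  have hψ : ∀ b : Fin r → R, ψ (fun j => q (b j)) = J.toCotangent (∑ j, b j • e j) := fun b => by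
    rw [map_sum]
    exact (Fintype.linearCombination_apply ..).trans
      (Finset.sum_congr rfl fun j _ => (map_smul J.toCotangent (b j) (e j)).symm)
  refine Module.Projective.of_equiv (LinearEquiv.ofBijective (ψ.baseChange (Localization.Away (q g)))
    (bijective_baseChange_away (q g) ψ (fun c => ?_) fun v hv => ?_))
  · obtain ⟨x, rfl⟩ := J.toCotangent_surjective c
    obtain ⟨c, rfl⟩ := hf x
    refine ⟨k, fun j => q (∑ i, c i * M i j), (hψ _).trans ?_⟩
    rw [← map_pow, show ((q (g ^ k) : R ⧸ J) • J.toCotangent (∑ i, c i • f i)) = g ^ k • J.toCotangent (∑ i, c i • f i) from rfl,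
      ← map_smul]
    congr 1
    refine Subtype.ext ?_
    simp only [AddSubmonoidClass.coe_finsetSum, Submodule.coe_smul, smul_eq_mul, Finset.mul_sum, Finset.sum_mul]
    rw [Finset.sum_comm]
    refine Finset.sum_congr rfl fun i _ => ?_
    rw [mul_left_comm, hM, Finset.mul_sum]
    exact Finset.sum_congr rfl fun j _ => mul_assoc _ _ _
  · choose b hb using fun j => Ideal.Quotient.mk_surjective (v j)
    obtain rfl : v = fun j => q (b j) := funext fun j => (hb j).symm
    rw [hψ, Ideal.toCotangent_eq_zero] at hv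
    let T := Localization.Away g
    have hc : ∀ j, ∃ l : ℕ, g ^ l * b j ∈ J := fun j => by
      have h1 := hq 1 (∑ i, C (algebraMap R T (b i)) * X i)
        (IsHomogeneous.sum _ _ _ fun i _ => (isHomogeneous_X T i).C_mul _) (by
          rw [hs, ← Ideal.map_pow]
          convert Ideal.mem_map_of_mem (algebraMap R T) hv using 1
          simp only [map_sum, map_mul, eval_C, eval_X, AddSubmonoidClass.coe_finsetSum, Submodule.coe_smul,
            smul_eq_mul]
          rfl) (Finsupp.single j 1)
      simp only [coeff_sum, coeff_C_mul, coeff_X', Finsupp.single_left_inj one_ne_zero, mul_ite, mul_one,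
        mul_zero, Finset.sum_ite_eq', Finset.mem_univ, if_true] at h1
      rw [hs, IsLocalization.algebraMap_mem_map_algebraMap_iff (Submonoid.powers g)] at h1
      obtain ⟨_, ⟨l, rfl⟩, hl⟩ := h1
      exact ⟨l, hl⟩
    choose l hl using hc
    refine ⟨∑ j, l j, funext fun j => ?_⟩
    show q g ^ (∑ j, l j) * q (b j) = 0
    rw [← map_pow, ← map_mul, Ideal.Quotient.eq_zero_iff_mem, ← Finset.sum_erase_add _ _ (Finset.mem_univ j),
      pow_add, mul_assoc]
    exact Ideal.mul_mem_left _ _ (hl j)

end Groth.Agent.PP38.QRegIdeal
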