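import Groth.Agent.AdicFS4.Graded
import Groth.Agent.PPLib.SymPow
import Mathlib

/-! Symmetric powers of a finite free module and homogeneous polynomials; evaluation in the graded ring of an ideal. -/

set_option autoImplicit false
set_option linter.style.haveILetI false

noncomputable section

universe u

open MvPolynomial PP16 Groth.Agent.PPLib

namespace Groth.Agent.PP38.QRegSym

variable {R : Type u} [CommRing R] {ι : Type u} [Fintype ι] {r : ℕ}

theorem exists_symPoly_leftInverse :
    ∃ Linv : MvPolynomial (Fin r) R →ₗ[R] SymmetricPower R ι (Fin r →₀ R), ∀ z, Linv (symPoly z) = z := by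
  classical
  let pick : (Fin r →₀ ℕ) → SymmetricPower R ι (Fin r →₀ R) := fun d =>
    if h : ∃ c : ι → Fin r, mult c = d then
      SymmetricPower.tprod R (fun i => Finsupp.single (h.choose i) (1 : R)) else 0
  let Linv : MvPolynomial (Fin r) R →ₗ[R] SymmetricPower R ι (Fin r →₀ R) :=
    (MvPolynomial.basisMonomials (Fin r) R).constr ℕ pick
  refine ⟨Linv, fun z => ?_⟩
  suffices h : Linv.comp (symPoly (R := R) (ι := ι) (σ := Fin r)) = LinearMap.id from LinearMap.congr_fun h z
  refine LinearMap.ext_on_range (SymmetricPower.span_tprod_eq_top R ι (Fin r →₀ R)) fun x => ?_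
  have hFG : Linv.compMultilinearMap ((MultilinearMap.mkPiAlgebra R ι (MvPolynomial (Fin r) R)).compLinearMap
      fun _ => linForm (R := R) (σ := Fin r)) = SymmetricPower.tprod R := by
    refine @multilinear_ext_span R _ ι _ (Fin r →₀ R) _ _ (SymmetricPower R ι (Fin r →₀ R)) _ _ (Fin r) (fun v : Fin r => Finsupp.single v (1 : R)) ?_ _ _ fun c => ?_
    · rw [eq_top_iff, ← (Finsupp.basisSingleOne (R := R) (ι := Fin r)).span_eq, Finsupp.coe_basisSingleOne]
    · have hc : ∃ c' : ι → Fin r, mult c' = mult c := ⟨c, rfl⟩
      simp only [LinearMap.compMultilinearMap_apply, MultilinearMap.compLinearMap_apply,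
        MultilinearMap.mkPiAlgebra_apply, linForm_single, one_smul, prod_X_eq_monomial, Linv]
      rw [show MvPolynomial.monomial (mult c) (1 : R) = MvPolynomial.basisMonomials (Fin r) R (mult c) from
        (MvPolynomial.coe_basisMonomials (σ := Fin r) (R := R) ▸ rfl), Module.Basis.constr_basis]
      simp only [pick, dif_pos hc]
      obtain ⟨e, he⟩ := exists_perm_of_mult_eq hc.choose_spec
      conv_lhs => rw [he]
      exact SymmetricPower.tprod_equiv e fun i => Finsupp.single (c i) (1 : R)
  have h1 := congrArg (fun F : MultilinearMap R (fun _ : ι => Fin r →₀ R) _ => F x) hFG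
  simpa using h1

theorem symPoly_isHomogeneous (z : SymmetricPower R ι (Fin r →₀ R)) :
    (symPoly z).IsHomogeneous (Fintype.card ι) := by
  have hz : z ∈ Submodule.span R (Set.range (SymmetricPower.tprod R (ι := ι) (M := Fin r →₀ R))) :=
    SymmetricPower.span_tprod_eq_top R ι (Fin r →₀ R) ▸ Submodule.mem_top
  induction hz using Submodule.span_induction with
  | mem w hw =>
    obtain ⟨x, rfl⟩ := hw
    rw [symPoly_tprod]
    simpa using IsHomogeneous.prod Finset.univ (fun i => linForm (x i)) (fun _ : ι => 1)
      fun i _ => linForm_isHomogeneous (x i)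
  | zero => rw [map_zero]; exact isHomogeneous_zero _ _ _
  | add a b _ _ ha hb => rw [map_add]; exact ha.add hb
  | smul c a _ ha => rw [map_smul, MvPolynomial.smul_eq_C_mul]; exact ha.C_mul c

theorem exists_symPoly_eq {P : MvPolynomial (Fin r) R} (hP : P.IsHomogeneous (Fintype.card ι)) :
    ∃ z : SymmetricPower R ι (Fin r →₀ R), symPoly z = P := by
  classical
  have h : ∀ d ∈ P.support, ∃ z : SymmetricPower R ι (Fin r →₀ R), symPoly z = monomial d (P.coeff d) := by
    intro d hd
    have hcard : Fintype.card (Σ s : d.support, Fin (d s)) = Fintype.card ι := by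
      rw [← hP (MvPolynomial.mem_support_iff.1 hd), Fintype.card_sigma, Finsupp.weight_apply]
      simp only [Fintype.card_fin, Finsupp.sum, Pi.one_apply, smul_eq_mul, mul_one]
      exact Finset.sum_coe_sort d.support fun s => d s
    let e : ι ≃ Σ s : d.support, Fin (d s) := (Fintype.equivOfCardEq hcard).symm
    refine ⟨P.coeff d • SymmetricPower.tprod R (fun i => Finsupp.single ((e i).1 : Fin r) (1 : R)), ?_⟩
    rw [map_smul, symPoly_tprod]
    simp only [linForm_single, one_smul]
    rw [e.prod_comp (fun x : Σ s : d.support, Fin (d s) => (X (x.1 : Fin r) : MvPolynomial (Fin r) R)),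
      Fintype.prod_sigma, monomial_eq, MvPolynomial.smul_eq_C_mul, Finsupp.prod, ← Finset.prod_coe_sort d.support]
    congr 1
    exact Finset.prod_congr rfl fun s _ => by simp
  choose z hz using h
  refine ⟨∑ d ∈ P.support.attach, z d.1 d.2, ?_⟩
  rw [map_sum]
  conv_rhs => rw [P.as_sum, ← Finset.sum_attach P.support fun d => monomial d (P.coeff d)]
  exact Finset.sum_congr rfl fun d _ => hz d.1 d.2

variable (J : Ideal R) (e : Fin r → J)

/-- the map from the free module to the cotangent module -/
def toC : (Fin r →₀ R) →ₗ[R] J.Cotangent := Finsupp.linearCombination R fun s => J.toCotangent (e s)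

theorem phi_symMap (φ : SymmetricPower R ι J.Cotangent →ₗ[R] grJ R J (Fintype.card ι))
    (hφ : ∀ x : ι → ↥J, φ (SymmetricPower.tprod R (fun i => J.toCotangent (x i))) = zetaJ R J x)
    (z : SymmetricPower R ι (Fin r →₀ R)) :
    ∃ h : eval (fun s => (e s : R)) (symPoly z) ∈ J ^ Fintype.card ι,
      φ (symMap (toC J e) z) = Submodule.Quotient.mk ⟨_, h⟩ := by
  have hz : z ∈ Submodule.span R (Set.range (SymmetricPower.tprod R (ι := ι) (M := Fin r →₀ R))) :=
    SymmetricPower.span_tprod_eq_top R ι (Fin r →₀ R) ▸ Submodule.mem_top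
  induction hz using Submodule.span_induction with
  | mem w hw =>
    obtain ⟨x, rfl⟩ := hw
    let L : (Fin r →₀ R) →ₗ[R] J := Finsupp.linearCombination R e
    have hL : ∀ v, eval (fun s => (e s : R)) (linForm v) = (L v : R) := fun v => by
      induction v using Finsupp.induction_linear with
      | zero => simp
      | add a b ha hb => simp [ha, hb]
      | single s c => simp [L, linForm_single]
    have hC : ∀ v, toC J e v = J.toCotangent (L v) := fun v => by
      simp only [toC, L, Finsupp.apply_linearCombination, Function.comp_def]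
    have h : eval (fun s => (e s : R)) (symPoly (SymmetricPower.tprod R x)) = ∏ i, (L (x i) : R) := by
      rw [symPoly_tprod, map_prod]
      exact Finset.prod_congr rfl fun i _ => hL (x i)
    refine ⟨h ▸ (by simpa using prod_mem_pow J Finset.univ (fun i => (L (x i) : R)) fun i _ => (L (x i)).2), ?_⟩
    rw [symMap_tprod]
    simp only [hC]
    rw [hφ fun i => L (x i), zetaJ]
    congr 1
    exact Subtype.ext h.symm
  | zero => exact ⟨by simp, by rw [map_zero, map_zero]; symm; exact (Submodule.Quotient.mk_eq_zero _).2 (by simp)⟩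
  | add a b _ _ ha hb =>
    obtain ⟨h1, e1⟩ := ha
    obtain ⟨h2, e2⟩ := hb
    refine ⟨by rw [map_add, map_add]; exact add_mem h1 h2, ?_⟩
    rw [map_add, map_add, e1, e2, ← Submodule.Quotient.mk_add]
    congr 1
    exact Subtype.ext (by simp)
  | smul c a _ ha =>
    obtain ⟨h1, e1⟩ := ha
    refine ⟨by rw [map_smul, MvPolynomial.smul_eval]; exact Ideal.mul_mem_left _ _ h1, ?_⟩
    rw [map_smul, map_smul, e1, ← Submodule.Quotient.mk_smul]
    congr 1
    exact Subtype.ext (by simp [MvPolynomial.smul_eval])

theorem symMap_eq_zero_of_coeff_mem [Nonempty ι] {N : Type u} [AddCommGroup N] [Module R N]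
    (L : (Fin r →₀ R) →ₗ[R] N) (hN : ∀ a ∈ J, ∀ t : SymmetricPower R ι N, a • t = 0)
    (z : SymmetricPower R ι (Fin r →₀ R)) (hz : ∀ d, (symPoly z).coeff d ∈ J) : symMap L z = 0 := by
  obtain ⟨Linv, hLinv⟩ := exists_symPoly_leftInverse (R := R) (ι := ι) (r := r)
  rw [← hLinv z, (symPoly z).as_sum, map_sum, map_sum]
  refine Finset.sum_eq_zero fun d _ => ?_
  rw [show monomial d ((symPoly z).coeff d) = (symPoly z).coeff d • (monomial d (1 : R)) by
    rw [MvPolynomial.smul_monomial, smul_eq_mul, mul_one], map_smul, map_smul]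
  exact hN _ (hz d) _

theorem symMap_smul {M M' : Type u} [AddCommGroup M] [Module R M] [AddCommGroup M'] [Module R M']
    (c : R) (L : M →ₗ[R] M') :
    symMap (ι := ι) (c • L) = c ^ Fintype.card ι • symMap (ι := ι) L :=
  sym_ext fun x => by
    rw [LinearMap.smul_apply, symMap_tprod, symMap_tprod]
    show SymmetricPower.tprod R (fun i => c • L (x i)) = _
    rw [MultilinearMap.map_smul_univ]
    simp

theorem symMap_comp {M M' M'' : Type u} [AddCommGroup M] [Module R M] [AddCommGroup M'] [Module R M']
    [AddCommGroup M''] [Module R M''] (L : M →ₗ[R] M') (L' : M' →ₗ[R] M'') (z : SymmetricPower R ι M) :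
    symMap L' (symMap L z) = symMap (L'.comp L) z :=
  LinearMap.congr_fun (sym_ext (f := (symMap L').comp (symMap L)) (g := symMap (L'.comp L))
    fun x => by simp) z

theorem symMap_surjective {M M' : Type u} [AddCommGroup M] [Module R M] [AddCommGroup M'] [Module R M']
    (L : M →ₗ[R] M') (hL : Function.Surjective L) : Function.Surjective (symMap (ι := ι) L) := by
  rw [← LinearMap.range_eq_top, eq_top_iff, ← SymmetricPower.span_tprod_eq_top R ι M', Submodule.span_le]
  rintro _ ⟨x, rfl⟩
  choose y hy using fun i => hL (x i)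
  exact ⟨SymmetricPower.tprod R y, by simp [hy]⟩

end Groth.Agent.PP38.QRegSym
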