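import Groth.Agent.RegLoc6.Basic
import Mathlib

/-!
# An ideal of a regular local ring cut out by elements with independent images in the cotangent space
-/

set_option autoImplicit false
set_option linter.style.haveILetI false

universe u

open IsLocalRing

namespace Groth.Agent.PP38.RegQuotIndep

variable {L : Type u} [CommRing L] [IsRegularLocalRing L]

/-- If `f` has independent images in the cotangent space, `J` contains the `f i` and `dim L/J` is at
least `dim L - c`, then `J` is generated by the `f i`. -/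
theorem eq_span_range {c h a : ℕ} (f : Fin c → maximalIdeal L)
    (hli : LinearIndependent (ResidueField L) fun i => (maximalIdeal L).toCotangent (f i))
    (J : Ideal L) (hJ : J ≠ ⊤) (hfJ : ∀ i, (f i : L) ∈ J) (hh : ringKrullDim L = h)
    (ha : ringKrullDim (L ⧸ J) = a) (hle : h ≤ a + c) :
    J = Ideal.span (Set.range fun i => (f i : L)) := by
  classical
  set J₀ : Ideal L := Ideal.span (Set.range fun i => (f i : L)) with hJ₀
  have hJ₀J : J₀ ≤ J := Ideal.span_le.2 (by rintro _ ⟨i, rfl⟩; exact hfJ i)
  have hJ₀top : J₀ ≠ ⊤ := fun e => hJ (top_le_iff.1 (e ▸ hJ₀J))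
  haveI : Nontrivial (L ⧸ J₀) := Ideal.Quotient.nontrivial_iff.2 hJ₀top
  haveI : IsLocalRing (L ⧸ J₀) := IsLocalRing.of_surjective' _ Ideal.Quotient.mk_surjective
  -- the cotangent space is spanned by the `f i` and `h - c` further elements
  let W : Submodule (ResidueField L) (CotangentSpace L) :=
    Submodule.span (ResidueField L) (Set.range fun i => (maximalIdeal L).toCotangent (f i))
  have hW : Module.finrank (ResidueField L) W = c := by
    rw [finrank_span_eq_card hli, Fintype.card_fin]
  have hcot : Module.finrank (ResidueField L) (CotangentSpace L) = h := by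
    have e := IsRegularLocalRing.spanFinrank_maximalIdeal (R := L)
    rw [hh, spanFinrank_maximalIdeal_eq_finrank_cotangentSpace] at e
    exact_mod_cast e
  let b := Module.finBasis (ResidueField L) (CotangentSpace L ⧸ W)
  have hd : Module.finrank (ResidueField L) (CotangentSpace L ⧸ W) + c = h := by
    rw [← hW, ← hcot]
    exact W.finrank_quotient_add_finrank
  have hb : ∀ j, ∃ g : maximalIdeal L, W.mkQ ((maximalIdeal L).toCotangent g) = b j := fun j => by
    obtain ⟨y, hy⟩ := W.mkQ_surjective (b j)
    obtain ⟨g, rfl⟩ := (maximalIdeal L).toCotangent_surjective y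
    exact ⟨g, hy⟩
  choose g hg using hb
  have hspan : Submodule.span L (Set.range f ∪ Set.range g) = ⊤ := by
    refine CotangentSpace.span_image_eq_top_iff.1 ?_
    rw [Set.image_union, ← Set.range_comp, ← Set.range_comp, Submodule.span_union]
    have hg' : W.mkQ ∘ ((maximalIdeal L).toCotangent ∘ g) = b := funext hg
    have h1 : (Submodule.span (ResidueField L) (Set.range ((maximalIdeal L).toCotangent ∘ g))).map W.mkQ = ⊤ := by
      rw [Submodule.map_span, ← Set.range_comp]
      rw [hg', b.span_eq]
    exact (Submodule.map_mkQ_eq_top _ _).1 h1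
  have hm : maximalIdeal (L ⧸ J₀) = Ideal.span (Set.range fun j => Ideal.Quotient.mk J₀ (g j : L)) := by
    have h' := congrArg (Submodule.map (maximalIdeal L).subtype) hspan
    rw [Submodule.map_span, Submodule.map_top, Submodule.range_subtype, Set.image_union,
      ← Set.range_comp, ← Set.range_comp] at h'
    haveI : IsLocalHom (Ideal.Quotient.mk J₀) := IsLocalHom.of_surjective _ Ideal.Quotient.mk_surjective
    rw [← IsLocalRing.map_maximalIdeal_of_surjective _ Ideal.Quotient.mk_surjective]
    refine (congrArg (Ideal.map (Ideal.Quotient.mk J₀)) h'.symm).trans ?_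
    refine (Ideal.map_span _ _).trans ?_
    rw [Set.image_union, ← Set.range_comp, ← Set.range_comp]
    refine le_antisymm (Ideal.span_le.2 ?_) (Ideal.span_mono Set.subset_union_right)
    rintro x (⟨i, rfl⟩ | ⟨j, rfl⟩)
    · have : Ideal.Quotient.mk J₀ (f i : L) = 0 :=
        Ideal.Quotient.eq_zero_iff_mem.2 (Ideal.subset_span ⟨i, rfl⟩)
      simp [this]
    · exact Ideal.subset_span ⟨j, rfl⟩
  have hgen : (maximalIdeal (L ⧸ J₀)).spanFinrank ≤ a := by
    rw [hm]
    refine (Submodule.spanFinrank_span_le_ncard_of_finite (Set.finite_range _)).trans ?_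
    refine (Set.ncard_le_ncard (t := Set.range fun j => Ideal.Quotient.mk J₀ (g j : L)) subset_rfl
      (Set.finite_range _)).trans ?_
    rw [← Nat.card_coe_set_eq]
    refine (Finite.card_range_le _).trans ?_
    simp only [Nat.card_fin]
    omega
  let π : L ⧸ J₀ →+* L ⧸ J := Ideal.Quotient.factor hJ₀J
  have hπ : Function.Surjective π := Ideal.Quotient.factor_surjective hJ₀J
  have hdim : (a : WithBot ℕ∞) ≤ ringKrullDim (L ⧸ J₀) := ha ▸ ringKrullDim_le_of_surjective π hπ
  haveI : IsRegularLocalRing (L ⧸ J₀) := IsRegularLocalRing.of_spanFinrank_maximalIdeal_le _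
    (le_trans (by exact_mod_cast hgen) hdim)
  haveI : IsDomain (L ⧸ J₀) := RegLoc6.isDomain_of_isRegularLocalRing _
  refine le_antisymm (fun x hx => ?_) hJ₀J
  by_contra hx0
  have hne : Ideal.Quotient.mk J₀ x ≠ 0 := fun e => hx0 (Ideal.Quotient.eq_zero_iff_mem.1 e)
  have h2 := ringKrullDim_quotient_succ_le_of_nonZeroDivisor (mem_nonZeroDivisors_of_ne_zero hne)
  have h3 : ringKrullDim (L ⧸ J) ≤ ringKrullDim ((L ⧸ J₀) ⧸ Ideal.span {Ideal.Quotient.mk J₀ x}) :=
    ringKrullDim_le_of_surjective (Ideal.Quotient.lift _ π fun y hy => by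
      obtain ⟨z, rfl⟩ := Ideal.mem_span_singleton.1 hy
      rw [map_mul, show π (Ideal.Quotient.mk J₀ x) = 0 from Ideal.Quotient.eq_zero_iff_mem.2 hx,
        zero_mul]) (Ideal.Quotient.lift_surjective_of_surjective _ _ hπ)
  rw [← IsRegularLocalRing.spanFinrank_maximalIdeal (R := L ⧸ J₀)] at h2
  rw [ha] at h3
  have h4 : ((a + 1 : ℕ) : WithBot ℕ∞) ≤ ((maximalIdeal (L ⧸ J₀)).spanFinrank : WithBot ℕ∞) := by
    push_cast
    exact (add_le_add_left h3 1).trans h2
  have : a + 1 ≤ (maximalIdeal (L ⧸ J₀)).spanFinrank := by exact_mod_cast h4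
  omega

end Groth.Agent.PP38.RegQuotIndep
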