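import Groth.Agent.PP38.SmoothAtFibre
import Groth.Agent.S2082
import Groth.Agent.CotTLib.CI
import Groth.Agent.CotTLib.SmoothField
import Groth.Agent.FlatLoc6.FiberRing
import Mathlib

/-!
# Flatness over a regular base from a regular fibre of the expected dimension
-/

set_option autoImplicit false
set_option linter.style.haveILetI false

universe u

open CategoryTheory AlgebraicGeometry TensorProduct IsLocalRing

namespace Groth.Agent.PP38.RegularBaseFlat

/-- Regular base, regular closed fibre and `dim S = dim R + dim S/mS` give regularity of `S`. -/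
theorem isRegularLocalRing_of_quotient {R S : Type u} [CommRing R] [CommRing S] [IsRegularLocalRing R]
    [IsLocalRing S] [IsNoetherianRing S] (φ : R →+* S) [IsLocalHom φ]
    [IsRegularLocalRing (S ⧸ (maximalIdeal R).map φ)]
    (hdim : ringKrullDim S = ringKrullDim R + ringKrullDim (S ⧸ (maximalIdeal R).map φ)) :
    IsRegularLocalRing S := by
  classical
  set J := (maximalIdeal R).map φ
  let π := Ideal.Quotient.mk J
  have hπ : Function.Surjective π := Ideal.Quotient.mk_surjective
  haveI : IsLocalHom π := IsLocalHom.of_surjective _ hπ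
  obtain ⟨TR, hTRc, hTR⟩ : ∃ T : Finset R, T.card = (maximalIdeal R).spanFinrank ∧
      Ideal.span (T : Set R) = maximalIdeal R := by
    have hfg := (maximalIdeal R).fg_of_isNoetherianRing
    have hfin := Submodule.FG.finite_generators hfg
    refine ⟨hfin.toFinset, ?_, ?_⟩
    · rw [← Set.ncard_eq_toFinset_card _ hfin, Submodule.FG.generators_ncard hfg]
    · rw [hfin.coe_toFinset]; exact (maximalIdeal R).span_generators
  obtain ⟨TQ, hTQc, hTQ⟩ : ∃ T : Finset (S ⧸ J), T.card = (maximalIdeal (S ⧸ J)).spanFinrank ∧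
      Ideal.span (T : Set (S ⧸ J)) = maximalIdeal (S ⧸ J) := by
    have hfg := (maximalIdeal (S ⧸ J)).fg_of_isNoetherianRing
    have hfin := Submodule.FG.finite_generators hfg
    refine ⟨hfin.toFinset, ?_, ?_⟩
    · rw [← Set.ncard_eq_toFinset_card _ hfin, Submodule.FG.generators_ncard hfg]
    · rw [hfin.coe_toFinset]; exact (maximalIdeal (S ⧸ J)).span_generators
  choose lift hlift using hπ
  let T : Finset S := TR.image φ ∪ TQ.image lift
  have hJ : Ideal.span ((TR.image φ : Finset S) : Set S) = J := by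
    rw [Finset.coe_image, ← Ideal.map_span, hTR]
  have hmax : maximalIdeal S = Ideal.span (T : Set S) := by
    rw [Finset.coe_union, Ideal.span_union, hJ]
    have hm : (maximalIdeal (S ⧸ J)).comap π = maximalIdeal S := IsLocalRing.maximalIdeal_comap π
    rw [← hm, ← hTQ]
    refine le_antisymm (fun x hx => ?_) ?_
    · have : π x ∈ (Ideal.span ((TQ.image lift : Finset S) : Set S)).map π := by
        rw [Ideal.map_span, Finset.coe_image, ← Set.image_comp,
          show π ∘ lift = id from funext hlift, Set.image_id]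
        exact hx
      obtain ⟨y, hy, hxy⟩ := (Ideal.mem_map_iff_of_surjective π Ideal.Quotient.mk_surjective).1 this
      rw [← sub_add_cancel x y]
      exact Submodule.add_mem_sup (Ideal.Quotient.eq.1 hxy.symm) hy
    · refine sup_le (fun x hx => ?_) (Ideal.span_le.2 ?_)
      · rw [Ideal.mem_comap, Ideal.Quotient.eq_zero_iff_mem.2 hx]; exact zero_mem _
      · intro x hx
        obtain ⟨t, ht, rfl⟩ := Finset.mem_image.1 (Finset.mem_coe.1 hx)
        rw [SetLike.mem_coe, Ideal.mem_comap]
        rw [hlift]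
        exact Ideal.subset_span ht
  refine IsRegularLocalRing.of_spanFinrank_maximalIdeal_le _ ?_
  rw [hdim, ← IsRegularLocalRing.spanFinrank_maximalIdeal (R := R),
    ← IsRegularLocalRing.spanFinrank_maximalIdeal (R := S ⧸ J), ← Nat.cast_add]
  refine Nat.cast_le.2 ?_
  rw [hmax]
  refine (Submodule.spanFinrank_span_le_ncard_of_finite T.finite_toSet).trans ?_
  rw [Set.ncard_coe_finset]
  refine (Finset.card_union_le _ _).trans (add_le_add ?_ ?_)
  · exact Finset.card_image_le.trans hTRc.le
  · exact Finset.card_image_le.trans hTQc.le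

/-- Regular base, regular closed fibre and `dim S = dim R + dim S/mS` give flatness. -/
theorem flat_of_regular_quotient {R S : Type u} [CommRing R] [CommRing S] [IsRegularLocalRing R]
    [IsLocalRing S] [IsNoetherianRing S] (φ : R →+* S) [IsLocalHom φ]
    [IsRegularLocalRing (S ⧸ (maximalIdeal R).map φ)]
    (hdim : ringKrullDim S = ringKrullDim R + ringKrullDim (S ⧸ (maximalIdeal R).map φ)) :
    φ.Flat := by
  let _ : Algebra R S := φ.toAlgebra
  haveI : IsLocalHom (algebraMap R S) := ‹IsLocalHom φ›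
  haveI := isRegularLocalRing_of_quotient φ hdim
  haveI : LocCoh.IsCohenMacaulayLocalRing S :=
    { toIsLocalRing := inferInstance, supportDim_eq_depth := CotTLib.isCM_of_isRegularLocalRing S }
  exact S2082.result hdim

/-- The fibre local ring at a smooth point of the fibre is regular. -/
theorem isRegularLocalRing_fibLocRing {A B : Type u} [CommRing A] [CommRing B] [Algebra A B]
    [Algebra.FiniteType A B] (q : Ideal B) [q.IsPrime] (Q : Ideal ((q.under A).Fiber B)) [Q.IsPrime]
    (hQ : Q.comap Algebra.TensorProduct.includeRight.toRingHom = q)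
    (hs : Algebra.IsSmoothAt (q.under A).ResidueField Q) :
    IsRegularLocalRing (EGA4.FibLocRing A B q) := by
  haveI := hs
  haveI := CotTLib.isRegularLocalRing_of_isSmoothAt (k := (q.under A).ResidueField) Q
  have key : ∀ (p : Ideal A) [p.IsPrime] (Q' : Ideal (p.Fiber B)) [Q'.IsPrime] (q' : Ideal B) [q'.IsPrime],
      Q'.comap Algebra.TensorProduct.includeRight = q' → IsRegularLocalRing (Localization.AtPrime Q') →
        IsRegularLocalRing (EGA4.FibLocRing A B q') := by
    intro p _ Q' _ q' _ h hr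
    subst h
    obtain ⟨e₀⟩ := FlatLoc6.exists_fibLocEquiv p Q'
    haveI := hr
    exact IsRegularLocalRing.of_ringEquiv (R := Localization.AtPrime Q') e₀
  exact key (q.under A) Q q hQ inferInstance

variable {X Y : Scheme.{u}} (f : X ⟶ Y) {U : Y.Opens} (hU : IsAffineOpen U) {V : X.Opens}
  (hV : IsAffineOpen V) (e : V ≤ f ⁻¹ᵁ U) {x : X} (hx : x ∈ V)
include hU hV

/-- In a chart with free differentials of rank the fibre dimension, the fibre is regular at `x`. -/
theorem isRegularLocalRing_quotient_of_free [LocallyOfFiniteType f] (n : ℕ)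
    (l : letI := (f.appLE U V e).hom.toAlgebra
      Ω[Γ(X, V)⁄Γ(Y, U)] ≃ₗ[Γ(X, V)] (ULift.{u} (Fin n) →₀ Γ(X, V)))
    (hxV : x ∈ V) (hdim : FlatMor.fibreDimAt f x = (n : WithBot ℕ∞)) :
    IsRegularLocalRing (↑(X.presheaf.stalk x) ⧸
      (maximalIdeal (Y.presheaf.stalk (f x))).map (f.stalkMap x).hom) := by
  let _ := (f.appLE U V e).hom.toAlgebra
  haveI : Algebra.FiniteType Γ(Y, U) Γ(X, V) := f.finiteType_appLE hU hV e
  let z : Spec Γ(X, V) := hV.primeIdealOf ⟨x, hxV⟩
  let φ : Spec Γ(X, V) ⟶ Spec Γ(Y, U) := Spec.map (f.appLE U V e)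
  haveI : LocallyOfFiniteType φ := by
    rw [HasRingHomProperty.Spec_iff (P := @LocallyOfFiniteType)]
    exact RingHom.finiteType_algebraMap.2 inferInstance
  have hd : FlatMor.fibreDimAt φ z = (n : WithBot ℕ∞) := by
    rw [← FibDim.fibreDimAt_comp_mono φ hU.fromSpec z, hU.SpecMap_appLE_fromSpec f hV e,
      FibDim.fibreDimAt_openImmersion_comp hV.fromSpec f z, hV.fromSpec_primeIdealOf ⟨x, hxV⟩, hdim]
  obtain ⟨Q, hQ, hs⟩ := SmoothAtFibre.exists_isSmoothAt_fiber (A := Γ(Y, U)) z n l hd
  have hreg := isRegularLocalRing_fibLocRing (A := Γ(Y, U)) z.asIdeal Q.asIdeal hQ hs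
  let a := IsAffineOpen.arrowStalkMapIso f U hU V hV e hxV
  have hp : (hU.primeIdealOf ⟨f x, e hxV⟩).asIdeal = z.asIdeal.comap (algebraMap Γ(Y, U) Γ(X, V)) :=
    congr($(IsAffineOpen.comap_primeIdealOf_appLE U hU V hV e hxV).1).symm
  have hIJ : (hU.primeIdealOf ⟨f x, e hxV⟩).asIdeal = z.asIdeal.comap (f.appLE U V e).hom := hp
  let eR : Y.presheaf.stalk (f x) ≃+* Localization.AtPrime (hU.primeIdealOf ⟨f x, e hxV⟩).asIdeal :=
    (Arrow.leftFunc.mapIso a).commRingCatIsoToRingEquiv
  let eS : X.presheaf.stalk x ≃+* Localization.AtPrime z.asIdeal :=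
    (Arrow.rightFunc.mapIso a).commRingCatIsoToRingEquiv
  have hw : ∀ r, eS ((f.stalkMap x).hom r) = Localization.localRingHom (hU.primeIdealOf ⟨f x, e hxV⟩).asIdeal
      z.asIdeal (f.appLE U V e).hom hIJ (eR r) := fun r =>
    congr($(a.hom.w).hom r).symm
  refine IsRegularLocalRing.of_ringEquiv (Ideal.quotientEquiv _ _ eS.symm ?_) (R := EGA4.FibLocRing Γ(Y, U) Γ(X, V) z.asIdeal)
  have h1 : ((maximalIdeal (Y.presheaf.stalk (f x))).map (f.stalkMap x).hom).map eS.toRingHom =
      (z.asIdeal.comap (algebraMap Γ(Y, U) Γ(X, V))).map (algebraMap Γ(Y, U) (Localization.AtPrime z.asIdeal)) := by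
    rw [Ideal.map_map]
    have : eS.toRingHom.comp (f.stalkMap x).hom = (Localization.localRingHom
        (hU.primeIdealOf ⟨f x, e hxV⟩).asIdeal z.asIdeal (f.appLE U V e).hom
        hIJ).comp eR.toRingHom :=
      RingHom.ext hw
    rw [this, ← Ideal.map_map]
    rw [show (maximalIdeal (Y.presheaf.stalk (f x))).map eR.toRingHom =
        maximalIdeal (Localization.AtPrime (hU.primeIdealOf ⟨f x, e hxV⟩).asIdeal) from
      IsLocalRing.map_maximalIdeal_of_surjective _ eR.surjective]
    rw [← Localization.AtPrime.map_eq_maximalIdeal, Ideal.map_map]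
    simp only [← hp]
    congr 1
    refine RingHom.ext fun r => ?_
    rw [IsScalarTower.algebraMap_apply Γ(Y, U) Γ(X, V) (Localization.AtPrime z.asIdeal)]
    exact Localization.localRingHom_to_map (hU.primeIdealOf ⟨f x, e hxV⟩).asIdeal z.asIdeal
      (f.appLE U V e).hom hIJ r
  rw [← h1]
  refine Eq.trans ?_ (Ideal.map_map eS.toRingHom eS.symm.toRingHom).symm
  rw [show eS.symm.toRingHom.comp eS.toRingHom = RingHom.id _ from RingHom.ext eS.symm_apply_apply, Ideal.map_id]

end Groth.Agent.PP38.RegularBaseFlat
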