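import Groth.Agent.PP38.SmoothDimCrit
import Groth.Agent.MorLib.SmoothAlg
import Groth.Agent.FibDim.RingLoc
import Groth.Agent.FibDim.LocDim
import Mathlib

/-!
# Smoothness at a point from flatness, free differentials and the dimension of the fibre
-/

set_option autoImplicit false
set_option linter.style.haveILetI false

universe u

open CategoryTheory AlgebraicGeometry TensorProduct KaehlerDifferential

namespace Groth.Agent.PP38.SmoothAtFibre

attribute [local instance] Algebra.TensorProduct.rightAlgebra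

/-- Free differentials of rank equal to the local dimension make the fibre smooth at the point. -/
theorem exists_isSmoothAt_fiber {A B : Type u} [CommRing A] [CommRing B] [Algebra A B]
    [Algebra.FiniteType A B] (q : PrimeSpectrum B)
    (n : ℕ) (l : Ω[B⁄A] ≃ₗ[B] (ULift.{u} (Fin n) →₀ B))
    (hdim : FlatMor.fibreDimAt (Spec.map (CommRingCat.ofHom (algebraMap A B))) q = (n : WithBot ℕ∞)) :
    ∃ Q : PrimeSpectrum ((q.asIdeal.under A).Fiber B),
      Q.asIdeal.comap (Algebra.TensorProduct.includeRight.toRingHom) = q.asIdeal ∧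
        Algebra.IsSmoothAt (q.asIdeal.under A).ResidueField Q.asIdeal := by
  let p := q.asIdeal.under A
  obtain ⟨Q, hQ⟩ := FibDim.exists_fiber_point (A := A) q
  have hloc := FibDim.localDim_fiber_eq_fibreDimAt q Q hQ
  refine ⟨Q, hQ, SmoothDimCrit.isSmoothAt_of_finrank_le_localDim Q.asIdeal ?_⟩
  refine le_of_eq ?_
  haveI : Module.Free B Ω[B⁄A] := Module.Free.of_equiv l.symm
  haveI : Module.Finite B Ω[B⁄A] := Module.Finite.equiv l.symm
  haveI : Nontrivial B := q.nontrivial
  haveI : Nontrivial (p.ResidueField ⊗[A] B) := Q.nontrivial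
  let e : (p.ResidueField ⊗[A] B) ⊗[B] Ω[B⁄A] ≃ₗ[p.ResidueField ⊗[A] B]
      Ω[p.ResidueField ⊗[A] B⁄p.ResidueField] :=
    KaehlerDifferential.tensorKaehlerEquiv A p.ResidueField B (p.ResidueField ⊗[A] B)
  haveI : Module.Free (p.ResidueField ⊗[A] B) Ω[p.ResidueField ⊗[A] B⁄p.ResidueField] :=
    Module.Free.of_equiv e
  rw [Module.finrank_baseChange, ← e.finrank_eq, Module.finrank_baseChange, l.finrank_eq]
  rw [show (⟨Q.asIdeal, Q.2⟩ : PrimeSpectrum (p.ResidueField ⊗[A] B)) = Q from rfl]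
  refine Eq.trans ?_ (hdim.symm.trans hloc.symm)
  simp

/-- A flat finitely presented algebra with free differentials of rank equal to the local dimension of
the fibre at `q` is smooth at `q`. -/
theorem isSmoothAt_of_free_aux {A B : Type u} [CommRing A] [CommRing B] [Algebra A B]
    [Algebra.FinitePresentation A B] (q : PrimeSpectrum B)
    (hflat : letI := Localization.AtPrime.algebraOfLiesOver (q.asIdeal.under A) q.asIdeal
      Module.Flat (Localization.AtPrime (q.asIdeal.under A)) (Localization.AtPrime q.asIdeal))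
    (n : ℕ) (l : Ω[B⁄A] ≃ₗ[B] (ULift.{u} (Fin n) →₀ B))
    (hdim : FlatMor.fibreDimAt (Spec.map (CommRingCat.ofHom (algebraMap A B))) q = (n : WithBot ℕ∞)) :
    Algebra.IsSmoothAt A q.asIdeal := by
  obtain ⟨Q, hQ, h⟩ := exists_isSmoothAt_fiber q n l hdim
  exact MorLib.SmoothAlg.isSmoothAt_of_fiber (p := q.asIdeal.under A) q.asIdeal hflat Q.asIdeal hQ h

section Scheme

variable {X Y : Scheme.{u}} (f : X ⟶ Y) {U : Y.Opens} (hU : IsAffineOpen U) {V : X.Opens}
  (hV : IsAffineOpen V) (e : V ≤ f ⁻¹ᵁ U) {x : X} (hx : x ∈ V)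
include hU hV

theorem flat_stalkMap_iff :
    letI := (f.appLE U V e).hom.toAlgebra
    letI q := (hV.primeIdealOf ⟨x, hx⟩).asIdeal
    letI := Localization.AtPrime.algebraOfLiesOver (q.under Γ(Y, U)) q
    (f.stalkMap x).hom.Flat ↔
      Module.Flat (Localization.AtPrime (q.under Γ(Y, U))) (Localization.AtPrime q) := by
  let _ := (f.appLE U V e).hom.toAlgebra
  let q := (hV.primeIdealOf ⟨x, hx⟩).asIdeal
  have key : ∀ (p : Ideal Γ(Y, U)) [p.IsPrime] [q.LiesOver p],
      p = (hU.primeIdealOf ⟨f x, e hx⟩).asIdeal →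
      letI := Localization.AtPrime.algebraOfLiesOver p q
      ((f.stalkMap x).hom.Flat ↔ Module.Flat (Localization.AtPrime p) (Localization.AtPrime q)) := by
    intro p _ _ hp
    subst hp
    let _ := Localization.AtPrime.algebraOfLiesOver (hU.primeIdealOf ⟨f x, e hx⟩).asIdeal q
    rw [← RingHom.flat_algebraMap_iff]
    exact RingHom.Flat.respectsIso.arrow_mk_iso_iff (IsAffineOpen.arrowStalkMapIso f U hU V hV e hx)
  haveI : q.LiesOver (q.under Γ(Y, U)) := ⟨rfl⟩
  exact key (q.under Γ(Y, U)) congr($(IsAffineOpen.comap_primeIdealOf_appLE U hU V hV e hx).1)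

include hx in
theorem flat_stalkMap_of_flat
    (h : letI := (f.appLE U V e).hom.toAlgebra; Module.Flat Γ(Y, U) Γ(X, V)) :
    (f.stalkMap x).hom.Flat := by
  let _ := (f.appLE U V e).hom.toAlgebra
  haveI := h
  rw [flat_stalkMap_iff f hU hV e hx]
  let q := (hV.primeIdealOf ⟨x, hx⟩).asIdeal
  let _ := Localization.AtPrime.algebraOfLiesOver (q.under Γ(Y, U)) q
  exact (Module.flat_iff_of_isLocalization (Localization.AtPrime (q.under Γ(Y, U)))
    (q.under Γ(Y, U)).primeCompl _).mpr (Module.Flat.trans Γ(Y, U) Γ(X, V) _)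

theorem isSmoothAt_of_free [LocallyOfFinitePresentation f] (hflat : (f.stalkMap x).hom.Flat) (n : ℕ)
    (l : letI := (f.appLE U V e).hom.toAlgebra
      Ω[Γ(X, V)⁄Γ(Y, U)] ≃ₗ[Γ(X, V)] (ULift.{u} (Fin n) →₀ Γ(X, V)))
    (hdim : FlatMor.fibreDimAt f x = (n : WithBot ℕ∞)) :
    letI := (f.appLE U V e).hom.toAlgebra
    Algebra.IsSmoothAt Γ(Y, U) (hV.primeIdealOf ⟨x, hx⟩).asIdeal := by
  let _ := (f.appLE U V e).hom.toAlgebra
  haveI : Algebra.FinitePresentation Γ(Y, U) Γ(X, V) := f.finitePresentation_appLE hU hV e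
  let z : Spec Γ(X, V) := hV.primeIdealOf ⟨x, hx⟩
  refine isSmoothAt_of_free_aux z ((flat_stalkMap_iff f hU hV e hx).1 hflat) n l ?_
  rw [← hdim]
  let φ : Spec Γ(X, V) ⟶ Spec Γ(Y, U) := Spec.map (f.appLE U V e)
  haveI : LocallyOfFiniteType φ := by
    rw [HasRingHomProperty.Spec_iff (P := @LocallyOfFiniteType)]
    exact RingHom.finiteType_algebraMap.2 inferInstance
  show FlatMor.fibreDimAt φ z = _
  rw [← FibDim.fibreDimAt_comp_mono φ hU.fromSpec z, hU.SpecMap_appLE_fromSpec f hV e,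
    FibDim.fibreDimAt_openImmersion_comp hV.fromSpec f z, hV.fromSpec_primeIdealOf ⟨x, hx⟩]

end Scheme

end Groth.Agent.PP38.SmoothAtFibre
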