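import Groth.Agent.EtEff48.Jac
import Groth.Agent.PP38.RegQuotIndep
import Groth.Agent.CAlgOdd.LocalDimSpec
import Mathlib

/-!
# Smoothness over a field from an upper bound on the rank of the differentials
-/

set_option autoImplicit false
set_option linter.style.haveILetI false

universe u

open IsLocalRing KaehlerDifferential TensorProduct

namespace Groth.Agent.PP38.SmoothDimCrit

variable {k : Type u} [Field k]

section

variable {P A : Type u} [CommRing P] [CommRing A] [Algebra k P] [Algebra k A]

/-- The differentials of the quotient bound the corank of the differentials of the equations. -/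
theorem finrank_le_add {π : P →ₐ[k] A} (hπ : Function.Surjective π) [Module.Finite P Ω[P⁄k]]
    [Module.Finite A Ω[A⁄k]] (q : Ideal A) [q.IsPrime] :
    Module.finrank (q.comap π).ResidueField ((q.comap π).ResidueField ⊗[P] Ω[P⁄k]) ≤
      Module.finrank q.ResidueField (q.ResidueField ⊗[A] Ω[A⁄k]) +
        Module.finrank (q.comap π).ResidueField (Submodule.span (q.comap π).ResidueField
          (Set.range fun g : RingHom.ker π => (1 : (q.comap π).ResidueField) ⊗ₜ[P] D k P (g : P))) := by
  set Q := q.comap π
  set W := Submodule.span Q.ResidueField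
    (Set.range fun g : RingHom.ker π => (1 : Q.ResidueField) ⊗ₜ[P] D k P (g : P))
  have hkerQ : RingHom.ker π.toRingHom ≤ RingHom.ker (algebraMap P Q.ResidueField) := fun x hx => by
    rw [Ideal.ker_algebraMap_residueField]
    change π x ∈ q
    rw [show π x = 0 from hx]
    exact zero_mem _
  let toK : A →+* Q.ResidueField :=
    RingHom.liftOfSurjective π.toRingHom hπ ⟨algebraMap P Q.ResidueField, hkerQ⟩
  have hlift : ∀ p, toK (π p) = algebraMap P Q.ResidueField p := fun p =>
    RingHom.liftOfSurjective_comp_apply π.toRingHom hπ ⟨algebraMap P Q.ResidueField, hkerQ⟩ p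
  letI : Algebra A Q.ResidueField := toK.toAlgebra
  haveI : IsScalarTower k A Q.ResidueField := IsScalarTower.of_algebraMap_eq fun c => by
    show _ = toK (algebraMap k A c)
    rw [← π.commutes, hlift, ← IsScalarTower.algebraMap_apply]
  let V := (Q.ResidueField ⊗[P] Ω[P⁄k]) ⧸ W
  have hsmul : ∀ (p : P) (v : V), π p • v = p • v := fun p v => by
    rw [← IsScalarTower.algebraMap_smul Q.ResidueField (π p) v,
      show algebraMap A Q.ResidueField (π p) = algebraMap P Q.ResidueField p from hlift p,
      IsScalarTower.algebraMap_smul]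
  haveI : IsScalarTower k A V := IsScalarTower.of_algebraMap_smul fun c v => by
    rw [← π.commutes, hsmul, IsScalarTower.algebraMap_smul]
  let F : P → V := fun p => W.mkQ ((1 : Q.ResidueField) ⊗ₜ[P] D k P p)
  have hF : ∀ p p', π p = π p' → F p = F p' := fun p p' h => by
    refine (Submodule.Quotient.eq W).2 ?_
    rw [← TensorProduct.tmul_sub, ← map_sub]
    exact Submodule.subset_span ⟨⟨p - p', by rw [RingHom.mem_ker, map_sub, h, sub_self]⟩, rfl⟩
  choose s hs using id hπ
  have hFa : ∀ p p', F (p + p') = F p + F p' := fun p p' => by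
    simp only [F, map_add, TensorProduct.tmul_add]
  let δ : Derivation k A V :=
    Derivation.mk'
      { toFun := fun a => F (s a)
        map_add' := fun a b => by rw [← hFa]; exact hF _ _ (by rw [map_add, hs, hs, hs])
        map_smul' := fun c a => by
          rw [RingHom.id_apply, hF (s (c • a)) (c • s a) (by rw [map_smul, hs, hs])]
          simp only [F, Derivation.map_smul, TensorProduct.tmul_smul]
          exact (W.mkQ.restrictScalars k).map_smul c _ }
      (fun a b => by
        show F (s (a * b)) = a • F (s b) + b • F (s a)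
        rw [hF (s (a * b)) (s a * s b) (by rw [map_mul, hs, hs, hs])]
        simp only [F, Derivation.leibniz, TensorProduct.tmul_add, TensorProduct.tmul_smul, map_add]
        congr 1 <;>
          · rw [← IsScalarTower.algebraMap_smul Q.ResidueField, map_smul, IsScalarTower.algebraMap_smul,
              ← hsmul, hs])
  let l : Q.ResidueField ⊗[A] Ω[A⁄k] →ₗ[Q.ResidueField] V :=
    δ.liftKaehlerDifferential.liftBaseChange Q.ResidueField
  have hl : Function.Surjective l := by
    rw [← LinearMap.range_eq_top, eq_top_iff]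
    rintro v -
    obtain ⟨v, rfl⟩ := W.mkQ_surjective v
    induction v using TensorProduct.induction_on with
    | zero => rw [map_zero]; exact zero_mem _
    | add x y hx hy => rw [map_add]; exact add_mem hx hy
    | tmul c w =>
      rw [show c ⊗ₜ[P] w = c • ((1 : Q.ResidueField) ⊗ₜ[P] w) by
        rw [TensorProduct.smul_tmul', smul_eq_mul, mul_one], map_smul]
      refine Submodule.smul_mem _ _ ?_
      have hw : w ∈ Submodule.span P (Set.range (D k P)) := by
        rw [KaehlerDifferential.span_range_derivation]; trivial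
      induction hw using Submodule.span_induction with
      | mem w hw =>
        obtain ⟨p, rfl⟩ := hw
        refine ⟨(1 : Q.ResidueField) ⊗ₜ D k A (π p), ?_⟩
        simp only [l, LinearMap.liftBaseChange_tmul, one_smul, Derivation.liftKaehlerDifferential_comp_D]
        exact hF _ _ (hs _)
      | zero => rw [TensorProduct.tmul_zero, map_zero]; exact zero_mem _
      | add x y _ _ hx hy => rw [TensorProduct.tmul_add, map_add]; exact add_mem hx hy
      | smul p x _ hx =>
        rw [TensorProduct.tmul_smul, ← IsScalarTower.algebraMap_smul Q.ResidueField, map_smul]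
        exact Submodule.smul_mem _ _ hx
  have hVle := LinearMap.finrank_le_finrank_of_surjective hl
  have hker : q = RingHom.ker toK := by
    ext a
    obtain ⟨p, rfl⟩ : ∃ p, π p = a := ⟨s a, hs a⟩
    rw [RingHom.mem_ker, hlift]
    exact (Ideal.algebraMap_residueField_eq_zero (I := Q) (x := p)).symm
  let ψ : q.ResidueField →+* Q.ResidueField := Ideal.ResidueField.lift q toK hker.le fun a ha => by
    refine IsUnit.mk0 _ fun h0 => ha ?_
    rw [hker]; exact h0
  letI : Algebra q.ResidueField Q.ResidueField := ψ.toAlgebra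
  haveI : IsScalarTower A q.ResidueField Q.ResidueField := IsScalarTower.of_algebraMap_eq fun a => by
    exact (Ideal.ResidueField.lift_algebraMap q toK _ _ a).symm
  have h1 : Module.finrank Q.ResidueField (Q.ResidueField ⊗[A] Ω[A⁄k]) =
      Module.finrank q.ResidueField (q.ResidueField ⊗[A] Ω[A⁄k]) := by
    rw [← (TensorProduct.AlgebraTensorModule.cancelBaseChange A q.ResidueField Q.ResidueField Q.ResidueField
      Ω[A⁄k]).finrank_eq, Module.finrank_baseChange]
  have h2 := W.finrank_quotient_add_finrank
  rw [h1] at hVle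
  have hVle' : Module.finrank Q.ResidueField ((Q.ResidueField ⊗[P] Ω[P⁄k]) ⧸ W) ≤
      Module.finrank q.ResidueField (q.ResidueField ⊗[A] Ω[A⁄k]) := hVle
  show Module.finrank Q.ResidueField (Q.ResidueField ⊗[P] Ω[P⁄k]) ≤ _ + Module.finrank Q.ResidueField W
  omega

/-- Independence of differentials gives independence in the cotangent space. -/
theorem linearIndependent_toCotangent (Q : Ideal P) [Q.IsPrime] {ι : Type*} [Finite ι] (f : ι → P)
    (hf : ∀ i, f i ∈ Q)
    (hli : LinearIndependent Q.ResidueField fun i => (1 : Q.ResidueField) ⊗ₜ[P] D k P (f i)) :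
    LinearIndependent (ResidueField (Localization.AtPrime Q))
      fun i => (maximalIdeal (Localization.AtPrime Q)).toCotangent
        ⟨algebraMap P _ (f i), (IsLocalization.AtPrime.to_map_mem_maximal_iff _ Q _).2 (hf i)⟩ := by
  cases nonempty_fintype ι
  let L := Localization.AtPrime Q
  rw [Fintype.linearIndependent_iff] at hli ⊢
  intro c hc
  choose b hb using fun i => IsLocalRing.residue_surjective (c i)
  have hs : ∑ i, b i * algebraMap P L (f i) ∈ maximalIdeal L ^ 2 := by
    have e : (maximalIdeal L).toCotangent (∑ i, b i • (⟨algebraMap P L (f i),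
        (IsLocalization.AtPrime.to_map_mem_maximal_iff _ Q _).2 (hf i)⟩ : maximalIdeal L)) = 0 := by
      rw [map_sum, ← hc]
      refine Finset.sum_congr rfl fun i _ => ?_
      rw [map_smul, ← hb]
      rfl
    rw [Ideal.toCotangent_eq_zero] at e
    simpa using e
  have hker : ∀ x ∈ maximalIdeal L, algebraMap L Q.ResidueField x = 0 := fun x hx =>
    (residue_eq_zero_iff x).2 hx
  have hzero : ∀ x ∈ maximalIdeal L ^ 2, (1 : Q.ResidueField) ⊗ₜ[L] D k L x = 0 := fun x hx => by
    rw [pow_two] at hx
    refine Submodule.mul_induction_on hx (fun x hx y hy => ?_) (fun x y hx hy => ?_)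
    · rw [Derivation.leibniz, TensorProduct.tmul_add, ← TensorProduct.smul_tmul, ← TensorProduct.smul_tmul,
        Algebra.smul_def, Algebra.smul_def, hker x hx, hker y hy, zero_mul, TensorProduct.zero_tmul,
        TensorProduct.zero_tmul, add_zero]
    · rw [map_add, TensorProduct.tmul_add, hx, hy, add_zero]
  let e : Q.ResidueField ⊗[L] Ω[L⁄k] ≃ₗ[Q.ResidueField] Q.ResidueField ⊗[P] Ω[P⁄k] :=
    (AlgebraTensorModule.congr (LinearEquiv.refl Q.ResidueField Q.ResidueField)
      (tensorKaehlerEquivOfFormallyEtale k P L).symm) ≪≫ₗ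
      AlgebraTensorModule.cancelBaseChange P L Q.ResidueField Q.ResidueField Ω[P⁄k]
  have he : ∀ a : P, e ((1 : Q.ResidueField) ⊗ₜ D k L (algebraMap P L a)) = 1 ⊗ₜ D k P a := fun a => by
    simp [e, tensorKaehlerEquivOfFormallyEtale_symm_D_algebraMap]
  refine hli c ?_
  have h0 : (1 : Q.ResidueField) ⊗ₜ[L] D k L (∑ i, b i * algebraMap P L (f i)) = 0 := hzero _ hs
  rw [map_sum, TensorProduct.tmul_sum] at h0
  have h1 : ∑ i, c i • ((1 : Q.ResidueField) ⊗ₜ[L] D k L (algebraMap P L (f i))) = 0 := by
    rw [← h0]
    refine Finset.sum_congr rfl fun i _ => ?_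
    rw [Derivation.leibniz, TensorProduct.tmul_add, ← TensorProduct.smul_tmul, ← TensorProduct.smul_tmul,
      Algebra.smul_def, Algebra.smul_def, hker _ ((IsLocalization.AtPrime.to_map_mem_maximal_iff _ Q _).2 (hf i)),
      zero_mul, TensorProduct.zero_tmul, add_zero, TensorProduct.smul_tmul', smul_eq_mul, ← hb]
    rfl
  have := congrArg e h1
  simpa only [map_sum, map_smul, he, map_zero] using this

end

set_option maxHeartbeats 800000 in
theorem isSmoothAt_of_surjective {P A : Type u} [CommRing P] [CommRing A] [Algebra k P] [Algebra k A]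
    [IsNoetherianRing P] [IsRegularRing P] [Module.Finite P Ω[P⁄k]] [Algebra.FiniteType k A]
    [Module.Finite A Ω[A⁄k]] {π : P →ₐ[k] A} (hπ : Function.Surjective π) (N : ℕ)
    (hrank : ∀ (Q : Ideal P) [Q.IsPrime], Module.finrank Q.ResidueField (Q.ResidueField ⊗[P] Ω[P⁄k]) = N)
    (hdim : ∀ Q : PrimeSpectrum P, Order.height Q + Order.coheight Q = N)
    (hsmooth : ∀ (Q : Ideal P) [Q.IsPrime], Algebra.IsSmoothAt k Q)
    (q : Ideal A) [q.IsPrime]
    (h : (Module.finrank q.ResidueField (q.ResidueField ⊗[A] Ω[A⁄k]) : WithBot ℕ∞) ≤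
      FlatMor.localDim (PrimeSpectrum A) ⟨q, inferInstance⟩) :
    Algebra.IsSmoothAt k q := by
  haveI : IsNoetherianRing A := Algebra.FiniteType.isNoetherianRing k A
  set Q := q.comap π with hQdef
  set I := RingHom.ker π with hIdef
  set L := Localization.AtPrime Q
  set W := Submodule.span Q.ResidueField
    (Set.range fun g : I => (1 : Q.ResidueField) ⊗ₜ[P] D k P (g : P)) with hW
  have hN : Module.finrank Q.ResidueField (Q.ResidueField ⊗[P] Ω[P⁄k]) = N := hrank Q
  -- independent equations
  obtain ⟨B, hBsub, hBspan, hBli⟩ := exists_linearIndependent Q.ResidueField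
    (Set.range fun g : I => (1 : Q.ResidueField) ⊗ₜ[P] D k P (g : P))
  rw [← hW] at hBspan
  haveI : Finite B := Cardinal.lt_aleph0_iff_finite.1 (hBli.lt_aleph0_of_finiteDimensional)
  cases nonempty_fintype B
  let c := Fintype.card B
  let eB := (Fintype.equivFin B).symm
  choose g hg using fun i : Fin c => hBsub (eB i).2
  have hli : LinearIndependent Q.ResidueField fun i : Fin c => (1 : Q.ResidueField) ⊗ₜ[P] D k P (g i : P) := by
    rw [show (fun i : Fin c => (1 : Q.ResidueField) ⊗ₜ[P] D k P (g i : P)) = Subtype.val ∘ eB from funext hg]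
    exact hBli.comp _ eB.injective
  have hWc : Module.finrank Q.ResidueField W = c := by
    rw [← hBspan]
    exact (finrank_span_set_eq_card hBli).trans (by rw [Set.toFinset_card])
  have hd := finrank_le_add hπ q
  replace hd : N ≤ Module.finrank q.ResidueField (q.ResidueField ⊗[A] Ω[A⁄k]) + c := by
    rw [← hN, ← hWc]
    exact hd
  -- dimensions
  let qA : PrimeSpectrum A := ⟨q, inferInstance⟩
  let qP : PrimeSpectrum P := ⟨Q, inferInstance⟩
  have hco : (Order.coheight qA : WithBot ℕ∞) = Order.coheight qP := by
    rw [VarDim.coheight_eq_ringKrullDim_quotient, VarDim.coheight_eq_ringKrullDim_quotient]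
    let ρ : P →+* A ⧸ q := (Ideal.Quotient.mk q).comp π.toRingHom
    have hρ : Function.Surjective ρ := Ideal.Quotient.mk_surjective.comp hπ
    have hk : RingHom.ker ρ = Q := by
      rw [← RingHom.comap_ker, Ideal.mk_ker]
      rfl
    exact (ringKrullDim_eq_of_ringEquiv
      ((Ideal.quotEquivOfEq hk.symm).trans (RingHom.quotientKerEquivOfSurjective hρ))).symm
  have hsum : Order.height qP + Order.coheight qP = N := hdim qP
  rw [CAlgOdd.LocalDimSpec.localDim_eq_add k] at h
  rw [← WithBot.coe_natCast, WithBot.coe_le_coe] at h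
  rw [WithBot.coe_inj] at hco
  obtain ⟨hP', hhP⟩ := ENat.ne_top_iff_exists.1 (show Order.height qP ≠ ⊤ by
    rw [← PrimeSpectrum.height_eq_orderHeight]; exact Ideal.height_ne_top_of_isPrime)
  obtain ⟨hA', hhA⟩ := ENat.ne_top_iff_exists.1 (show Order.height qA ≠ ⊤ by
    rw [← PrimeSpectrum.height_eq_orderHeight]; exact Ideal.height_ne_top_of_isPrime)
  obtain ⟨co, hco'⟩ := ENat.ne_top_iff_exists.1 (show Order.coheight qP ≠ ⊤ by
    intro e; rw [e, add_top] at hsum; exact ENat.top_ne_natCast N hsum)
  rw [hco, ← hhA, ← hco'] at h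
  rw [← hhP, ← hco'] at hsum
  norm_cast at h hsum
  -- the local ring of the quotient
  have hdimP : ringKrullDim L = (hP' : WithBot ℕ∞) := by
    rw [IsLocalization.AtPrime.ringKrullDim_eq_height Q L, qP.height_eq_orderHeight, ← hhP]
    rfl
  have hdimA : ringKrullDim (Localization.AtPrime q) = (hA' : WithBot ℕ∞) := by
    rw [IsLocalization.AtPrime.ringKrullDim_eq_height q, qA.height_eq_orderHeight, ← hhA]
    rfl
  let πL : L →+* Localization.AtPrime q := Localization.localRingHom Q q π.toRingHom rfl
  have hπL : Function.Surjective πL := RingHom.surjective_localRingHom_of_surjective _ hπ q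
  set J := I.map (algebraMap P L)
  have hJker : J ≤ RingHom.ker πL := Ideal.map_le_iff_le_comap.2 fun x hx => by
    rw [Ideal.mem_comap, RingHom.mem_ker]
    refine (Localization.localRingHom_to_map Q q π.toRingHom rfl x).trans ?_
    rw [show π.toRingHom x = 0 from hx, map_zero]
  have hJtop : J ≠ ⊤ := ne_top_of_le_ne_top (RingHom.ker_ne_top _) hJker
  haveI : Nontrivial (L ⧸ J) := Ideal.Quotient.nontrivial_iff.2 hJtop
  haveI : IsLocalRing (L ⧸ J) := IsLocalRing.of_surjective' _ Ideal.Quotient.mk_surjective
  obtain ⟨a, ha⟩ : ∃ a : ℕ, ringKrullDim (L ⧸ J) = a := by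
    have h1 := ringKrullDim_quotient_le (R := L) J
    rw [hdimP] at h1
    have h0 := ringKrullDim_nonneg_of_nontrivial (R := L ⧸ J)
    revert h0 h1
    generalize ringKrullDim (L ⧸ J) = z
    cases z with
    | bot => simp
    | coe z =>
      cases z using ENat.recTopCoe with
      | top => intro h1; exact absurd (WithBot.coe_le_coe.1 h1) (not_le.2 (ENat.natCast_lt_top _))
      | coe z => exact fun _ _ => ⟨z, rfl⟩
  have hAa : hA' ≤ a := by
    have := ringKrullDim_le_of_surjective (Ideal.Quotient.lift J πL fun x hx => hJker hx)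
      (Ideal.Quotient.lift_surjective_of_surjective _ _ hπL)
    rw [hdimA, ha] at this
    exact_mod_cast this
  haveI : IsRegularLocalRing L := IsRegularRing.isRegularLocalRing_localization Q
  have hgQ : ∀ i, (g i : P) ∈ Q := fun i => by
    change π (g i : P) ∈ q
    rw [show π (g i : P) = 0 from (g i).2]
    exact zero_mem _
  have hspan := RegQuotIndep.eq_span_range (L := L) _ (linearIndependent_toCotangent Q _ hgQ hli) J hJtop
    (fun i => Ideal.mem_map_of_mem _ (g i).2) hdimP ha (by omega)
  -- smoothness of the quotient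
  let eA : (P ⧸ I) ≃ₐ[k] A := Ideal.quotientKerAlgEquivOfSurjective hπ
  let q' : Ideal (P ⧸ I) := q.comap eA.toAlgHom
  have hq' : q'.comap (Ideal.Quotient.mk I) = Q := rfl
  haveI : Algebra.IsSmoothAt k (q'.comap (Ideal.Quotient.mk I)) := hsmooth _
  classical
  have hsm : Algebra.IsSmoothAt k q' := (EtEff48.isSmoothAt_iff_exists I q').2
    ⟨Finset.univ.image fun i => (g i : P), by
      intro x hx
      obtain ⟨i, -, rfl⟩ := Finset.mem_image.1 (Finset.mem_coe.1 hx)
      exact (g i).2, by
      rw [Finset.coe_image, Finset.coe_univ, Set.image_univ, ← Set.range_comp]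
      exact hspan, by
      have hginj : Function.Injective fun i => (g i : P) := fun i j hij =>
        hli.injective (congrArg (fun x => (1 : Q.ResidueField) ⊗ₜ[P] D k P x) hij)
      let eg : Fin c ≃ ↥(Finset.univ.image fun i => (g i : P)) :=
        Equiv.ofBijective (fun i => ⟨g i, Finset.mem_image_of_mem _ (Finset.mem_univ i)⟩)
          ⟨fun i j h => hginj (Subtype.mk.inj h), fun ⟨x, hx⟩ => by
            obtain ⟨i, -, rfl⟩ := Finset.mem_image.1 hx
            exact ⟨i, rfl⟩⟩
      exact (linearIndependent_equiv eg).1 hli⟩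
  haveI : Algebra.FormallySmooth k (Localization.AtPrime q') := hsm
  let eL : Localization.AtPrime q' ≃ₐ[k] Localization.AtPrime q := Localization.localAlgEquiv q' q eA rfl
  exact Algebra.FormallySmooth.of_equiv eL

/-- A finite type algebra over a field whose differentials need at most as many generators at `q` as the
local dimension at `q` is smooth at `q`. -/
theorem isSmoothAt_of_finrank_le_localDim {A : Type u} [CommRing A] [Algebra k A] [Algebra.FiniteType k A]
    (q : Ideal A) [q.IsPrime]
    (h : (Module.finrank q.ResidueField (q.ResidueField ⊗[A] Ω[A⁄k]) : WithBot ℕ∞) ≤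
      FlatMor.localDim (PrimeSpectrum A) ⟨q, inferInstance⟩) :
    Algebra.IsSmoothAt k q := by
  obtain ⟨N, π, hπ⟩ := Algebra.FiniteType.iff_quotient_mvPolynomial''.1 ‹Algebra.FiniteType k A›
  refine isSmoothAt_of_surjective hπ N (fun Q _ => ?_) (fun Q => ?_) (fun Q _ => inferInstance) q h
  · rw [Module.finrank_baseChange, Module.finrank_eq_card_basis (KaehlerDifferential.mvPolynomialBasis k (Fin N)),
      Fintype.card_fin]
  · refine VarDim.height_add_coheight_eq (k := k) N _ ?_ Q
    rw [MvPolynomial.ringKrullDim_of_isNoetherianRing, ringKrullDim_eq_zero_of_field, zero_add, Nat.card_fin]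

end Groth.Agent.PP38.SmoothDimCrit
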