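import Groth.Agent.SmoothReg.Omega
import Groth.Agent.PP38.GeomRedMin
import Mathlib

/-! Projective differentials and generic smoothness give smoothness over a field. -/

set_option autoImplicit false
set_option linter.style.haveILetI false
set_option linter.unusedSectionVars false

universe u

noncomputable section

open TensorProduct IsLocalRing Order Groth.Agent.SmoothReg

namespace Groth.Agent.PP38

variable {k : Type u} [Field k] {A : Type u} [CommRing A] [Algebra k A] [Algebra.FiniteType k A]

/-- Projective differentials and smoothness at the minimal primes give regularity at closed points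
(the argument is that of `SmoothReg.isRegularLocalRing_of_isReduced`, which assumes reducedness). -/
theorem isRegularLocalRing_of_generic_smooth [PerfectField k]
    [Module.Projective A Ω[A⁄k]]
    (hgen : ∀ q : PrimeSpectrum A, q.asIdeal ∈ minimalPrimes A → q ∈ Algebra.smoothLocus k A)
    (m : PrimeSpectrum A) [m.asIdeal.IsMaximal] :
    IsRegularLocalRing (Localization.AtPrime m.asIdeal) := by
  haveI : IsNoetherianRing A := Algebra.FiniteType.isNoetherianRing k A
  haveI : Algebra.FinitePresentation k A := Algebra.FinitePresentation.of_finiteType.1 inferInstance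
  haveI : IsJacobsonRing A := isJacobsonRing_of_finiteType (A := k) (B := A)
  obtain ⟨η, hη, hηm⟩ := Ideal.exists_minimalPrimes_le (bot_le : ⊥ ≤ m.asIdeal)
  haveI := hη.1.1
  let ep : PrimeSpectrum A := ⟨η, hη.1.1⟩
  have hsm : ep ∈ Algebra.smoothLocus k A := hgen ep hη
  obtain ⟨c, ⟨hc1, hc2⟩, hcc⟩ := nonempty_inter_closedPoints
    (Z := Algebra.smoothLocus k A ∩ PrimeSpectrum.zeroLocus (η : Set A)) ⟨ep, hsm, le_refl η⟩
    (Algebra.isOpen_smoothLocus.isLocallyClosed.inter
      (PrimeSpectrum.isClosed_zeroLocus _).isLocallyClosed)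
  haveI : c.asIdeal.IsMaximal := (PrimeSpectrum.isClosed_singleton_iff_isMaximal c).1 hcc
  haveI : Algebra.IsSmoothAt k c.asIdeal := hc1
  have hreg := CotTLib.isRegularLocalRing_of_isSmoothAt (k := k) c.asIdeal
  haveI := RegLoc6.isDomain_of_isRegularLocalRing (Localization.AtPrime c.asIdeal)
  have hηc : η ≤ c.asIdeal := hc2
  -- the unique minimal prime below `c`
  have huniq : ∀ q : PrimeSpectrum A, q ≤ c → η ≤ q.asIdeal := by
    intro q hq x hx
    have hmap : η.map (algebraMap A (Localization.AtPrime c.asIdeal)) = ⊥ := by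
      have hdisj : Disjoint (c.asIdeal.primeCompl : Set A) (η : Set A) :=
        Set.disjoint_left.2 fun y hy hy' => hy (hηc hy')
      obtain ⟨q', hq', hq'e⟩ := Ideal.exists_minimalPrimes_le (bot_le : (⊥ : Ideal A) ≤
        (⊥ : Ideal (Localization.AtPrime c.asIdeal)).comap (algebraMap A (Localization.AtPrime c.asIdeal)))
      have hle : (⊥ : Ideal (Localization.AtPrime c.asIdeal)).comap
          (algebraMap A (Localization.AtPrime c.asIdeal)) ≤ η := by
        intro y hy
        rw [Ideal.mem_comap, Ideal.mem_bot, IsLocalization.map_eq_zero_iff c.asIdeal.primeCompl] at hy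
        obtain ⟨s, hs⟩ := hy
        exact ((hη.1.1).mem_or_mem (hs ▸ η.zero_mem : (s : A) * y ∈ η)).resolve_left
          fun h => s.2 (hηc h)
      have h2 : η ≤ q' := hη.2 ⟨hq'.1.1, bot_le⟩ (hq'e.trans hle)
      rw [eq_bot_iff, Ideal.map_le_iff_le_comap]
      exact h2.trans hq'e
    have := Ideal.mem_map_of_mem (algebraMap A (Localization.AtPrime c.asIdeal)) hx
    rw [hmap, Ideal.mem_bot, IsLocalization.map_eq_zero_iff c.asIdeal.primeCompl] at this
    obtain ⟨s, hs⟩ := this
    exact (q.2.mem_or_mem (hs ▸ q.asIdeal.zero_mem : (s : A) * x ∈ q.asIdeal)).resolve_left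
      fun h => s.2 (hq h)
  -- the dimension of the component
  obtain ⟨n, g, hinj, hint⟩ := exists_integral_inj_algHom_of_fg k (A ⧸ η)
  obtain ⟨N, hN⟩ : ∃ N : ℕ, ringKrullDim (A ⧸ η) = N := by
    letI : Algebra (MvPolynomial (Fin n) k) (A ⧸ η) := g.toRingHom.toAlgebra
    haveI : FaithfulSMul (MvPolynomial (Fin n) k) (A ⧸ η) :=
      (faithfulSMul_iff_algebraMap_injective _ _).2 hinj
    haveI : Algebra.IsIntegral (MvPolynomial (Fin n) k) (A ⧸ η) := ⟨hint⟩
    exact ⟨n, by
      rw [VarDim.ringKrullDim_eq_of_isIntegral (R := MvPolynomial (Fin n) k) (S := A ⧸ η),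
        MvPolynomial.ringKrullDim_of_isNoetherianRing, ringKrullDim_eq_zero_of_field, zero_add,
        Nat.card_fin]⟩
  let π := Ideal.Quotient.mk η
  have hπ : StrictMono (PrimeSpectrum.comap π) := fun a b hab => by
    refine lt_of_le_of_ne (Ideal.comap_mono hab.le) fun h => hab.ne ?_
    exact PrimeSpectrum.comap_injective_of_surjective π Ideal.Quotient.mk_surjective h
  have hlift : ∀ q : PrimeSpectrum A, η ≤ q.asIdeal →
      ∃ q' : PrimeSpectrum (A ⧸ η), PrimeSpectrum.comap π q' = q := fun q hq => by
    have : q ∈ Set.range (PrimeSpectrum.comap π) := by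
      rw [range_comap_of_surjective _ _ Ideal.Quotient.mk_surjective, Ideal.mk_ker]
      exact hq
    exact this
  have hclosed : ∀ q : PrimeSpectrum A, q.asIdeal.IsMaximal → η ≤ q.asIdeal →
      (N : ℕ∞) ≤ height q ∧ ((∀ r : PrimeSpectrum A, r ≤ q → η ≤ r.asIdeal) → height q = N) := by
    intro q hqmax hq
    obtain ⟨q', rfl⟩ := hlift q hq
    have hco : coheight q' = 0 := by
      rw [coheight_eq_zero]
      intro b hb
      have := hqmax.eq_of_le (PrimeSpectrum.comap π b).2.ne_top (hπ.monotone hb)
      exact (PrimeSpectrum.comap_injective_of_surjective π Ideal.Quotient.mk_surjective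
        (PrimeSpectrum.ext this)).ge
    have hh : height q' = N := by
      have := VarDim.height_add_coheight_eq (k := k) N (A ⧸ η) hN q'
      rwa [hco, add_zero] at this
    refine ⟨hh ▸ height_le_height_apply_of_strictMono _ hπ q', fun hbelow => ?_⟩
    refine le_antisymm ?_ (hh ▸ height_le_height_apply_of_strictMono _ hπ q')
    rw [← hh]
    refine height_le fun l hl => ?_
    have hl' : ∀ i, l i ≤ PrimeSpectrum.comap π q' := fun i =>
      hl ▸ (LTSeries.monotone l (Fin.le_last i))
    choose f hf using fun i => hlift (l i) (hbelow _ (hl' i))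
    have hmono : StrictMono f := fun i j hij => by
      have h := l.strictMono hij
      rw [← hf i, ← hf j] at h
      refine lt_of_le_of_ne (fun x hx => ?_) fun he => h.ne (he ▸ rfl)
      obtain ⟨x, rfl⟩ := Ideal.Quotient.mk_surjective x
      exact h.le hx
    refine (length_le_height (p := LTSeries.mk l.length f hmono) ?_)
    refine le_of_eq (PrimeSpectrum.comap_injective_of_surjective π Ideal.Quotient.mk_surjective ?_)
    exact (hf _).trans hl
  have hrank : Module.rankAtStalk Ω[A⁄k] m = Module.rankAtStalk Ω[A⁄k] c := by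
    have hc' : IsLocallyConstant (Module.rankAtStalk (R := A) Ω[A⁄k]) :=
      Module.isLocallyConstant_rankAtStalk
    have h1 : ep ⤳ m := (PrimeSpectrum.le_iff_specializes ep m).1 hηm
    have h2 : ep ⤳ c := (PrimeSpectrum.le_iff_specializes ep c).1 hηc
    exact ((h1.map hc'.continuous).eq.symm).trans (h2.map hc'.continuous).eq
  rw [IsRegularLocalRing.iff_finrank_cotangentSpace, finrank_cotangentSpace_maximal (k := k),
    IsLocalization.AtPrime.ringKrullDim_eq_height c.asIdeal, PrimeSpectrum.height_eq_orderHeight,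
    (hclosed c inferInstance hηc).2 huniq] at hreg
  refine IsRegularLocalRing.of_spanFinrank_maximalIdeal_le _ ?_
  rw [IsLocalRing.spanFinrank_maximalIdeal_eq_finrank_cotangentSpace,
    finrank_cotangentSpace_maximal (k := k), hrank, hreg,
    IsLocalization.AtPrime.ringKrullDim_eq_height m.asIdeal, PrimeSpectrum.height_eq_orderHeight]
  exact WithBot.coe_le_coe.2 (hclosed m inferInstance hηm).1

theorem smooth_of_generic_smooth_perfect [PerfectField k] [Module.Projective A Ω[A⁄k]]
    (hgen : ∀ q : PrimeSpectrum A, q.asIdeal ∈ minimalPrimes A → q ∈ Algebra.smoothLocus k A) :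
    Algebra.Smooth k A := by
  haveI := (Algebra.FinitePresentation.of_finiteType (R := k)).1 (inferInstance : Algebra.FiniteType k A)
  have hmax : ∀ m : PrimeSpectrum A, m.asIdeal.IsMaximal → m ∈ Algebra.smoothLocus k A := fun m hm => by
    haveI := hm
    haveI : Algebra.EssFiniteType k m.asIdeal.ResidueField :=
      Algebra.EssFiniteType.comp k A m.asIdeal.ResidueField
    exact SmoothReg.isSmoothAt_of_isRegularLocalRing m.asIdeal (isRegularLocalRing_of_generic_smooth hgen m)
  refine ⟨Algebra.smoothLocus_eq_univ_iff.1 (Set.eq_univ_of_forall fun p => ?_), inferInstance⟩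
  obtain ⟨m, hm, hle⟩ := Ideal.exists_le_maximal p.asIdeal p.2.ne_top
  exact Algebra.isOpen_smoothLocus.stableUnderGeneralization
    ((PrimeSpectrum.le_iff_specializes p ⟨m, hm.isPrime⟩).1 hle) (hmax ⟨m, hm.isPrime⟩ hm)

attribute [local instance] Algebra.TensorProduct.rightAlgebra in
/-- A finite type algebra with projective differentials which is smooth at the minimal primes is smooth. -/
theorem smooth_of_generic_smooth [Module.Projective A Ω[A⁄k]]
    (hgen : ∀ q : PrimeSpectrum A, q.asIdeal ∈ minimalPrimes A → q ∈ Algebra.smoothLocus k A) :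
    Algebra.Smooth k A := by
  let K := AlgebraicClosure k
  haveI := (Algebra.FinitePresentation.of_finiteType (R := k)).1 (inferInstance : Algebra.FiniteType k A)
  let A' := K ⊗[k] A
  haveI : Module.Projective A' Ω[A'⁄K] :=
    Module.Projective.of_equiv' (KaehlerDifferential.tensorKaehlerEquiv k K A A')
  haveI : Algebra.Smooth K A' := smooth_of_generic_smooth_perfect fun q' hq' => by
    let ir : A →+* A' := (Algebra.TensorProduct.includeRight : A →ₐ[k] A').toRingHom
    haveI : Algebra.IsPushout k A K A' := inferInstance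
    haveI : Module.Flat A A' := Module.Flat.isBaseChange k A K A' (f := (IsScalarTower.toAlgHom k K A').toLinearMap)
      (Algebra.IsPushout.out (R := k) (S := A) (R' := K) (S' := A'))
    have hq : (q'.asIdeal.comap (algebraMap A A')) ∈ minimalPrimes A := by
      obtain ⟨p, hp, hle⟩ := Ideal.exists_minimalPrimes_le (bot_le : (⊥ : Ideal A) ≤ q'.asIdeal.comap (algebraMap A A'))
      haveI := hp.1.1
      haveI : q'.asIdeal.LiesOver (q'.asIdeal.comap (algebraMap A A')) := ⟨rfl⟩
      obtain ⟨P, hPle, hPp, hPover⟩ :=
        Ideal.exists_ideal_le_liesOver_of_le (p := p) q'.asIdeal hle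
      haveI := hPp
      have : q'.asIdeal ≤ P := hq'.2 ⟨hPp, bot_le⟩ hPle
      have h2 := hPover.over
      rw [Ideal.under_def] at h2
      rwa [le_antisymm this hPle, ← h2]
    haveI : Algebra.IsSmoothAt k (q'.asIdeal.comap (algebraMap A A')) :=
      hgen (PrimeSpectrum.comap (algebraMap A A') q') hq
    obtain ⟨f, hf, hfs⟩ := Algebra.IsSmoothAt.exists_notMem_smooth (R := k) (q'.asIdeal.comap (algebraMap A A'))
    haveI := hfs
    haveI : Algebra.Smooth K (Localization.Away ((1 : K) ⊗ₜ[k] f)) :=
      Algebra.Smooth.of_equiv (IsLocalization.Away.tensorProductEquivTMulRight k K f (Localization.Away f))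
    exact Algebra.basicOpen_subset_smoothLocus_iff_smooth.2 inferInstance
      (show q' ∈ PrimeSpectrum.basicOpen ((1 : K) ⊗ₜ[k] f) from hf)
  exact Algebra.Smooth.of_smooth_tensorProduct_of_faithfullyFlat (R := k) (S := A) K

end Groth.Agent.PP38
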