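import Groth.Prelude.Def_RelSpec
import Groth.Prelude.Def_Omega3
import Groth.Agent.QCoh.Localize
import Mathlib

/-! The square-zero extension of the direct image algebra of an affine morphism by a module. -/

set_option autoImplicit false
set_option linter.style.haveILetI false

noncomputable section

universe u

open CategoryTheory CategoryTheory.Limits AlgebraicGeometry TopologicalSpace Opposite

namespace Groth.Agent.PP38.SqAlg

/-- The right action equal to the left one. -/
@[implicit_reducible] def opModule (P : Type u) [CommRing P] (M : Type u) [AddCommGroup M] [Module P M] :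
    Module Pᵐᵒᵖ M :=
  Module.compHom M ((RingEquiv.toOpposite P).symm.toRingHom)

attribute [local instance 10] opModule

theorem opCentral (P : Type u) [CommRing P] (M : Type u) [AddCommGroup M] [Module P M] :
    IsCentralScalar P M :=
  ⟨fun _ _ => rfl⟩

attribute [local instance 10] opCentral

variable {X S : Scheme.{u}} (p : X ⟶ S) (F : X.Modules)

/-- the ring over an open of the base -/
def T (U : S.Opens) : CommRingCat.{u} :=
  CommRingCat.of (TrivSqZeroExt Γ(X, p ⁻¹ᵁ U) Γ(F, p ⁻¹ᵁ U))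

/-- the pair -/
def mkT (U : S.Opens) (a : Γ(X, p ⁻¹ᵁ U)) (m : Γ(F, p ⁻¹ᵁ U)) : T p F U := (a, m)

/-- the function of an element -/
def fstT (U : S.Opens) : T p F U →+* Γ(X, p ⁻¹ᵁ U) :=
  (TrivSqZeroExt.fstHom Γ(X, p ⁻¹ᵁ U) Γ(X, p ⁻¹ᵁ U) Γ(F, p ⁻¹ᵁ U)).toRingHom

/-- the section of an element -/
def sndT (U : S.Opens) : T p F U →+ Γ(F, p ⁻¹ᵁ U) where
  toFun z := z.2
  map_zero' := rfl
  map_add' _ _ := rfl

variable {p F}

theorem extT {U : S.Opens} {z z' : T p F U} (h₁ : fstT p F U z = fstT p F U z')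
    (h₂ : sndT p F U z = sndT p F U z') : z = z' := TrivSqZeroExt.ext h₁ h₂

@[simp] theorem fstT_mkT {U : S.Opens} (a : Γ(X, p ⁻¹ᵁ U)) (m : Γ(F, p ⁻¹ᵁ U)) :
    fstT p F U (mkT p F U a m) = a := rfl

@[simp] theorem sndT_mkT {U : S.Opens} (a : Γ(X, p ⁻¹ᵁ U)) (m : Γ(F, p ⁻¹ᵁ U)) :
    sndT p F U (mkT p F U a m) = m := rfl

theorem sndT_mul {U : S.Opens} (z z' : T p F U) :
    sndT p F U (z * z') = fstT p F U z • sndT p F U z' + fstT p F U z' • sndT p F U z := rfl

theorem sndT_one {U : S.Opens} : sndT p F U 1 = 0 := rfl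

variable (p F)

/-- a ring map into the pairs -/
def liftT {R : Type u} [CommRing R] {U : S.Opens} (g : R →+* Γ(X, p ⁻¹ᵁ U)) (δ : R →+ Γ(F, p ⁻¹ᵁ U))
    (h : ∀ a b, δ (a * b) = g a • δ b + g b • δ a) : R →+* T p F U where
  toFun r := mkT p F U (g r) (δ r)
  map_one' := extT (by rw [fstT_mkT, map_one, map_one]) (by
    rw [sndT_mkT, sndT_one]
    have h1 := h 1 1
    rw [mul_one (1 : R), map_one g, one_smul] at h1
    exact left_eq_add.1 h1)
  map_mul' a b := extT (by rw [fstT_mkT, map_mul, map_mul, fstT_mkT, fstT_mkT])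
    (by rw [sndT_mkT, sndT_mul, fstT_mkT, fstT_mkT, sndT_mkT, sndT_mkT]; exact h a b)
  map_zero' := extT (by rw [fstT_mkT, map_zero, map_zero]) (by rw [sndT_mkT, map_zero, map_zero])
  map_add' a b := extT (by rw [fstT_mkT, map_add, map_add, fstT_mkT, fstT_mkT])
    (by rw [sndT_mkT, map_add, map_add, sndT_mkT, sndT_mkT])

/-- restriction -/
def resT {U V : S.Opens} (i : V ⟶ U) : T p F U →+* T p F V :=
  liftT p F ((X.presheaf.map ((Opens.map p.base).map i).op).hom.comp (fstT p F U))
    ((F.presheaf.map ((Opens.map p.base).map i).op).hom.comp (sndT p F U)) fun a b => by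
      show F.presheaf.map _ (sndT p F U (a * b)) = _
      rw [sndT_mul, map_add, Scheme.Modules.map_smul, Scheme.Modules.map_smul]
      rfl

@[simp] theorem fstT_resT {U V : S.Opens} (i : V ⟶ U) (z : T p F U) :
    fstT p F V (resT p F i z) = X.presheaf.map ((Opens.map p.base).map i).op (fstT p F U z) := rfl

@[simp] theorem sndT_resT {U V : S.Opens} (i : V ⟶ U) (z : T p F U) :
    sndT p F V (resT p F i z) = F.presheaf.map ((Opens.map p.base).map i).op (sndT p F U z) := rfl

/-- the presheaf of pairs -/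
def sqPresheaf : TopCat.Presheaf CommRingCat.{u} S.carrier where
  obj U := T p F U.unop
  map i := CommRingCat.ofHom (resT p F i.unop)
  map_id U := CommRingCat.hom_ext (RingHom.ext fun z => extT
    (congr($(X.presheaf.map_id _) (fstT p F U.unop z))) (congr($(F.presheaf.map_id _) (sndT p F U.unop z))))
  map_comp i j := CommRingCat.hom_ext (RingHom.ext fun z => extT
    (congr($(X.presheaf.map_comp _ _) (fstT p F _ z))) (congr($(F.presheaf.map_comp _ _) (sndT p F _ z))))

theorem isSheaf_sqPresheaf : (sqPresheaf p F).IsSheaf := by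
  rw [TopCat.Presheaf.isSheaf_iff_isSheafUniqueGluing]
  intro ι U sf hsf
  let G₁ : TopCat.Sheaf CommRingCat.{u} S.carrier :=
    ⟨p.base _* X.presheaf, TopCat.Sheaf.pushforward_sheaf_of_sheaf _ X.sheaf.property⟩
  let G₂ : TopCat.Sheaf AddCommGrpCat.{u} S.carrier :=
    ⟨((Scheme.Modules.pushforward p).obj F).presheaf, ((Scheme.Modules.pushforward p).obj F).isSheaf⟩
  obtain ⟨a, ha, hau⟩ := TopCat.Sheaf.existsUnique_gluing G₁ U (fun k => fstT p F (U k) (sf k))
    fun k l => by
      have := congrArg (fstT p F _) (hsf k l)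
      exact this
  obtain ⟨m, hm, hmu⟩ := TopCat.Sheaf.existsUnique_gluing G₂ U (fun k => sndT p F (U k) (sf k))
    fun k l => by
      have := congrArg (sndT p F _) (hsf k l)
      exact this
  refine ⟨mkT p F (iSup U) a m, fun k => extT (ha k) (hm k), fun z hz => extT ?_ ?_⟩
  · exact hau _ fun k => congrArg (fstT p F _) (hz k)
  · exact hmu _ fun k => congrArg (sndT p F _) (hz k)

/-- the structure map -/
def sqStr : S.presheaf ⟶ sqPresheaf p F where
  app U := CommRingCat.ofHom (liftT p F (p.app U.unop).hom 0 fun a b => by simp)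
  naturality U V i := CommRingCat.hom_ext (RingHom.ext fun r => extT
    (congr($(p.naturality i) r)) ((map_zero (F.presheaf.map ((Opens.map p.base).map i.unop).op).hom).symm))

variable [IsAffineHom p] (hF : Coh.IsQCoh F)

include hF in
omit [IsAffineHom p] in
theorem loc_facts {D W : X.Opens} (hD : IsAffineOpen D) (g : Γ(X, D)) (hW : W = X.basicOpen g) (h : W ≤ D) :
    IsUnit (X.presheaf.map (homOfLE h).op g) ∧
    (∀ a : Γ(X, W), ∃ (k : ℕ) (a' : Γ(X, D)),
      X.presheaf.map (homOfLE h).op a' = X.presheaf.map (homOfLE h).op g ^ k * a) ∧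
    (∀ a : Γ(F, W), ∃ (k : ℕ) (a' : Γ(F, D)),
      F.presheaf.map (homOfLE h).op a' = X.presheaf.map (homOfLE h).op g ^ k • a) ∧
    (∀ a : Γ(X, D), X.presheaf.map (homOfLE h).op a = 0 → ∃ k : ℕ, g ^ k * a = 0) ∧
    ∀ a : Γ(F, D), F.presheaf.map (homOfLE h).op a = 0 → ∃ k : ℕ, g ^ k • a = 0 := by
  subst hW
  haveI := hD.isLocalization_basicOpen g
  refine ⟨IsLocalization.Away.algebraMap_isUnit g, fun a => ?_, fun a => QCoh.exists_pow_smul_eq_map hF hD g a,
    fun a ha => ?_, fun a ha => QCoh.exists_pow_smul_eq_zero hF hD g a ha⟩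
  · obtain ⟨⟨a', _, k, rfl⟩, hk⟩ := IsLocalization.surj (Submonoid.powers g) a
    refine ⟨k, a', hk.symm.trans ?_⟩
    rw [map_pow, mul_comm]
    rfl
  · obtain ⟨⟨_, k, rfl⟩, hk⟩ := (IsLocalization.map_eq_zero_iff (Submonoid.powers g) Γ(X, X.basicOpen g) a).1 ha
    exact ⟨k, hk⟩

include hF in
theorem isQC_sqPresheaf : RelSpec.IsQC (sqPresheaf p F) (sqStr p F) := by
  intro U hU r
  let i : S.basicOpen r ⟶ U := homOfLE (S.basicOpen_le r)
  letI : Algebra (T p F U) (T p F (S.basicOpen r)) := (resT p F i).toAlgebra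
  let g := p.app U r
  let s : T p F U := mkT p F U g 0
  have hle : p ⁻¹ᵁ S.basicOpen r ≤ p ⁻¹ᵁ U := p.preimage_mono (S.basicOpen_le r)
  obtain ⟨hu, h1, h2, h3, h4⟩ := loc_facts F hF (hU.preimage p) g (p.preimage_basicOpen r) hle
  have hs : ∀ k : ℕ, s ^ k = mkT p F U (g ^ k) 0 := by
    intro k
    induction k with
    | zero => exact extT (by rw [pow_zero, map_one, fstT_mkT, pow_zero]) (by rw [pow_zero, sndT_one, sndT_mkT])
    | succ k ih =>
        rw [pow_succ, ih]
        exact extT (by rw [map_mul, fstT_mkT, fstT_mkT, fstT_mkT, pow_succ])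
          (by rw [sndT_mul, fstT_mkT, fstT_mkT, sndT_mkT, sndT_mkT, sndT_mkT, smul_zero, smul_zero, add_zero])
  have hres : ∀ k : ℕ, resT p F i (s ^ k) =
      mkT p F _ (X.presheaf.map (homOfLE hle).op g ^ k) 0 := fun k => by
    rw [hs]
    exact extT (by rw [fstT_resT, fstT_mkT, map_pow, fstT_mkT]; rfl)
      (by rw [sndT_resT, sndT_mkT, map_zero, sndT_mkT])
  show IsLocalization.Away s (T p F (S.basicOpen r))
  constructor
  constructor
  · rintro ⟨_, k, rfl⟩
    show IsUnit (resT p F i (s ^ k))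
    obtain ⟨w, hw⟩ := (hu.pow k).exists_right_inv
    rw [hres]
    exact IsUnit.of_mul_eq_one (mkT p F _ w 0) (extT (by rw [map_mul, fstT_mkT, fstT_mkT, map_one]; exact hw)
      (by rw [sndT_mul, fstT_mkT, fstT_mkT, sndT_mkT, sndT_mkT, smul_zero, smul_zero, add_zero, sndT_one]))
  · intro z
    obtain ⟨k, a', ha'⟩ := h1 (fstT p F _ z)
    obtain ⟨l, m', hm'⟩ := h2 (sndT p F _ z)
    refine ⟨⟨mkT p F U (g ^ l * a') (g ^ k • m'), ⟨s ^ (k + l), k + l, rfl⟩⟩, ?_⟩
    show z * resT p F i (s ^ (k + l)) = resT p F i _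
    rw [hres]
    refine extT ?_ ?_
    · rw [map_mul, fstT_mkT, fstT_resT, fstT_mkT, map_mul, map_pow]
      show _ = X.presheaf.map (homOfLE hle).op g ^ l * X.presheaf.map (homOfLE hle).op a'
      rw [ha', pow_add]
      ring
    · rw [sndT_mul, fstT_mkT, sndT_mkT, smul_zero, zero_add, sndT_resT, sndT_mkT, Scheme.Modules.map_smul, map_pow]
      show _ = X.presheaf.map (homOfLE hle).op g ^ k • F.presheaf.map (homOfLE hle).op m'
      rw [hm', smul_smul, pow_add]
  · intro x y hxy
    have hxy' : resT p F i x = resT p F i y := hxy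
    have ha : X.presheaf.map (homOfLE hle).op (fstT p F U x - fstT p F U y) = 0 := by
      rw [map_sub, sub_eq_zero]
      exact congrArg (fstT p F _) hxy'
    have hm : F.presheaf.map (homOfLE hle).op (sndT p F U x - sndT p F U y) = 0 := by
      rw [map_sub, sub_eq_zero]
      exact congrArg (sndT p F _) hxy'
    obtain ⟨k, hk⟩ := h3 _ ha
    obtain ⟨l, hl⟩ := h4 _ hm
    refine ⟨⟨s ^ (k + l), k + l, rfl⟩, ?_⟩
    show s ^ (k + l) * x = s ^ (k + l) * y
    rw [mul_sub, sub_eq_zero] at hk
    rw [smul_sub, sub_eq_zero] at hl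
    rw [hs]
    refine extT ?_ ?_
    · rw [map_mul, map_mul, fstT_mkT, pow_add, mul_comm (g ^ k), mul_assoc, mul_assoc, hk]
    · rw [sndT_mul, sndT_mul, fstT_mkT, sndT_mkT, smul_zero, smul_zero, add_zero, add_zero, pow_add,
        ← smul_smul, ← smul_smul, hl]

/-- the square-zero extension algebra -/
def sqAlg : RelSpec.QCAlg S where
  presheaf := sqPresheaf p F
  isSheaf := isSheaf_sqPresheaf p F
  str := sqStr p F
  isQC := isQC_sqPresheaf p F hF

/-- projection to the direct image algebra -/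
def sqFst : sqAlg p F hF ⟶ RelSpec.QCAlg.directImage p where
  hom :=
    { app := fun U => CommRingCat.ofHom (fstT p F U.unop)
      naturality := fun U V i => CommRingCat.hom_ext (RingHom.ext fun z => rfl) }
  comm := NatTrans.ext (funext fun U => CommRingCat.hom_ext (RingHom.ext fun r => rfl))

/-- the map of modules with prescribed components -/
def toSq {E : S.Modules} (a : E ⟶ (RelSpec.QCAlg.directImage p).toModule)
    (b : E ⟶ (Scheme.Modules.pushforward p).obj F) : E ⟶ (sqAlg p F hF).toModule :=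
  ⟨PresheafOfModules.homMk
    { app := fun U => AddCommGrpCat.ofHom (AddMonoidHom.mk'
        (fun e : Γ(E, U.unop) => (show Γ((sqAlg p F hF).toModule, U.unop) from
          mkT p F U.unop (a.app U.unop e) (b.app U.unop e)))
        (fun e e' => extT (map_add (a.app U.unop).hom e e') (map_add (b.app U.unop).hom e e')))
      naturality := fun U V i => AddCommGrpCat.ext fun e => extT
        (QCoh.map_app_comm a i.unop e) (QCoh.map_app_comm b i.unop e) }
    fun U r e => by
      show mkT p F U.unop (a.app U.unop (r • e)) (b.app U.unop (r • e)) =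
        mkT p F U.unop (p.app U.unop r) 0 * mkT p F U.unop (a.app U.unop e) (b.app U.unop e)
      refine extT ?_ ?_
      · refine Eq.trans ?_ (map_mul (fstT p F U.unop) _ _).symm
        exact Scheme.Modules.Hom.app_smul a r e
      · refine Eq.trans ?_ (sndT_mul (p := p) (F := F) _ _).symm
        refine (Scheme.Modules.Hom.app_smul b r e).trans ?_
        show _ = _ + (show Γ(X, p ⁻¹ᵁ U.unop) from a.app U.unop e) • (0 : Γ(F, p ⁻¹ᵁ U.unop))
        rw [smul_zero, add_zero]
        rfl⟩

/-- a map of modules gives a map of extensions -/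
def sqMap {G : X.Modules} (hG : Coh.IsQCoh G) (η : F ⟶ G) : sqAlg p F hF ⟶ sqAlg p G hG where
  hom :=
    { app := fun U => CommRingCat.ofHom (liftT p G (fstT p F U.unop) ((η.app (p ⁻¹ᵁ U.unop)).hom.comp (sndT p F U.unop))
        fun a b => by
          refine (congrArg (η.app (p ⁻¹ᵁ U.unop)) (sndT_mul (p := p) (F := F) (U := U.unop) a b)).trans ?_
          rw [map_add, Scheme.Modules.Hom.app_smul, Scheme.Modules.Hom.app_smul]
          rfl)
      naturality := fun U V i => CommRingCat.hom_ext (RingHom.ext fun z => extT rfl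
        (QCoh.map_app_comm η ((Opens.map p.base).map i.unop) (sndT p F U.unop z))) }
  comm := NatTrans.ext (funext fun U => CommRingCat.hom_ext (RingHom.ext fun r => extT rfl
    (map_zero (η.app (p ⁻¹ᵁ U.unop)).hom)))

/-- the graph of a derivation -/
def sqGraph (d : OmegaSh.Der p F) : RelSpec.QCAlg.directImage p ⟶ sqAlg p F hF where
  hom :=
    { app := fun U => CommRingCat.ofHom (liftT p F (RingHom.id _) (d.app (p ⁻¹ᵁ U.unop)) fun a b =>
        d.d_mul (X := op (p ⁻¹ᵁ U.unop)) a b)
      naturality := fun U V i => CommRingCat.hom_ext (RingHom.ext fun z => extT rfl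
        (d.d_map ((Opens.map p.base).map i.unop).op z)) }
  comm := NatTrans.ext (funext fun U => CommRingCat.hom_ext (RingHom.ext fun r => extT rfl
    (d.d_app (X := U) r)))

theorem sndT_sqMap {G : X.Modules} (hG : Coh.IsQCoh G) (η : F ⟶ G) (U : S.Opens) (z : T p F U) :
    sndT p G U ((sqMap p F hF hG η).hom.app (op U) z) = η.app (p ⁻¹ᵁ U) (sndT p F U z) := rfl

theorem sndT_sqGraph (d : OmegaSh.Der p F) (U : S.Opens) (a : Γ(X, p ⁻¹ᵁ U)) :
    sndT p F U ((sqGraph p F hF d).hom.app (op U) a) = d.app (p ⁻¹ᵁ U) a := rfl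

end Groth.Agent.PP38.SqAlg

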