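import Groth.Agent.PPSheaf.Gen
import Groth.Agent.PP38.DiffAlg

/-!
# The local rings of the neighbourhoods of the diagonal
-/

set_option autoImplicit false
set_option linter.style.haveILetI false

noncomputable section

universe u

open CategoryTheory CategoryTheory.Limits AlgebraicGeometry TopologicalSpace Opposite
open scoped TensorProduct

namespace Groth.Agent.PP38

variable {X S : Scheme.{u}} (f : X ⟶ S) (n : ℕ) (z : PrinPart.nbhd f n)

/-- The left structure map at `z`. -/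
def r1 : X.presheaf.stalk (PrinPart.pr1 f n z) →+* (PrinPart.nbhd f n).presheaf.stalk z :=
  ((PrinPart.pr1 f n).stalkMap z).hom

/-- Germs at `pr₁ z` as germs at `pr₂ z`. -/
def sc : X.presheaf.stalk (PrinPart.pr1 f n z) →+* X.presheaf.stalk (PrinPart.pr2 f n z) :=
  (X.presheaf.stalkCongr (.of_eq (PrinPart.pr1_apply f n z))).hom.hom

/-- The right structure map at `z`. -/
def r2 : X.presheaf.stalk (PrinPart.pr1 f n z) →+* (PrinPart.nbhd f n).presheaf.stalk z :=
  ((PrinPart.pr2 f n).stalkMap z).hom.comp (sc f n z)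

theorem sc_surjective : Function.Surjective (sc f n z) :=
  (ConcreteCategory.bijective_of_isIso
    (X.presheaf.stalkCongr (.of_eq (PrinPart.pr1_apply f n z))).hom).2

theorem germ_congr' {x y : X} (e : x = y) (U : X.Opens) (hx : x ∈ U) (hy : y ∈ U) (b : Γ(X, U)) :
    (X.presheaf.stalkCongr (.of_eq e)).hom (X.presheaf.germ U x hx b) = X.presheaf.germ U y hy b := by
  subst e
  simp [TopCat.Presheaf.stalkCongr]

theorem sc_germ (U : X.Opens) (h : PrinPart.pr1 f n z ∈ U) (b : Γ(X, U)) :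
    sc f n z (X.presheaf.germ U _ h b) =
      X.presheaf.germ U (PrinPart.pr2 f n z) (PrinPart.pr1_apply f n z ▸ h) b :=
  germ_congr' (PrinPart.pr1_apply f n z) U h _ b

/-- An element of the tensor square with unit image under multiplication is invertible modulo `I^k`. -/
theorem mem_pow_of_mul_mem {A R : Type*} [CommRing A] [CommRing R] [Algebra A R] (k : ℕ)
    {τ σ : R ⊗[A] R} (hτ : IsUnit (Algebra.TensorProduct.lmul' A (S := R) τ))
    (h : τ * σ ∈ KaehlerDifferential.ideal A R ^ k) : σ ∈ KaehlerDifferential.ideal A R ^ k := by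
  set I := KaehlerDifferential.ideal A R
  set m := Algebra.TensorProduct.lmul' A (S := R) τ
  have hi : τ - m ⊗ₜ 1 ∈ I := by
    show τ - m ⊗ₜ 1 ∈ RingHom.ker _
    rw [RingHom.mem_ker]
    show Algebra.TensorProduct.lmul' A (τ - m ⊗ₜ 1) = 0
    simp [m]
  let q := Ideal.Quotient.mk (I ^ k)
  have hu : IsUnit (q τ) := by
    have h1 : IsUnit (q (m ⊗ₜ 1)) :=
      (hτ.map (Algebra.TensorProduct.includeLeftRingHom : R →+* R ⊗[A] R)).map q
    have h2 : IsNilpotent (q (τ - m ⊗ₜ 1)) :=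
      ⟨k, by rw [← map_pow, Ideal.Quotient.eq_zero_iff_mem]; exact Ideal.pow_mem_pow hi k⟩
    have h3 := h2.isUnit_add_left_of_commute h1 (Commute.all _ _)
    rwa [← map_add, add_sub_cancel] at h3
  rw [← Ideal.Quotient.eq_zero_iff_mem, map_mul] at h
  exact Ideal.Quotient.eq_zero_iff_mem.1 (hu.mul_right_eq_zero.1 h)

set_option maxHeartbeats 1000000 in
/-- The stalk of the neighbourhood is the tensor square of the stalk modulo `I^(n+1)`. -/
theorem exists_theta :
    ∃ (V : S.affineOpens) (U : X.affineOpens) (e : U.1 ≤ f ⁻¹ᵁ V.1) (hx : PrinPart.pr1 f n z ∈ U.1),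
      letI := ((X.presheaf.germ U.1 _ hx).hom.comp (f.appLE V.1 U.1 e).hom).toAlgebra
      ∃ θ : X.presheaf.stalk (PrinPart.pr1 f n z) ⊗[Γ(S, V.1)] X.presheaf.stalk (PrinPart.pr1 f n z) →+*
          (PrinPart.nbhd f n).presheaf.stalk z,
        Function.Surjective θ ∧
        RingHom.ker θ ≤ KaehlerDifferential.ideal Γ(S, V.1) (X.presheaf.stalk (PrinPart.pr1 f n z)) ^ (n + 1) ∧
        (∀ a, θ (a ⊗ₜ 1) = r1 f n z a) ∧ ∀ b, θ (1 ⊗ₜ b) = r2 f n z b := by
  obtain ⟨V, U, hxU, e⟩ := PPSheaf.exists_affine_pair f (PrinPart.pr1 f n z)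
  refine ⟨V, U, e, hxU, ?_⟩
  let R := X.presheaf.stalk (PrinPart.pr1 f n z)
  let T := (PrinPart.nbhd f n).presheaf.stalk z
  letI : Algebra Γ(S, V.1) R := ((X.presheaf.germ U.1 _ hxU).hom.comp (f.appLE V.1 U.1 e).hom).toAlgebra
  letI algB : Algebra Γ(S, V.1) Γ(X, U.1) := (f.appLE V.1 U.1 e).hom.toAlgebra
  obtain ⟨hZu, ψ, hsurj, hker, hl, hr⟩ := PPSheaf.exists_chart f V U e n rfl
  have hz : z ∈ PrinPart.pr1 f n ⁻¹ᵁ U.1 := hxU
  let g := ((PrinPart.nbhd f n).presheaf.germ _ z hz).hom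
  let lam : Γ(X, U.1) →ₐ[Γ(S, V.1)] R :=
    { (X.presheaf.germ U.1 _ hxU).hom with commutes' := fun _ => rfl }
  have h1 : ∀ b, r1 f n z (lam b) = g (ψ (b ⊗ₜ 1)) := fun b => by
    rw [hl]; exact Scheme.Hom.germ_stalkMap_apply (PrinPart.pr1 f n) U.1 z hxU b
  have h2 : ∀ b, r2 f n z (lam b) = g (ψ (1 ⊗ₜ b)) := fun b => by
    rw [hr]
    show (PrinPart.pr2 f n).stalkMap z (sc f n z (X.presheaf.germ U.1 _ hxU b)) = _
    rw [sc_germ]
    exact (PPSheaf.germ_appLE_stalkMap (PrinPart.pr2 f n) U.1 (PrinPart.pr1 f n ⁻¹ᵁ U.1) (PrinPart.preimage_pr1 f n U.1).le z hz b).symm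
  have hA : ∀ s : Γ(S, V.1), r1 f n z (algebraMap _ R s) = r2 f n z (algebraMap _ R s) := fun s => by
    rw [← lam.commutes, h1, h2, Algebra.algebraMap_eq_smul_one, TensorProduct.smul_tmul]
  letI : Algebra Γ(S, V.1) T := ((r1 f n z).comp (algebraMap Γ(S, V.1) R)).toAlgebra
  let ρ1 : R →ₐ[Γ(S, V.1)] T := { r1 f n z with commutes' := fun _ => rfl }
  let ρ2 : R →ₐ[Γ(S, V.1)] T := { r2 f n z with commutes' := fun s => (hA s).symm }
  let θ := Algebra.TensorProduct.lift ρ1 ρ2 fun _ _ => Commute.all _ _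
  have θ1 : ∀ a, θ (a ⊗ₜ 1) = r1 f n z a := fun a => by
    show Algebra.TensorProduct.lift _ _ _ _ = _
    rw [Algebra.TensorProduct.lift_tmul, map_one, mul_one]; rfl
  have θ2 : ∀ b, θ (1 ⊗ₜ b) = r2 f n z b := fun b => by
    show Algebra.TensorProduct.lift _ _ _ _ = _
    rw [Algebra.TensorProduct.lift_tmul, map_one, one_mul]; rfl
  let Λ := Algebra.TensorProduct.map lam lam
  have hΛ : ∀ t, θ (Λ t) = g (ψ t) := by
    intro t
    induction t with
    | zero => simp
    | add a b ha hb => simp only [map_add, ha, hb]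
    | tmul a b =>
      rw [show a ⊗ₜ[Γ(S, V.1)] b = (a ⊗ₜ 1) * (1 ⊗ₜ b) by simp]
      simp only [map_mul]
      congr 1
      · show θ (Λ (a ⊗ₜ 1)) = _
        rw [Algebra.TensorProduct.map_tmul, map_one, θ1, h1]
      · show θ (Λ (1 ⊗ₜ b)) = _
        rw [Algebra.TensorProduct.map_tmul, map_one, θ2, h2]
  have hcomm : ∀ u, Algebra.TensorProduct.lmul' Γ(S, V.1) (S := R) (Λ u) =
      lam (Algebra.TensorProduct.lmul' Γ(S, V.1) (S := Γ(X, U.1)) u) := by
    intro u
    induction u with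
    | zero => simp
    | add a b ha hb => simp only [map_add, ha, hb]
    | tmul a b => simp [Λ]
  refine ⟨θ.toRingHom, ?_, ?_, θ1, θ2⟩
  · intro t
    have ht : t ∈ PPSheaf.prodGerms f n z := PPSheaf.prodGerms_eq_top f n z ▸ Subring.mem_top t
    obtain ⟨τ, rfl⟩ := ht
    induction τ using TensorProduct.induction_on with
    | zero => exact ⟨0, by simp⟩
    | add a b ha hb =>
      obtain ⟨c, hc⟩ := ha
      obtain ⟨d, hd⟩ := hb
      exact ⟨c + d, by rw [map_add, map_add, hc, hd]⟩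
    | tmul a b =>
      obtain ⟨b, rfl⟩ := sc_surjective f n z b
      refine ⟨(a ⊗ₜ 1) * (1 ⊗ₜ b), ?_⟩
      rw [map_mul]
      show θ _ * θ _ = _
      rw [θ1, θ2]
      show _ = Algebra.TensorProduct.productMap _ _ (_ ⊗ₜ _)
      rw [Algebra.TensorProduct.productMap_apply_tmul]
      rfl
  · intro t ht
    letI := X.presheaf.algebra_section_stalk (U := U.1) ⟨PrinPart.pr1 f n z, hxU⟩
    haveI := U.2.isLocalization_stalk ⟨PrinPart.pr1 f n z, hxU⟩
    set P := (U.2.primeIdealOf ⟨PrinPart.pr1 f n z, hxU⟩).asIdeal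
    have hfrac : ∀ t : R ⊗[Γ(S, V.1)] R, ∃ w0, IsUnit (Λ w0) ∧ ∃ t0, Λ w0 * t = Λ t0 := by
      intro t
      induction t with
      | zero => exact ⟨1, by rw [map_one]; exact isUnit_one, 0, by simp⟩
      | add a b ha hb =>
        obtain ⟨w, hw, a0, ha⟩ := ha
        obtain ⟨v, hv, b0, hb⟩ := hb
        refine ⟨w * v, by rw [map_mul]; exact hw.mul hv, v * a0 + w * b0, ?_⟩
        rw [map_add, map_mul, map_mul, map_mul, ← ha, ← hb]
        ring
      | tmul a b =>
        obtain ⟨⟨a0, s⟩, ha⟩ := IsLocalization.surj P.primeCompl a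
        obtain ⟨⟨b0, s'⟩, hb⟩ := IsLocalization.surj P.primeCompl b
        refine ⟨(s.1 ⊗ₜ 1) * (1 ⊗ₜ s'.1), ?_, a0 ⊗ₜ b0, ?_⟩
        · rw [map_mul, Algebra.TensorProduct.map_tmul, Algebra.TensorProduct.map_tmul, map_one]
          exact ((IsLocalization.map_units R s).map
              (Algebra.TensorProduct.includeLeftRingHom : R →+* R ⊗[Γ(S, V.1)] R)).mul
            ((IsLocalization.map_units R s').map
              (Algebra.TensorProduct.includeRight : R →ₐ[Γ(S, V.1)] R ⊗[Γ(S, V.1)] R))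
        · rw [Algebra.TensorProduct.tmul_mul_tmul, one_mul, mul_one, Algebra.TensorProduct.map_tmul,
            Algebra.TensorProduct.map_tmul, Algebra.TensorProduct.tmul_mul_tmul, mul_comm (lam _) a,
            mul_comm (lam _) b]
          exact congrArg₂ (fun p q => p ⊗ₜ[Γ(S, V.1)] q) ha hb
    obtain ⟨w0, hw, t0, ht0⟩ := hfrac t
    have h0 : g (ψ t0) = 0 := by
      rw [← hΛ, ← ht0, map_mul]
      show _ * θ.toRingHom t = 0
      rw [RingHom.mem_ker.1 ht, mul_zero]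
    letI := (PrinPart.nbhd f n).presheaf.algebra_section_stalk (U := PrinPart.pr1 f n ⁻¹ᵁ U.1) ⟨z, hz⟩
    haveI := hZu.isLocalization_stalk ⟨z, hz⟩
    obtain ⟨c, hc⟩ := (IsLocalization.map_eq_zero_iff
      (hZu.primeIdealOf ⟨z, hz⟩).asIdeal.primeCompl T (ψ t0)).1 h0
    obtain ⟨tc, htc⟩ := hsurj c.1
    have hmem : tc * t0 ∈ KaehlerDifferential.ideal Γ(S, V.1) Γ(X, U.1) ^ (n + 1) := by
      rw [← hker, RingHom.mem_ker, map_mul, htc, hc]
    have hIle : ((KaehlerDifferential.ideal Γ(S, V.1) Γ(X, U.1)) ^ (n + 1)).map Λ.toRingHom ≤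
        KaehlerDifferential.ideal Γ(S, V.1) R ^ (n + 1) := by
      rw [Ideal.map_pow]
      refine Ideal.pow_right_mono ?_ _
      rw [← KaehlerDifferential.span_range_eq_ideal, Ideal.map_span, Ideal.span_le]
      rintro _ ⟨_, ⟨s, rfl⟩, rfl⟩
      show Λ _ ∈ _
      rw [map_sub, Algebra.TensorProduct.map_tmul, Algebra.TensorProduct.map_tmul, map_one]
      exact KaehlerDifferential.one_smul_sub_smul_one_mem_ideal _ _
    have hmem' : Λ tc * (Λ w0 * t) ∈ KaehlerDifferential.ideal Γ(S, V.1) R ^ (n + 1) := by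
      rw [ht0, ← map_mul]; exact hIle (Ideal.mem_map_of_mem _ hmem)
    rw [← mul_assoc] at hmem'
    refine mem_pow_of_mul_mem _ ?_ hmem'
    rw [map_mul]
    refine IsUnit.mul ?_ (hw.map _)
    have hu : IsUnit (θ (Λ tc)) := by
      rw [hΛ, htc]
      exact IsLocalization.map_units T c
    set m := Algebra.TensorProduct.lmul' Γ(S, V.1) (S := R) (Λ tc) with hm
    have hnil : IsNilpotent (θ (Λ tc) - θ (m ⊗ₜ 1)) := by
      refine ⟨n + 1, ?_⟩
      set m0 := Algebra.TensorProduct.lmul' Γ(S, V.1) (S := Γ(X, U.1)) tc with hm0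
      have hmm : lam m0 = m := (hcomm tc).symm
      have : m ⊗ₜ 1 = Λ (m0 ⊗ₜ 1) := by
        rw [Algebra.TensorProduct.map_tmul, map_one, hmm]
      rw [this, hΛ, hΛ, ← map_sub, ← map_sub, ← map_pow, ← map_pow]
      show g (ψ _) = 0
      rw [show ψ ((tc - m0 ⊗ₜ 1) ^ (n + 1)) = 0 from RingHom.mem_ker.1 (hker ▸ Ideal.pow_mem_pow
        (by
          show tc - m0 ⊗ₜ 1 ∈ RingHom.ker _
          rw [RingHom.mem_ker]
          show Algebra.TensorProduct.lmul' Γ(S, V.1) _ = 0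
          simp [m0]) (n + 1)), map_zero]
    have hu' : IsUnit (r1 f n z m) := by
      rw [← θ1]
      have := hnil.neg.isUnit_add_left_of_commute hu (Commute.all _ _)
      rwa [neg_sub, add_sub_cancel] at this
    exact isUnit_of_map_unit ((PrinPart.pr1 f n).stalkMap z).hom m hu'

end Groth.Agent.PP38
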