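import Groth.Agent.PPSheaf.Gen
import Groth.Agent.PPLib.Props
import Groth.Agent.QCoh.Qcqs
import Groth.Agent.QCoh.PullbackBC
import Groth.Agent.QCoh.FT
import Mathlib.AlgebraicGeometry.Morphisms.FinitePresentation

/-!
# Quasi-coherence and finiteness of principal parts
-/

set_option autoImplicit false
set_option linter.style.haveILetI false

noncomputable section

universe u

open CategoryTheory CategoryTheory.Limits AlgebraicGeometry TopologicalSpace Opposite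
open scoped TensorProduct

namespace Groth.Agent.PP38

variable {X S : Scheme.{u}} (f : X ⟶ S) (n : ℕ)

theorem pr1_toNbhd (y : X) : PrinPart.pr1 f n (PrinPart.toNbhd f n y) = y := by
  rw [← Scheme.Hom.comp_apply, PrinPart.toNbhd_pr1]; rfl

theorem toNbhd_pr1' (z : PrinPart.nbhd f n) : PrinPart.toNbhd f n (PrinPart.pr1 f n z) = z := by
  obtain ⟨y, rfl⟩ := PrinPart.toInfNbhd_surjective (PrinPart.diagCl f) n z
  rw [pr1_toNbhd]

/-- `pr₁` is a homeomorphism. -/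
def pr1Homeo : PrinPart.nbhd f n ≃ₜ X where
  toFun := PrinPart.pr1 f n
  invFun := PrinPart.toNbhd f n
  left_inv := toNbhd_pr1' f n
  right_inv := pr1_toNbhd f n
  continuous_toFun := (PrinPart.pr1 f n).continuous
  continuous_invFun := (PrinPart.toNbhd f n).continuous

theorem isInducing_pr1 : Topology.IsInducing (PrinPart.pr1 f n) := (pr1Homeo f n).isInducing

instance isAffineHom_pr1 : IsAffineHom (PrinPart.pr1 f n) := by
  refine isAffineHom_of_forall_exists_isAffineOpen _ fun x => ?_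
  obtain ⟨V, U, hxU, e⟩ := PPSheaf.exists_affine_pair f x
  letI := (f.appLE V.1 U.1 e).hom.toAlgebra
  exact ⟨U.1, hxU, U.2, (PPSheaf.exists_chart f V U e n rfl).1⟩

theorem isQCoh_PMod (F : X.Modules) (hF : Coh.IsQCoh F) : Coh.IsQCoh (PrinPart.PMod f n F) :=
  QCoh.isQCoh_pushforward (PrinPart.pr1 f n) (QCoh.isQCoh_pullback (PrinPart.pr2 f n) hF)

/-- Sections of `P^n(F)` over a chart. -/
theorem exists_sections_equiv (V : S.affineOpens) (U : X.affineOpens) (e : U.1 ≤ f ⁻¹ᵁ V.1)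
    [Algebra Γ(S, V.1) Γ(X, U.1)] (halg : algebraMap Γ(S, V.1) Γ(X, U.1) = (f.appLE V.1 U.1 e).hom)
    (F : X.Modules) (hF : Coh.IsQCoh F) :
    letI : Algebra Γ(X, U.1) Γ(PrinPart.nbhd f n, PrinPart.pr1 f n ⁻¹ᵁ U.1) :=
      ((PrinPart.pr2 f n).appLE U.1 (PrinPart.pr1 f n ⁻¹ᵁ U.1) (PrinPart.preimage_pr1 f n U.1).le).hom.toAlgebra
    ∃ E : Γ(PrinPart.nbhd f n, PrinPart.pr1 f n ⁻¹ᵁ U.1) ⊗[Γ(X, U.1)] Γ(F, U.1) →+
        Γ(PrinPart.PMod f n F, U.1),
      Function.Bijective E ∧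
      (∀ (a : Γ(X, U.1)) (w : Γ(PrinPart.nbhd f n, PrinPart.pr1 f n ⁻¹ᵁ U.1) ⊗[Γ(X, U.1)] Γ(F, U.1)),
        E ((PrinPart.pr1 f n).app U.1 a • w) = a • E w) ∧
      ∀ (t : Γ(F, U.1)), E (1 ⊗ₜ t) = PrinPart.dP f n F U.1 t := by
  let Z := PrinPart.pr1 f n ⁻¹ᵁ U.1
  have hle : Z ≤ PrinPart.pr2 f n ⁻¹ᵁ U.1 := (PrinPart.preimage_pr1 f n U.1).le
  letI : Algebra Γ(X, U.1) Γ(PrinPart.nbhd f n, Z) := ((PrinPart.pr2 f n).appLE U.1 Z hle).hom.toAlgebra
  let N := (Scheme.Modules.pullback (PrinPart.pr2 f n)).obj F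
  letI : Module Γ(X, U.1) Γ(N, Z) := Module.compHom _ ((PrinPart.pr2 f n).appLE U.1 Z hle).hom
  haveI : IsScalarTower Γ(X, U.1) Γ(PrinPart.nbhd f n, Z) Γ(N, Z) :=
    ⟨fun a b c => mul_smul (((PrinPart.pr2 f n).appLE U.1 Z hle).hom a) b c⟩
  have hZ : IsAffineOpen Z := (PPSheaf.exists_chart f V U e n halg).1
  let l : Γ(F, U.1) →ₗ[Γ(X, U.1)] Γ(N, Z) :=
    { toFun := QCoh.pullSec (PrinPart.pr2 f n) F hle
      map_add' := QCoh.pullSec_add (PrinPart.pr2 f n) F hle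
      map_smul' := QCoh.pullSec_smul (PrinPart.pr2 f n) F hle }
  have hb := QCoh.isBaseChange_pullback U.2 (PrinPart.pr2 f n) hZ hF hle (fun r => rfl) l (fun x => rfl)
  refine ⟨hb.equiv.toLinearMap.toAddMonoidHom, hb.equiv.bijective, fun a w => ?_, fun t => ?_⟩
  · exact hb.equiv.map_smul _ w
  · show hb.equiv (1 ⊗ₜ t) = _
    rw [hb.equiv_tmul, one_smul]
    rfl

variable {n}

theorem exists_finite_chart [LocallyOfFiniteType f] (U : X.affineOpens) (V : S.affineOpens)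
    (e : U.1 ≤ f ⁻¹ᵁ V.1) :
    letI : Algebra Γ(X, U.1) Γ(PrinPart.nbhd f n, PrinPart.pr1 f n ⁻¹ᵁ U.1) :=
      ((PrinPart.pr1 f n).app U.1).hom.toAlgebra
    Module.Finite Γ(X, U.1) Γ(PrinPart.nbhd f n, PrinPart.pr1 f n ⁻¹ᵁ U.1) ∧
    (LocallyOfFinitePresentation f →
      Module.FinitePresentation Γ(X, U.1) Γ(PrinPart.nbhd f n, PrinPart.pr1 f n ⁻¹ᵁ U.1)) := by
  letI : Algebra Γ(S, V.1) Γ(X, U.1) := (f.appLE V.1 U.1 e).hom.toAlgebra
  obtain ⟨hZ, ψ, hsurj, hker, hl, hr⟩ := PPSheaf.exists_chart f V U e n rfl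
  letI : Algebra Γ(X, U.1) Γ(PrinPart.nbhd f n, PrinPart.pr1 f n ⁻¹ᵁ U.1) :=
    ((PrinPart.pr1 f n).app U.1).hom.toAlgebra
  let ψ' : Γ(X, U.1) ⊗[Γ(S, V.1)] Γ(X, U.1) →ₐ[Γ(X, U.1)]
      Γ(PrinPart.nbhd f n, PrinPart.pr1 f n ⁻¹ᵁ U.1) := { ψ with commutes' := hl }
  let e₁ : PP16.P n Γ(S, V.1) Γ(X, U.1) ≃ₐ[Γ(X, U.1)] Γ(PrinPart.nbhd f n, PrinPart.pr1 f n ⁻¹ᵁ U.1) :=
    (Ideal.quotientEquivAlgOfEq _ hker.symm).trans (Ideal.quotientKerAlgEquivOfSurjective (f := ψ') hsurj)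
  haveI : Algebra.FiniteType Γ(S, V.1) Γ(X, U.1) := f.finiteType_appLE V.2 U.2 e
  haveI := PPLib.finite_P (n := n) (A := Γ(S, V.1)) (B := Γ(X, U.1))
  refine ⟨Module.Finite.equiv e₁.toLinearEquiv, fun _ => ?_⟩
  haveI : Algebra.FinitePresentation Γ(S, V.1) Γ(X, U.1) := f.finitePresentation_appLE V.2 U.2 e
  haveI := PPLib.finitePresentation_P (n := n) (A := Γ(S, V.1)) (B := Γ(X, U.1))
  exact Module.FinitePresentation.of_equiv e₁.toLinearEquiv

theorem finite_of_semilinear {R T W N : Type u} [CommRing R] [CommRing T] (φ : R →+* T) [AddCommGroup W]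
    [Module T W] [AddCommGroup N] [Module R N] (E : W →+ N) (hE : Function.Bijective E)
    (hl : ∀ a w, E (φ a • w) = a • E w) (hT : @Module.Finite R T _ _ φ.toAlgebra.toModule)
    [Module.Finite T W] : Module.Finite R N := by
  letI := φ.toAlgebra
  letI := Module.compHom W φ
  haveI : IsScalarTower R T W := ⟨fun a b w => mul_smul (φ a) b w⟩
  haveI := hT
  haveI : Module.Finite R W := Module.Finite.trans T W
  let e : W ≃ₗ[R] N := LinearEquiv.ofBijective { E with map_smul' := hl } hE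
  exact Module.Finite.equiv e

theorem finitePresentation_of_semilinear {R T W N : Type u} [CommRing R] [CommRing T] (φ : R →+* T)
    [AddCommGroup W] [Module T W] [AddCommGroup N] [Module R N] (E : W →+ N) (hE : Function.Bijective E)
    (hl : ∀ a w, E (φ a • w) = a • E w) (hT : @Module.FinitePresentation R T _ _ φ.toAlgebra.toModule)
    [Module.FinitePresentation T W] : Module.FinitePresentation R N := by
  letI := φ.toAlgebra
  letI := Module.compHom W φ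
  haveI : IsScalarTower R T W := ⟨fun a b w => mul_smul (φ a) b w⟩
  haveI := hT
  haveI : Module.FinitePresentation R W := Module.FinitePresentation.trans R W T
  let e : W ≃ₗ[R] N := LinearEquiv.ofBijective { E with map_smul' := hl } hE
  exact Module.FinitePresentation.of_equiv e

/-- Affine charts. -/
abbrev ChartIdx : Type u := {p : X.affineOpens × S.affineOpens // (p.1.1 : X.Opens) ≤ f ⁻¹ᵁ p.2.1}

theorem iSup_chartIdx : IsOpenCover (fun i : ChartIdx f => i.1.1.1) :=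
  top_le_iff.1 fun x _ => Opens.mem_iSup.2 <| by
    obtain ⟨V, U, hxU, e⟩ := PPSheaf.exists_affine_pair f x
    exact ⟨⟨(U, V), e⟩, hxU⟩

theorem isFT_PMod [LocallyOfFiniteType f] (F : X.Modules) (hF : Coh.IsQCoh F) (hft : CohB1.IsFT F) :
    CohB1.IsFT (PrinPart.PMod f n F) := by
  refine QCoh.isFT_of_finite (isQCoh_PMod f n F hF) (fun i : ChartIdx f => i.1.1.1) (iSup_chartIdx f)
    (fun i => i.1.1.2) fun i => ?_
  obtain ⟨⟨U, V⟩, e⟩ := i
  letI : Algebra Γ(S, V.1) Γ(X, U.1) := (f.appLE V.1 U.1 e).hom.toAlgebra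
  obtain ⟨E, hE, hEl, -⟩ := exists_sections_equiv f n V U e rfl F hF
  let Z := PrinPart.pr1 f n ⁻¹ᵁ U.1
  haveI := QCoh.finite_of_isFT hF hft U.2
  letI algR : Algebra Γ(X, U.1) Γ(PrinPart.nbhd f n, Z) :=
    ((PrinPart.pr2 f n).appLE U.1 Z (PrinPart.preimage_pr1 f n U.1).le).hom.toAlgebra
  exact finite_of_semilinear ((PrinPart.pr1 f n).app U.1).hom E hE hEl
    (exists_finite_chart f (n := n) U V e).1

theorem isFP_PMod [LocallyOfFinitePresentation f] (F : X.Modules) (hF : Coh.IsQCoh F) (hfp : CohB1.IsFP F) :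
    CohB1.IsFP (PrinPart.PMod f n F) := by
  refine QCoh.isFP_of_finitePresentation (isQCoh_PMod f n F hF) (fun i : ChartIdx f => i.1.1.1)
    (iSup_chartIdx f) (fun i => i.1.1.2) fun i => ?_
  obtain ⟨⟨U, V⟩, e⟩ := i
  letI : Algebra Γ(S, V.1) Γ(X, U.1) := (f.appLE V.1 U.1 e).hom.toAlgebra
  obtain ⟨E, hE, hEl, -⟩ := exists_sections_equiv f n V U e rfl F hF
  let Z := PrinPart.pr1 f n ⁻¹ᵁ U.1
  haveI := QCoh.finitePresentation_of_isFP hfp U.2
  letI algR : Algebra Γ(X, U.1) Γ(PrinPart.nbhd f n, Z) :=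
    ((PrinPart.pr2 f n).appLE U.1 Z (PrinPart.preimage_pr1 f n U.1).le).hom.toAlgebra
  exact finitePresentation_of_semilinear ((PrinPart.pr1 f n).app U.1).hom E hE hEl
    ((exists_finite_chart f (n := n) U V e).2 ‹_›)

end Groth.Agent.PP38
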