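import Mathlib.LinearAlgebra.SymmetricAlgebra.Basic
import Mathlib

/-! The symmetric algebra of a finite projective module is smooth. -/

set_option autoImplicit false

universe u

namespace Groth.Agent.PP38

variable (R : Type u) [CommRing R] (M : Type u) [AddCommGroup M] [Module R M]

theorem formallySmooth_symmetricAlgebra [Module.Projective R M] :
    Algebra.FormallySmooth R (SymmetricAlgebra R M) := by
  refine Algebra.FormallySmooth.iff_comp_surjective.mpr ?_
  intro B _ _ I _ g
  obtain ⟨l, hl⟩ := Module.projective_lifting_property (Ideal.Quotient.mkₐ R I).toLinearMap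
    (g.toLinearMap ∘ₗ SymmetricAlgebra.ι R M) Ideal.Quotient.mk_surjective
  refine ⟨SymmetricAlgebra.lift l, SymmetricAlgebra.algHom_ext (LinearMap.ext fun v => ?_)⟩
  have := LinearMap.congr_fun hl v
  simp only [LinearMap.comp_apply, AlgHom.toLinearMap_apply] at this ⊢
  simpa using this

/-- a retract of a finitely presented algebra is finitely presented -/
theorem finitePresentation_of_retract {P S : Type*} [CommRing P] [CommRing S] [Algebra R P] [Algebra R S]
    [Algebra.FinitePresentation R P] (q : P →ₐ[R] S) (s : S →ₐ[R] P) (h : q.comp s = AlgHom.id R S) :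
    Algebra.FinitePresentation R S := by
  classical
  have hq : Function.Surjective q := fun x => ⟨s x, DFunLike.congr_fun h x⟩
  obtain ⟨t, ht⟩ := (inferInstance : Algebra.FiniteType R P).out
  refine .of_surjective hq ⟨(t.image fun x => x - s (q x) : Finset P), ?_⟩
  let I : Ideal P := Submodule.span P ((t.image fun x => x - s (q x) : Finset P) : Set P)
  refine le_antisymm (Submodule.span_le.2 fun y hy => ?_) fun a ha => ?_
  · simp only [Finset.coe_image, Set.mem_image] at hy
    obtain ⟨x, -, rfl⟩ := hy
    show q (x - s (q x)) = 0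
    rw [map_sub, sub_eq_zero]
    exact (DFunLike.congr_fun h (q x)).symm
  · have e : Ideal.Quotient.mkₐ R I = (Ideal.Quotient.mkₐ R I).comp (s.comp q) := by
      refine AlgHom.ext_of_adjoin_eq_top ht fun x hx => ?_
      refine Ideal.Quotient.eq.2 (Ideal.subset_span ?_)
      simp only [Finset.coe_image, Set.mem_image]
      exact ⟨x, hx, rfl⟩
    have := DFunLike.congr_fun e a
    refine Ideal.Quotient.eq_zero_iff_mem.1 (this.trans ?_)
    show Ideal.Quotient.mk I (s (q a)) = 0
    rw [show q a = 0 from ha, map_zero, map_zero]

theorem finitePresentation_symmetricAlgebra [Module.Projective R M] [Module.Finite R M] :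
    Algebra.FinitePresentation R (SymmetricAlgebra R M) := by
  obtain ⟨n, f, g, -, -, hfg⟩ := Module.Finite.exists_comp_eq_id_of_projective R M
  let F := Fin n → R
  let e := (SymmetricAlgebra.equivMvPolynomial (Pi.basisFun R (Fin n)))
  haveI : Algebra.FinitePresentation R (SymmetricAlgebra R F) := .equiv e.symm
  refine finitePresentation_of_retract R (SymmetricAlgebra.lift ((SymmetricAlgebra.ι R M).comp f))
    (SymmetricAlgebra.lift ((SymmetricAlgebra.ι R F).comp g)) (SymmetricAlgebra.algHom_ext (LinearMap.ext fun v => ?_))
  show SymmetricAlgebra.lift _ (SymmetricAlgebra.lift _ (SymmetricAlgebra.ι R M v)) = SymmetricAlgebra.ι R M v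
  rw [SymmetricAlgebra.lift_ι_apply, LinearMap.comp_apply, SymmetricAlgebra.lift_ι_apply]
  exact congrArg (SymmetricAlgebra.ι R M) (LinearMap.congr_fun hfg v)

theorem smooth_symmetricAlgebra [Module.Projective R M] [Module.Finite R M] :
    Algebra.Smooth R (SymmetricAlgebra R M) :=
  ⟨formallySmooth_symmetricAlgebra R M, finitePresentation_symmetricAlgebra R M⟩

end Groth.Agent.PP38
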